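import Cfsg.Agent.H7Held.ZData139

/-!
Checks for a part of the table of pattern 139.
-/

set_option autoImplicit false
set_option maxRecDepth 100000

namespace Cfsg.Agent.H7Held

set_option maxRecDepth 100000 in
theorem zTab139_chk10 : allB 64 (fun r => zTab139.entryOK (640 + r)) = true := by decide +kernel

set_option maxRecDepth 100000 in
theorem zTab139_chk11 : allB 64 (fun r => zTab139.entryOK (704 + r)) = true := by decide +kernel

set_option maxRecDepth 100000 in
theorem zTab139_chk12 : allB 64 (fun r => zTab139.entryOK (768 + r)) = true := by decide +kernel

set_option maxRecDepth 100000 in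
theorem zTab139_chk13 : allB 64 (fun r => zTab139.entryOK (832 + r)) = true := by decide +kernel

set_option maxRecDepth 100000 in
theorem zTab139_chk14 : allB 64 (fun r => zTab139.entryOK (896 + r)) = true := by decide +kernel


end Cfsg.Agent.H7Held
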