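import Cfsg.Agent.H7Held.ZData139

/-!
Checks for a part of the table of pattern 139.
-/

set_option autoImplicit false
set_option maxRecDepth 100000

namespace Cfsg.Agent.H7Held

set_option maxRecDepth 100000 in
theorem zTab139_chk15 : allB 64 (fun r => zTab139.entryOK (960 + r)) = true := by decide +kernel


end Cfsg.Agent.H7Held
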