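import Cfsg.Agent.H7Held.ZChk139a
import Cfsg.Agent.H7Held.ZChk139b
import Cfsg.Agent.H7Held.ZChk139c
import Cfsg.Agent.H7Held.ZChk139d

/-!
The table of pattern 139 passes the checks.
-/

set_option autoImplicit false
set_option maxRecDepth 100000

namespace Cfsg.Agent.H7Held

theorem zTab139_all : ∀ i < zTab139.N, zTab139.entryOK i = true := by
  intro i hi
  have hi : i < 1017 := hi
  rcases Nat.lt_or_ge i 64 with h | h
  · have := allB_sound zTab139_chk0 (i - 0) (by omega)
    rwa [show 0 + (i - 0) = i by omega] at this
  rcases Nat.lt_or_ge i 128 with h | h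
  · have := allB_sound zTab139_chk1 (i - 64) (by omega)
    rwa [show 64 + (i - 64) = i by omega] at this
  rcases Nat.lt_or_ge i 192 with h | h
  · have := allB_sound zTab139_chk2 (i - 128) (by omega)
    rwa [show 128 + (i - 128) = i by omega] at this
  rcases Nat.lt_or_ge i 256 with h | h
  · have := allB_sound zTab139_chk3 (i - 192) (by omega)
    rwa [show 192 + (i - 192) = i by omega] at this
  rcases Nat.lt_or_ge i 320 with h | h
  · have := allB_sound zTab139_chk4 (i - 256) (by omega)
    rwa [show 256 + (i - 256) = i by omega] at this
  rcases Nat.lt_or_ge i 384 with h | h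
  · have := allB_sound zTab139_chk5 (i - 320) (by omega)
    rwa [show 320 + (i - 320) = i by omega] at this
  rcases Nat.lt_or_ge i 448 with h | h
  · have := allB_sound zTab139_chk6 (i - 384) (by omega)
    rwa [show 384 + (i - 384) = i by omega] at this
  rcases Nat.lt_or_ge i 512 with h | h
  · have := allB_sound zTab139_chk7 (i - 448) (by omega)
    rwa [show 448 + (i - 448) = i by omega] at this
  rcases Nat.lt_or_ge i 576 with h | h
  · have := allB_sound zTab139_chk8 (i - 512) (by omega)
    rwa [show 512 + (i - 512) = i by omega] at this
  rcases Nat.lt_or_ge i 640 with h | h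
  · have := allB_sound zTab139_chk9 (i - 576) (by omega)
    rwa [show 576 + (i - 576) = i by omega] at this
  rcases Nat.lt_or_ge i 704 with h | h
  · have := allB_sound zTab139_chk10 (i - 640) (by omega)
    rwa [show 640 + (i - 640) = i by omega] at this
  rcases Nat.lt_or_ge i 768 with h | h
  · have := allB_sound zTab139_chk11 (i - 704) (by omega)
    rwa [show 704 + (i - 704) = i by omega] at this
  rcases Nat.lt_or_ge i 832 with h | h
  · have := allB_sound zTab139_chk12 (i - 768) (by omega)
    rwa [show 768 + (i - 768) = i by omega] at this
  rcases Nat.lt_or_ge i 896 with h | h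
  · have := allB_sound zTab139_chk13 (i - 832) (by omega)
    rwa [show 832 + (i - 832) = i by omega] at this
  rcases Nat.lt_or_ge i 960 with h | h
  · have := allB_sound zTab139_chk14 (i - 896) (by omega)
    rwa [show 896 + (i - 896) = i by omega] at this
  have := allB_sound zTab139_chk15 (i - 960) (by omega)
  rwa [show 960 + (i - 960) = i by omega] at this

end Cfsg.Agent.H7Held
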