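import Cfsg.Agent.H7Held.ZData143

/-!
Checks for a part of the table of pattern 143.
-/

set_option autoImplicit false
set_option maxRecDepth 100000

namespace Cfsg.Agent.H7Held

set_option maxRecDepth 100000 in
theorem zTab143_chk5 : allB 64 (fun r => zTab143.entryOK (320 + r)) = true := by decide +kernel

set_option maxRecDepth 100000 in
theorem zTab143_chk6 : allB 64 (fun r => zTab143.entryOK (384 + r)) = true := by decide +kernel

set_option maxRecDepth 100000 in
theorem zTab143_chk7 : allB 64 (fun r => zTab143.entryOK (448 + r)) = true := by decide +kernel

set_option maxRecDepth 100000 in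
theorem zTab143_chk8 : allB 64 (fun r => zTab143.entryOK (512 + r)) = true := by decide +kernel

set_option maxRecDepth 100000 in
theorem zTab143_chk9 : allB 64 (fun r => zTab143.entryOK (576 + r)) = true := by decide +kernel


end Cfsg.Agent.H7Held
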