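import Cfsg.Agent.H7Held.ZChk143a
import Cfsg.Agent.H7Held.ZChk143b
import Cfsg.Agent.H7Held.ZChk143c

/-!
The table of pattern 143 passes the checks.
-/

set_option autoImplicit false
set_option maxRecDepth 100000

namespace Cfsg.Agent.H7Held

theorem zTab143_all : ∀ i < zTab143.N, zTab143.entryOK i = true := by
  intro i hi
  have hi : i < 641 := hi
  rcases Nat.lt_or_ge i 64 with h | h
  · have := allB_sound zTab143_chk0 (i - 0) (by omega)
    rwa [show 0 + (i - 0) = i by omega] at this
  rcases Nat.lt_or_ge i 128 with h | h
  · have := allB_sound zTab143_chk1 (i - 64) (by omega)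
    rwa [show 64 + (i - 64) = i by omega] at this
  rcases Nat.lt_or_ge i 192 with h | h
  · have := allB_sound zTab143_chk2 (i - 128) (by omega)
    rwa [show 128 + (i - 128) = i by omega] at this
  rcases Nat.lt_or_ge i 256 with h | h
  · have := allB_sound zTab143_chk3 (i - 192) (by omega)
    rwa [show 192 + (i - 192) = i by omega] at this
  rcases Nat.lt_or_ge i 320 with h | h
  · have := allB_sound zTab143_chk4 (i - 256) (by omega)
    rwa [show 256 + (i - 256) = i by omega] at this
  rcases Nat.lt_or_ge i 384 with h | h
  · have := allB_sound zTab143_chk5 (i - 320) (by omega)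
    rwa [show 320 + (i - 320) = i by omega] at this
  rcases Nat.lt_or_ge i 448 with h | h
  · have := allB_sound zTab143_chk6 (i - 384) (by omega)
    rwa [show 384 + (i - 384) = i by omega] at this
  rcases Nat.lt_or_ge i 512 with h | h
  · have := allB_sound zTab143_chk7 (i - 448) (by omega)
    rwa [show 448 + (i - 448) = i by omega] at this
  rcases Nat.lt_or_ge i 576 with h | h
  · have := allB_sound zTab143_chk8 (i - 512) (by omega)
    rwa [show 512 + (i - 512) = i by omega] at this
  rcases Nat.lt_or_ge i 640 with h | h
  · have := allB_sound zTab143_chk9 (i - 576) (by omega)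
    rwa [show 576 + (i - 576) = i by omega] at this
  have := allB_sound zTab143_chk10 (i - 640) (by omega)
  rwa [show 640 + (i - 640) = i by omega] at this

end Cfsg.Agent.H7Held
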