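import Cfsg.Agent.H7Held.ZChk159a

/-!
The table of pattern 159 passes the checks.
-/

set_option autoImplicit false
set_option maxRecDepth 100000

namespace Cfsg.Agent.H7Held

theorem zTab159_all : ∀ i < zTab159.N, zTab159.entryOK i = true := by
  intro i hi
  have hi : i < 265 := hi
  rcases Nat.lt_or_ge i 64 with h | h
  · have := allB_sound zTab159_chk0 (i - 0) (by omega)
    rwa [show 0 + (i - 0) = i by omega] at this
  rcases Nat.lt_or_ge i 128 with h | h
  · have := allB_sound zTab159_chk1 (i - 64) (by omega)
    rwa [show 64 + (i - 64) = i by omega] at this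
  rcases Nat.lt_or_ge i 192 with h | h
  · have := allB_sound zTab159_chk2 (i - 128) (by omega)
    rwa [show 128 + (i - 128) = i by omega] at this
  rcases Nat.lt_or_ge i 256 with h | h
  · have := allB_sound zTab159_chk3 (i - 192) (by omega)
    rwa [show 192 + (i - 192) = i by omega] at this
  have := allB_sound zTab159_chk4 (i - 256) (by omega)
  rwa [show 256 + (i - 256) = i by omega] at this

end Cfsg.Agent.H7Held
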