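import Cfsg.Agent.H7Held.ExtData
import Cfsg.Agent.H7Held.ZAll139
import Cfsg.Agent.H7Held.ZAll143
import Cfsg.Agent.H7Held.ZAll159
import Cfsg.Agent.H67.Held.OuterData

/-!
The group is generated by the centraliser and the normalisers of the two groups of order 64, in the three cases
with transitive fusion.
-/

set_option autoImplicit false
set_option maxRecDepth 100000

namespace Cfsg.Agent.H7Held

open Subgroup

open H95.Held (Spec Outer)
open H25.Held.Orbit (gen)

theorem data7 : maskChk 7 139 = true ∧ covChk zTab139 extPar139 extIx139 = true := by decide +kernel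

theorem data23 : maskChk 23 143 = true ∧ covChk zTab143 extPar143 extIx143 = true := by decide +kernel

theorem data31 : maskChk 31 159 = true ∧ covChk zTab159 [] [] = true := by decide +kernel

variable {G : Type*} [Group G] [Finite G] {B : H98.Held.Emb G} {g : G}

/-- `G = ⟨C(z), g⟩` for the pattern of the linear case. -/
theorem gen_eq_top_L52 (hm : ∀ k < 8, B.IsZ (H98.Held.rep k) ↔ H98.Held.inK 7 k = true)
    (O : Outer B H95.Held.L52.spec g) : gen B g = ⊤ :=
  gen_eq_top (D := zTab139) H95.Held.L52.spec_ok H25.Held.Orbit.cover_L52 data7.1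
    (show (139 : ℕ) < 256 by norm_num) zTab139_zm (show 0 < 1017 by norm_num) zTab139_all
    extPar139_ok data7.2 hm O

/-- `G = ⟨C(z), g⟩` for the pattern of the Mathieu case. -/
theorem gen_eq_top_M24 (hm : ∀ k < 8, B.IsZ (H98.Held.rep k) ↔ H98.Held.inK 23 k = true)
    (O : Outer B H95.Held.M24.spec g) : gen B g = ⊤ :=
  gen_eq_top (D := zTab143) H95.Held.M24.spec_ok H25.Held.Orbit.cover_M24 data23.1
    (show (143 : ℕ) < 256 by norm_num) zTab143_zm (show 0 < 641 by norm_num) zTab143_all
    extPar143_ok data23.2 hm O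

/-- `G = ⟨C(z), g⟩` for the pattern of the Held case. -/
theorem gen_eq_top_He (hm : ∀ k < 8, B.IsZ (H98.Held.rep k) ↔ H98.Held.inK 31 k = true)
    (O : Outer B H95.Held.He.spec g) : gen B g = ⊤ :=
  gen_eq_top (D := zTab159) H95.Held.He.spec_ok H25.Held.Orbit.cover_He data31.1
    (show (159 : ℕ) < 256 by norm_num) zTab159_zm (show 0 < 265 by norm_num) zTab159_all
    (fun _ he => absurd he List.not_mem_nil) data31.2 hm O

theorem outer_mem {S : Spec} (hok : S.ok = true) (O : Outer B S g) (hout : S.out < 7)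
    (hne : S.out ≠ S.skipOne) : g ∈ normalizer (B.gA : Set G) := by
  have hw : ∀ l ∈ [S.out], l < 7 ∧ l ≠ sideSkip S 0 := by
    intro l hl
    rw [List.mem_singleton] at hl
    subst hl
    exact ⟨hout, hne⟩
  refine mem_normalizer_fintype fun y hy => ?_
  obtain ⟨a, ha, rfl⟩ := (B.mem_blockGrp H98.Held.block_one.1).1 hy
  obtain ⟨i, hi, rfl⟩ : ∃ i, i < 64 ∧ H98.Held.aOne.getD i 0 = a := by
    obtain ⟨i, hi, rfl⟩ := List.getElem_of_mem ha
    exact ⟨i, H98.Held.block_one.1.len ▸ hi, List.getD_eq_getElem _ _ hi⟩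
  obtain ⟨x, -, ⟨hlt, hx⟩, rfl⟩ := conj_word hok O 0 hw hi
  have hg : H45.evalW (S.el B g) [S.out] = g := by simp [H45.evalW, Spec.el]
  rw [hg] at hx
  have hblk : blk 0 = H98.Held.aOne := rfl
  rw [hblk, H95.Held.lab, H95.Held.lab] at hx
  show g * B.lf (H98.Held.aOne.getD i 0) * g⁻¹ ∈ _
  rw [hx]
  exact (B.mem_blockGrp H98.Held.block_one.1).2
    ⟨_, H95.Held.getD_mem64 H98.Held.block_one.1.len hlt, rfl⟩

/-- The whole group is generated by the centraliser and the two normalisers. -/
theorem eq_top_of_mask (B : H98.Held.Emb G) (H : Subgroup G) (m : ℕ) (hm : m ∈ [7, 23, 31])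
    (hmask : ∀ k < 8, B.IsZ (H98.Held.rep k) ↔ H98.Held.inK m k = true)
    (hC : centralizer ({B.z} : Set G) ≤ H) (hA : normalizer (B.gA : Set G) ≤ H)
    (_hB : normalizer (B.gB : Set G) ≤ H) : H = ⊤ := by
  have key : ∀ (S : Spec) (g : G), S.ok = true → S.out < 7 → S.out ≠ S.skipOne →
      Outer B S g → gen B g = ⊤ → H = ⊤ := by
    intro S g hok hout hne O htop
    refine top_le_iff.1 (htop ▸ sup_le hC ((closure_le _).2 ?_))
    rintro _ rfl
    exact hA (outer_mem hok O hout hne)
  simp only [List.mem_cons, List.not_mem_nil, or_false] at hm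
  rcases hm with rfl | rfl | rfl
  · obtain ⟨g, ⟨O⟩⟩ := H67.Held.outer_L52 hmask
    exact key _ g H95.Held.L52.spec_ok (by decide) (by decide) O (gen_eq_top_L52 hmask O)
  · obtain ⟨g, ⟨O⟩⟩ := H67.Held.outer_M24 hmask
    exact key _ g H95.Held.M24.spec_ok (by decide) (by decide) O (gen_eq_top_M24 hmask O)
  · obtain ⟨g, ⟨O⟩⟩ := H67.Held.outer_He hmask
    exact key _ g H95.Held.He.spec_ok (by decide) (by decide) O (gen_eq_top_He hmask O)

end Cfsg.Agent.H7Held
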