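import Cfsg.Agent.H7Held.Checks

/-!
Basic consequences: classes of involutions, cardinality, generators.
-/

set_option autoImplicit false

namespace Cfsg.Agent.H7Held

theorem keyC_inj {a b : ℕ} (ha : isC a = true) (hb : isC b = true) (h : keyC a = keyC b) :
    a = b := by
  simp only [isC, Bool.and_eq_true, Nat.beq_eq] at ha hb
  have key : ∀ m q, q < 128 → ((m <<< 7) ||| q) = 128 * m + q := fun m q hq => by
    rw [← Nat.shiftLeft_add_eq_or_of_lt (i := 7) (by simpa using hq), Nat.shiftLeft_eq]; ring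
  simp only [keyC, key _ _ (qbOf_lt _)] at h
  have h1 := qbOf_lt a; have h2 := qbOf_lt b
  have e1 : midOf a = midOf b := by omega
  have e2 : qbOf a = qbOf b := by omega
  rw [← ha.1, ← hb.1, e1, e2]

theorem mkC_roundtrip {m q : ℕ} (hm : midOK m = true) (hm' : m < 512) (hq : q < 128) :
    midOf (mkC m q) = m ∧ qbOf (mkC m q) = q := by
  have h := pass_all hm'
  simp only [passMid, hm, Bool.not_true, Bool.false_or, Bool.and_eq_true] at h
  have h2 := allB_sound h.2 q hq
  simp only [force_eq, Bool.and_eq_true, Nat.beq_eq] at h2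
  exact ⟨h2.1.1.1, h2.1.1.2⟩

theorem foldl_or_testBit {α : Type} (f : α → ℕ) : ∀ (l : List α) (M k : ℕ),
    (l.foldl (fun M p => M ||| (1 <<< f p)) M).testBit k = true →
      M.testBit k = true ∨ ∃ p ∈ l, f p = k
  | [], M, k, h => Or.inl h
  | p :: l, M, k, h => by
    rcases foldl_or_testBit f l _ k h with h' | ⟨q, hq, hk⟩
    · rw [Nat.testBit_or, Nat.one_shiftLeft, Nat.testBit_two_pow] at h'
      simp only [Bool.or_eq_true, decide_eq_true_eq] at h'
      rcases h' with h' | h'
      · exact Or.inl h'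
      · exact Or.inr ⟨p, List.mem_cons_self, h'⟩
    · exact Or.inr ⟨q, List.mem_cons_of_mem _ hq, hk⟩

theorem invPairs_facts {p : ℕ × ℕ} (hp : p ∈ invPairs) : isC p.1 = true ∧ inCls p.2 p.1 = true ∧
    mmul p.1 p.1 = cI ∧ p.1 ≠ cI := by
  have h := classMask_ok
  simp only [Bool.and_eq_true, List.all_eq_true] at h
  have h1 := h.1 p hp
  simp only [Nat.beq_eq, Bool.not_eq_true', ← Bool.not_eq_true] at h1
  exact ⟨h1.1.1.1, h1.1.1.2, h1.1.2, h1.2⟩

theorem mem_invPairs {a c : ℕ} (ha : isC a = true) (hc : c < 8) (h : inCls c a = true) :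
    (a, c) ∈ invPairs := by
  have hm := classMask_ok
  simp only [Bool.and_eq_true, List.all_eq_true, List.mem_range, Nat.beq_eq, decide_eq_true_eq] at hm
  unfold inCls at h
  rw [hm.2 c hc] at h
  rcases foldl_or_testBit _ _ _ _ h with h' | ⟨p, hp, hk⟩
  · simp at h'
  · obtain ⟨hp1, hp2⟩ := List.mem_filter.mp hp
    have e : p.1 = a := keyC_inj (invPairs_facts hp1).1 ha hk
    have e2 : p.2 = c := by simpa using hp2
    rw [← e, ← e2]; exact hp1

theorem exists_cls {a : ℕ} (ha : isC a = true) (h2 : mmul a a = cI) (h1 : a ≠ cI) :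
    ∃ c < 8, inCls c a = true := by
  have ha' := ha
  simp only [isC, Bool.and_eq_true, Nat.beq_eq] at ha'
  have h := pass_all (midOf_lt a)
  simp only [passMid, ha'.2, Bool.not_true, Bool.false_or, Bool.and_eq_true] at h
  have h3 := allB_sound h.2 _ (qbOf_lt a)
  simp only [force_eq, ha'.1, Bool.and_eq_true, Bool.or_eq_true, Bool.not_eq_true', Nat.beq_eq,
    ← Bool.not_eq_true] at h3
  rcases h3.2 with (h4 | h4) | h4
  · exact absurd h2 h4
  · exact absurd h4 h1
  · simp only [inSomeCls, List.any_eq_true, List.mem_range] at h4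
    obtain ⟨c, hc, h5⟩ := h4
    exact ⟨c, hc, h5⟩

/-- elements obtained from the roots -/
inductive RGen : ℕ → Prop
  | one : RGen cI
  | root {i : ℕ} : i < roots.length → RGen (roots.getD i cI)
  | mul {a b : ℕ} : RGen a → RGen b → RGen (mmul a b)

theorem isC_root (i : ℕ) : isC (roots.getD i cI) = true := by
  rw [List.getD_eq_getElem?_getD]
  cases h : roots[i]? with
  | none => exact isC_cI
  | some g =>
    have := List.all_eq_true.mp roots_ok g (List.mem_of_getElem? h)
    simp only [Bool.and_eq_true] at this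
    exact this.1

theorem root_sq (i : ℕ) : mmul (roots.getD i cI) (roots.getD i cI) = cI := by
  rw [List.getD_eq_getElem?_getD]
  cases h : roots[i]? with
  | none => exact (mmul_cI (by decide)).1
  | some g =>
    have := List.all_eq_true.mp roots_ok g (List.mem_of_getElem? h)
    simp only [Bool.and_eq_true, Nat.beq_eq] at this
    exact this.2

theorem rgen_wordC : ∀ w : List ℕ, RGen (wordC w)
  | [] => RGen.one
  | i :: w => by
    simp only [wordC, force_eq]
    refine RGen.mul ?_ (rgen_wordC w)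
    rcases Nat.lt_or_ge i roots.length with h | h
    · exact RGen.root h
    · rw [List.getD_eq_getElem?_getD, List.getElem?_eq_none h]; exact RGen.one

theorem mkC_unip_zero : mkC 273 0 = cI := by decide +kernel

theorem rgen_root_mem {b : ℕ} (h : roots.elem b = true) : RGen b := by
  rw [List.elem_eq_contains, List.contains_iff_mem] at h
  obtain ⟨i, hi, rfl⟩ := List.getElem_of_mem h
  have := RGen.root hi
  rwa [List.getD_eq_getElem _ _ hi] at this

theorem rgen_q : ∀ q, q < 128 → RGen (mkC 273 q) := by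
  intro q
  induction q using Nat.strong_induction_on with
  | _ q ih =>
    intro hq
    rcases Nat.eq_zero_or_pos q with rfl | hpos
    · rw [mkC_unip_zero]; exact RGen.one
    obtain ⟨r, hr, q', hlt, hqe, hbit⟩ : ∃ r, r < 7 ∧ ∃ q', q' < q ∧ q = q' ||| (1 <<< r) ∧
        q'.testBit r = false := by
      refine ⟨q.log2, (Nat.log2_lt (by omega)).mpr (by simpa using hq), q - 2 ^ q.log2, ?_, ?_, ?_⟩
      · exact Nat.sub_lt hpos (Nat.two_pow_pos _)
      · have h1 : 2 ^ q.log2 ≤ q := Nat.log2_self_le (by omega)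
        have h2 : q < 2 ^ (q.log2 + 1) := Nat.lt_log2_self
        rw [pow_succ] at h2
        rw [Nat.one_shiftLeft, Nat.lor_comm,
          show 2 ^ q.log2 = 2 ^ q.log2 * 1 by ring, ← Nat.two_pow_add_eq_or_of_lt (by omega)]
        omega
      · apply Nat.testBit_lt_two_pow
        have h2 : q < 2 ^ (q.log2 + 1) := Nat.lt_log2_self
        rw [pow_succ] at h2; omega
    have h := allB_sound passQ_ok q' (by omega)
    simp only [passQ, force_eq, List.all_eq_true, List.mem_range, Bool.and_eq_true, Bool.or_eq_true,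
      Nat.beq_eq, Nat.blt_eq] at h
    obtain ⟨hb, hcase⟩ := h r hr
    have hb' := rgen_root_mem hb
    have hq' := ih q' hlt (by omega)
    rcases hcase with ((h1 | h1) | h1) | h1
    · rw [h1] at hbit; exact absurd hbit (by simp)
    · omega
    · rw [hqe, ← h1]; exact RGen.mul hq' hb'
    · rw [hqe, ← h1]; exact RGen.mul hb' hq'

theorem rgen_of_isC {a : ℕ} (ha : isC a = true) : RGen a := by
  have ha' := ha
  simp only [isC, Bool.and_eq_true, Nat.beq_eq] at ha'
  have h := pass_all (midOf_lt a)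
  simp only [passMid, ha'.2, Bool.not_true, Bool.false_or, Bool.and_eq_true, Nat.beq_eq] at h
  have h3 := allB_sound h.2 _ (qbOf_lt a)
  simp only [force_eq, ha'.1, Bool.and_eq_true, Nat.beq_eq] at h3
  rw [← h3.1.2, ← h.1]
  refine RGen.mul (RGen.mul (rgen_q _ ?_) (rgen_wordC _)) (rgen_q _ ?_)
  · have := qbOf_lt a
    simp only [Nat.shiftLeft_eq, Nat.shiftRight_eq_div_pow]; omega
  · exact lt_of_le_of_lt Nat.and_le_left (qbOf_lt a)

namespace Emb

variable {G : Type*} [Group G] {z : G} (E : Emb z)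

theorem map_cI : E.ι cI = 1 := by
  have := E.map_mul isC_cI isC_cI
  rw [(mmul_cI (by decide)).1] at this
  exact mul_eq_left.mp this.symm

theorem map_invC {a : ℕ} (ha : isC a = true) : E.ι (invC a) = (E.ι a)⁻¹ := by
  apply eq_inv_of_mul_eq_one_right
  rw [← E.map_mul ha (isC_invC ha), (isC_inv ha).2, E.map_cI]

theorem map_conj {g a : ℕ} (hg : isC g = true) (ha : isC a = true) :
    E.ι (mmul (mmul g a) (invC g)) = E.ι g * E.ι a * (E.ι g)⁻¹ := by
  rw [E.map_mul (isC_mul hg ha) (isC_invC hg), E.map_mul hg ha, E.map_invC hg]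

theorem conj_root (i : ℕ) {a : ℕ} (ha : isC a = true) :
    E.ι (mmul (mmul (roots.getD i cI) a) (roots.getD i cI)) =
      E.ι (roots.getD i cI) * E.ι a * (E.ι (roots.getD i cI))⁻¹ := by
  have hr := isC_root i
  rw [E.map_mul (isC_mul hr ha) hr, E.map_mul hr ha]
  congr 1
  apply eq_inv_of_mul_eq_one_right
  rw [← E.map_mul hr hr, root_sq, E.map_cI]

/-- centralisers map into the group -/
theorem mem_centralizer {a : ℕ} (ha : isC a = true) :
    E.ι a ∈ Subgroup.centralizer ({z} : Set G) :=
  Subgroup.mem_centralizer_singleton_iff.mpr (E.comm ha)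

theorem conj_rep {a c : ℕ} (hp : (a, c) ∈ invPairs) :
    ∃ g, g * z = z * g ∧ E.ι a = g * E.ι (classRep.getD c cI) * g⁻¹ := by
  have key : ∀ (t : List (ℕ × ℕ × ℕ × ℕ)) (seen : List (ℕ × ℕ)), treeOK t seen = true →
      (∀ p ∈ seen, isC p.1 = true ∧ ∃ g, g * z = z * g ∧
        E.ι p.1 = g * E.ι (classRep.getD p.2 cI) * g⁻¹) →
      ∀ e ∈ t, ∃ g, g * z = z * g ∧ E.ι e.1 = g * E.ι (classRep.getD e.2.2.2 cI) * g⁻¹ := by
    intro t
    induction t with
    | nil => intro _ _ _ e he; simp at he
    | cons x t ih =>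
      obtain ⟨a, i, b, c⟩ := x
      intro seen hok hseen
      simp only [treeOK, Bool.and_eq_true, Nat.beq_eq, force_eq, List.elem_eq_contains,
        List.contains_iff_mem] at hok
      obtain ⟨⟨⟨⟨⟨⟨hmem, -⟩, hC⟩, -⟩, -⟩, heq⟩, hrest⟩ := hok
      obtain ⟨hbC, g, hg, hge⟩ := hseen _ hmem
      have hnew : ∃ g, g * z = z * g ∧ E.ι a = g * E.ι (classRep.getD c cI) * g⁻¹ := by
        refine ⟨E.ι (roots.getD i cI) * g, ?_, ?_⟩
        · rw [mul_assoc, hg, ← mul_assoc, E.comm (isC_root i), mul_assoc]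
        · rw [← heq, E.conj_root i hbC, hge]; group
      intro e he
      rcases List.mem_cons.mp he with rfl | he
      · exact hnew
      · refine ih _ hrest ?_ e he
        intro p hp
        rcases List.mem_cons.mp hp with rfl | hp
        · exact ⟨hC, hnew⟩
        · exact hseen p hp
  rcases List.mem_append.mp hp with h | h
  · refine ⟨1, by simp, ?_⟩
    have hz : ∀ p ∈ repPairs, classRep.getD p.2 cI = p.1 := by decide +kernel
    simp only [inv_one, mul_one, one_mul]; rw [hz _ h]
  · obtain ⟨e, he, hee⟩ := List.mem_map.mp h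
    simp only [Prod.mk.injEq] at hee
    obtain ⟨rfl, rfl⟩ := hee
    refine key classTree repPairs treeOK_ok ?_ e he
    intro p hp
    refine ⟨(invPairs_facts (List.mem_append_left _ hp)).1, 1, by simp, ?_⟩
    have hz : ∀ p ∈ repPairs, classRep.getD p.2 cI = p.1 := by decide +kernel
    simp only [inv_one, mul_one, one_mul]; rw [hz _ hp]

theorem rootsGen {H : Subgroup G} (h : ∀ i < roots.length, E.ι (roots.getD i cI) ∈ H) {a : ℕ}
    (hr : RGen a) : isC a = true ∧ E.ι a ∈ H := by
  induction hr with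
  | one => exact ⟨isC_cI, by rw [E.map_cI]; exact H.one_mem⟩
  | root hi => exact ⟨isC_root _, h _ hi⟩
  | mul _ _ iha ihb => exact ⟨isC_mul iha.1 ihb.1, by rw [E.map_mul iha.1 ihb.1]; exact H.mul_mem iha.2 ihb.2⟩

theorem centralizer_le {H : Subgroup G} (h : ∀ i < roots.length, E.ι (roots.getD i cI) ∈ H) :
    Subgroup.centralizer ({z} : Set G) ≤ H := by
  intro g hg
  obtain ⟨a, ha, rfl⟩ := E.surj (Subgroup.mem_centralizer_singleton_iff.mp hg)
  exact (E.rootsGen h (rgen_of_isC ha)).2

end Emb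

end Cfsg.Agent.H7Held
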