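import Cfsg.Agent.H7Held.Ext
import Cfsg.Agent.H67.Held.Setups

/-!
Translation between the two codings of the involution centraliser.
-/

set_option autoImplicit false
set_option maxRecDepth 100000

namespace Cfsg.Agent.H7Held

open Subgroup

/-- permutation matrix -/
def pm5 : ℕ := 2629761

/-- its inverse -/
def pm5i : ℕ := 8522241

/-- translation of codes -/
noncomputable def tr (a : ℕ) : ℕ := mmul pm5i (mmul a pm5)

/-- translation back -/
noncomputable def tri (a : ℕ) : ℕ := mmul pm5 (mmul a pm5i)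

theorem pm5_facts : mmul pm5 pm5i = cI ∧ mmul pm5i pm5 = cI ∧
    tr cI = H98.Held.oneC ∧ tr cz = H98.Held.zT ∧ tri H98.Held.oneC = cI ∧
    tri H98.Held.zT = cz ∧ cI = H98.Held.oneC := by
  decide +kernel

theorem tr_lt (a : ℕ) : tr a < 2 ^ 25 := mmul_lt _ _

theorem tri_lt (a : ℕ) : tri a < 2 ^ 25 := mmul_lt _ _

theorem tr_mul (a b : ℕ) : tr (mmul a b) = mmul (tr a) (tr b) := by
  refine eq_of_toMat (tr_lt _) (mmul_lt _ _) ?_
  have h := congrArg toMat pm5_facts.1
  rw [toMat_mmul, toMat_cI] at h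
  simp only [tr, toMat_mmul, Matrix.mul_assoc]
  rw [← Matrix.mul_assoc (toMat pm5) (toMat pm5i), h, Matrix.one_mul]

theorem tri_mul (a b : ℕ) : tri (mmul a b) = mmul (tri a) (tri b) := by
  refine eq_of_toMat (tri_lt _) (mmul_lt _ _) ?_
  have h := congrArg toMat pm5_facts.2.1
  rw [toMat_mmul, toMat_cI] at h
  simp only [tri, toMat_mmul, Matrix.mul_assoc]
  rw [← Matrix.mul_assoc (toMat pm5i) (toMat pm5), h, Matrix.one_mul]

theorem tri_tr {a : ℕ} (ha : a < 2 ^ 25) : tri (tr a) = a := by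
  refine eq_of_toMat (tri_lt _) ha ?_
  have h := congrArg toMat pm5_facts.1
  rw [toMat_mmul, toMat_cI] at h
  simp only [tr, tri, toMat_mmul, ← Matrix.mul_assoc]
  rw [h, Matrix.one_mul, Matrix.mul_assoc, h, Matrix.mul_one]

theorem tr_tri {a : ℕ} (ha : a < 2 ^ 25) : tr (tri a) = a := by
  refine eq_of_toMat (tr_lt _) ha ?_
  have h := congrArg toMat pm5_facts.2.1
  rw [toMat_mmul, toMat_cI] at h
  simp only [tr, tri, toMat_mmul, ← Matrix.mul_assoc]
  rw [h, Matrix.one_mul, Matrix.mul_assoc, h, Matrix.mul_one]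

theorem mt_eq (a : ℕ) : H98.Held.mt a = toMat a := by
  ext i j
  simp only [H98.Held.mt, H45.J4Mat.toMat, toMat, Matrix.of_apply]
  cases a.testBit (5 * (i : ℕ) + (j : ℕ)) <;> simp [H45.J4Mat.bz]

theorem mm_eq (a b : ℕ) : H98.Held.mm a b = mmul a b :=
  eq_of_toMat (H98.Held.mm_lt _ _) (mmul_lt _ _)
    (by rw [toMat_mmul, ← mt_eq, H98.Held.mt_mm, mt_eq, mt_eq])

theorem gd_tr {a : ℕ} (ha : isC a = true) : H98.Held.Gd (tr a) := by
  refine H98.Held.gd_of_gdB (b := tr (invC a)) ?_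
  simp only [H98.Held.gdB, Bool.and_eq_true, Nat.ble_eq, Nat.beq_eq, mm_eq, ← tr_mul]
  refine ⟨⟨tr_lt a, ?_⟩, ?_⟩
  · rw [(isC_inv ha).2, pm5_facts.2.2.1]
  · rw [← pm5_facts.2.2.2.1, ← tr_mul, ← tr_mul, isC_comm ha]

theorem isC_tri {b : ℕ} (hb : H98.Held.Gd b) : isC (tri b) = true := by
  obtain ⟨x, rfl⟩ := hb
  refine isC_of (tri_lt _) ?_ (b := tri (H98.Held.cd x⁻¹)) ?_
  · have hz : H98.Held.mm (H98.Held.cd x) H98.Held.zT = H98.Held.mm H98.Held.zT (H98.Held.cd x) := by
      obtain ⟨s, hs⟩ := H98.Held.gd_zT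
      have hcen : x * s = s * x := by
        have h1 : (H98.Held.code ((s : SL5) : M5)) = H98.Held.zT := hs
        have h2 : toMat H98.Held.zT = ((H98.Held.sT : SL5) : M5) := by
          rw [← mt_eq, H98.Held.mt_zT]; rfl
        have hsv : (s : SL5) = H98.Held.sT := by
          refine Subtype.ext ?_
          rw [← h2, ← h1, ← mt_eq, H98.Held.mt_code]
        refine Subtype.ext ?_
        rw [Subgroup.coe_mul, Subgroup.coe_mul, hsv]
        exact Subgroup.mem_centralizer_singleton_iff.1 x.2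
      rw [← hs, ← H98.Held.cd_mul, hcen, H98.Held.cd_mul]
    rw [← pm5_facts.2.2.2.2.2.1, ← tri_mul, ← tri_mul, ← mm_eq, ← mm_eq, hz]
  · rw [← tri_mul, ← mm_eq, ← H98.Held.cd_mul, mul_inv_cancel, H98.Held.cd_one, pm5_facts.2.2.2.2.1]

variable {G : Type*} [Group G] (B : H98.Held.Emb G)

/-- the coded centraliser of an embedding of the other coding -/
noncomputable def ofEmb : Emb B.z where
  ι a := B.lf (tr a)
  map_mul ha hb := by rw [tr_mul, ← mm_eq, B.lf_mul (gd_tr ha) (gd_tr hb)]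
  inj ha hb h := by rw [← tri_tr (isC_lt ha), B.lf_inj (gd_tr ha) (gd_tr hb) h, tri_tr (isC_lt hb)]
  comm ha := B.lf_comm_z (gd_tr ha)
  surj {g} hg := by
    obtain ⟨b, hb, rfl⟩ := B.exists_code hg
    refine ⟨tri b, isC_tri hb, ?_⟩
    obtain ⟨x, rfl⟩ := hb
    show B.lf (tr (tri _)) = _
    rw [tr_tri]
    exact H98.Held.code_lt _
  map_cz := by show B.lf (tr cz) = B.z; rw [pm5_facts.2.2.2.1, B.lf_z]

theorem ofEmb_ι (a : ℕ) : (ofEmb B).ι a = B.lf (tr a) := rfl

/-- the block corresponding to an elementary subgroup -/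
def blk (t : Fin 2) : List ℕ := if t = 0 then H98.Held.aOne else H98.Held.aTwo

theorem block_blk (t : Fin 2) : H98.Held.Block (blk t) := by
  unfold blk
  split
  · exact H98.Held.block_one.1
  · exact H98.Held.block_two.1

theorem blk_check : (([0, 1] : List (Fin 2)).all fun t =>
    (allB 64 fun v => (blk t).elem (tr (aOf t v))) &&
    (blk t).all fun b => (List.range 64).any fun v => Nat.beq (tr (aOf t v)) b) = true := by
  decide +kernel

theorem blk_mem (t : Fin 2) {v : ℕ} (hv : v < 64) : tr (aOf t v) ∈ blk t := by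
  have h := List.all_eq_true.mp blk_check t (by fin_cases t <;> simp)
  simp only [Bool.and_eq_true] at h
  simpa using allB_sound h.1 v hv

variable [Finite G]

theorem A_eq (t : Fin 2) : (ofEmb B).A t = B.blockGrp (blk t) := by
  ext g
  rw [(ofEmb B).mem_A, B.mem_blockGrp (block_blk t)]
  constructor
  · rintro ⟨v, hv, rfl⟩
    exact ⟨_, blk_mem t hv, rfl⟩
  · rintro ⟨b, hb, rfl⟩
    have h := List.all_eq_true.mp blk_check t (by fin_cases t <;> simp)
    simp only [Bool.and_eq_true, List.all_eq_true, List.any_eq_true, List.mem_range, Nat.beq_eq] at h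
    obtain ⟨v, hv, rfl⟩ := h.2 b hb
    exact ⟨v, hv, rfl⟩

/-- an automorphism of the orbit is realised in the normaliser -/
theorem exists_action {t : Fin 2} {co : ℕ → ℕ} {Z : List ℕ} (S : H67.Held.Setup B (blk t) co Z)
    {p : List ℕ} {f : ℕ → ℕ} (hf : H67.Held.LinAut Z f) (hp : ∀ v, v < 64 → pOf p v < 64)
    (hfp : ∀ v, v < 64 → f (co (tr (aOf t v))) = co (tr (aOf t (pOf p v)))) :
    ∃ n, n ∈ normalizer ((ofEmb B).A t : Set G) ∧
      ∀ v, v < 64 → n * (ofEmb B).av t v * n⁻¹ = (ofEmb B).av t (pOf p v) := by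
  obtain ⟨g, hg, hga⟩ := S.real f hf
  refine ⟨g, by rw [A_eq]; exact hg, fun v hv => ?_⟩
  have hm := blk_mem t hv
  have hm' := blk_mem t (hp v hv)
  have hlt := S.coord.lt _ hm
  have := (H67.Held.act_eq B S.coord hg hlt (S.coord.lt _ hm')).1 ((hga _ hlt).trans (hfp v hv))
  rwa [H67.Held.pt_co B S.coord hm, H67.Held.pt_co B S.coord hm'] at this

end Cfsg.Agent.H7Held
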