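import Cfsg.Agent.H7Held.Code

/-!
Generated tables for the middle blocks of the centraliser of a transvection.
-/

set_option autoImplicit false

namespace Cfsg.Agent.H7Held

/-- invertible middle blocks -/
def midMask : ℕ := 0x3c5a66665a3c003c0096aa96aa3c005a9600cc965acc0066aacc0066aacc006696966600f0f0005aaa5aaaf000f0003c3cccccf0f000000000000000000000

/-- inverses of middle blocks, 9 bits each -/
def midTab : ℕ :=
  0x3dc5ebf3380000007d40073bb801e2000027556000023d7200006f75e000062f3200003540057a9803a20000001d47aad728000000000000000000000000003bc6e7f5380000000000000000000000ee800006b0053df2005a80166005b80162007e800006f0052fb200ca8032e00c9803220000001f46aed5280000000000000000000000007cc00757b802e200f5800005d0033ef2000000000000000000005727800005f238000077800007d0072eb2000035c0055e9802a200d56e80000cd6280000000000000000000000004ae3a000043e7200998026a009b80262008f4b800009f4380000000000000000000000004be7a000042e32008b8022a008980222009d4a800008d4280000000000000000000000006ef3e00006375200bd800005f00337d200af800007b00735d2000027d7600002355200000000000000000000ab35bac56000000000b97c9e4720000000000000000000000000000058c006772803c200d18034e00d280342000059c0063f2801c2005380146005280142007359bcc66000000000000000000000000000f1589c46200000000000000000000000000000002b87c76730000000002f85cf63300000ce6f00000d663000005e27000005623000007a7d2e874000000000ea352a854000000000000000000000000000000000000000000000000000000000000000000000000000000000000000000000000000000000000000000000000000000000000000000000000000000000000000000000000000000000000000000000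

end Cfsg.Agent.H7Held
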