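import Cfsg.Agent.H7Held.CMid

/-!
The centraliser of the transvection `I + E(0,4)` on codes.
-/

set_option autoImplicit false

namespace Cfsg.Agent.H7Held

/-- middle block (9 bits) -/
def midOf (a : ℕ) : ℕ :=
  ((rowc a 1 >>> 1) &&& 7) ||| (((rowc a 2 >>> 1) &&& 7) <<< 3) |||
    (((rowc a 3 >>> 1) &&& 7) <<< 6)

/-- unipotent part (7 bits) -/
def qbOf (a : ℕ) : ℕ :=
  (rowc a 0 >>> 1) ||| ((rowc a 1 >>> 4) <<< 4) ||| ((rowc a 2 >>> 4) <<< 5) |||
    ((rowc a 3 >>> 4) <<< 6)

/-- the code with given middle block and unipotent part -/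
def mkC (m q : ℕ) : ℕ :=
  (1 ||| ((q &&& 15) <<< 1)) |||
    ((((m &&& 7) <<< 1) ||| (((q >>> 4) &&& 1) <<< 4)) <<< 5) |||
    (((((m >>> 3) &&& 7) <<< 1) ||| (((q >>> 5) &&& 1) <<< 4)) <<< 10) |||
    (((((m >>> 6) &&& 7) <<< 1) ||| (((q >>> 6) &&& 1) <<< 4)) <<< 15) ||| (16 <<< 20)

/-- invertible middle block -/
def midOK (m : ℕ) : Bool := midMask.testBit m

/-- membership in the centraliser -/
def isC (a : ℕ) : Bool := Nat.beq (mkC (midOf a) (qbOf a)) a && midOK (midOf a)

/-- the inverse on the centraliser -/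
noncomputable def invC (a : ℕ) : ℕ :=
  force (mkC ((midTab >>> (9 * midOf a)) &&& 511) 0) fun d =>
    force (mmul a d) fun q => mmul d (mmul q (mmul q q))

/-- bounded universal check -/
noncomputable def allB : ℕ → (ℕ → Bool) → Bool
  | 0, _ => true
  | n + 1, f => force n f && allB n f

theorem allB_sound {f : ℕ → Bool} : ∀ {n : ℕ}, allB n f = true → ∀ i, i < n → f i = true
  | 0, _, _, h => absurd h (by omega)
  | n + 1, h, i, hi => by
    simp only [allB, force_eq, Bool.and_eq_true] at h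
    rcases Nat.lt_or_ge i n with h1 | h1
    · exact allB_sound h.2 i h1
    · obtain rfl : i = n := by omega
      exact h.1

/-- the check for one middle block -/
noncomputable def chkMid (m : ℕ) : Bool :=
  !midOK m || allB 128 fun q => force (mkC m q) fun a =>
    Nat.blt a 33554432 && Nat.beq (mmul a (invC a)) cI

theorem qbOf_lt (a : ℕ) : qbOf a < 128 := by
  have h := rowc_lt a
  have h0 : rowc a 0 >>> 1 < 2 ^ 7 := by
    have := h 0; simp only [Nat.shiftRight_eq_div_pow]; omega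
  have hh : ∀ i s, s ≤ 6 → (rowc a i >>> 4) <<< s < 2 ^ 7 := by
    intro i s hs
    have := h i
    have e : rowc a i >>> 4 ≤ 1 := by simp only [Nat.shiftRight_eq_div_pow]; omega
    rw [Nat.shiftLeft_eq]
    calc rowc a i >>> 4 * 2 ^ s ≤ 1 * 2 ^ 6 :=
          Nat.mul_le_mul e (Nat.pow_le_pow_right two_pos hs)
      _ < 2 ^ 7 := by norm_num
  exact Nat.or_lt_two_pow (Nat.or_lt_two_pow (Nat.or_lt_two_pow h0 (hh 1 4 (by norm_num)))
    (hh 2 5 (by norm_num))) (hh 3 6 le_rfl)

theorem midOf_lt (a : ℕ) : midOf a < 512 := by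
  have hh : ∀ i s, s ≤ 6 → ((rowc a i >>> 1) &&& 7) <<< s < 2 ^ 9 := by
    intro i s hs
    have e : (rowc a i >>> 1) &&& 7 ≤ 7 := Nat.and_le_right
    rw [Nat.shiftLeft_eq]
    calc ((rowc a i >>> 1) &&& 7) * 2 ^ s ≤ 7 * 2 ^ 6 :=
          Nat.mul_le_mul e (Nat.pow_le_pow_right two_pos hs)
      _ < 2 ^ 9 := by norm_num
  refine Nat.or_lt_two_pow (Nat.or_lt_two_pow ?_ (hh 2 3 (by norm_num))) (hh 3 6 le_rfl)
  simpa using hh 1 0 (by norm_num)

set_option maxRecDepth 100000 in
theorem chk0 : allB 64 (fun m => chkMid (0 + m)) = true := by decide +kernel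

set_option maxRecDepth 100000 in
theorem chk1 : allB 64 (fun m => chkMid (64 + m)) = true := by decide +kernel

set_option maxRecDepth 100000 in
theorem chk2 : allB 64 (fun m => chkMid (128 + m)) = true := by decide +kernel

set_option maxRecDepth 100000 in
theorem chk3 : allB 64 (fun m => chkMid (192 + m)) = true := by decide +kernel

set_option maxRecDepth 100000 in
theorem chk4 : allB 64 (fun m => chkMid (256 + m)) = true := by decide +kernel

set_option maxRecDepth 100000 in
theorem chk5 : allB 64 (fun m => chkMid (320 + m)) = true := by decide +kernel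

set_option maxRecDepth 100000 in
theorem chk6 : allB 64 (fun m => chkMid (384 + m)) = true := by decide +kernel

set_option maxRecDepth 100000 in
theorem chk7 : allB 64 (fun m => chkMid (448 + m)) = true := by decide +kernel

theorem chk_all {m : ℕ} (h : m < 512) : chkMid m = true := by
  obtain ⟨k, r, hr, rfl⟩ : ∃ k r, r < 64 ∧ m = 64 * k + r :=
    ⟨m / 64, m % 64, Nat.mod_lt _ (by norm_num), (Nat.div_add_mod m 64).symm⟩
  have hk : k < 8 := by omega
  interval_cases k
  all_goals first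
    | exact allB_sound chk0 r hr
    | exact allB_sound chk1 r hr
    | exact allB_sound chk2 r hr
    | exact allB_sound chk3 r hr
    | exact allB_sound chk4 r hr
    | exact allB_sound chk5 r hr
    | exact allB_sound chk6 r hr
    | exact allB_sound chk7 r hr

theorem isC_inv {a : ℕ} (h : isC a = true) : a < 2 ^ 25 ∧ mmul a (invC a) = cI := by
  simp only [isC, Bool.and_eq_true, Nat.beq_eq] at h
  have h1 := chk_all (midOf_lt a)
  simp only [chkMid, h.2, Bool.not_true, Bool.false_or] at h1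
  have h2 := allB_sound h1 _ (qbOf_lt a)
  simp only [force_eq, h.1, Bool.and_eq_true, Nat.blt_eq, Nat.beq_eq] at h2
  exact ⟨by norm_num; exact h2.1, h2.2⟩

theorem isC_inv' {a : ℕ} (h : isC a = true) : mmul (invC a) a = cI := by
  have h1 := congrArg toMat (isC_inv h).2
  rw [toMat_mmul, toMat_cI] at h1
  refine eq_of_toMat (mmul_lt _ _) (by decide) ?_
  rw [toMat_mmul, toMat_cI]
  exact mul_eq_one_comm.mp h1

/-- the entries forced by commuting with `cz` and being invertible -/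
def patOK (a : ℕ) : Bool :=
  a.testBit 0 && !a.testBit 5 && !a.testBit 10 && !a.testBit 15 && !a.testBit 20 &&
    !a.testBit 21 && !a.testBit 22 && !a.testBit 23 && a.testBit 24

theorem cz_bits (i j : Fin 5) : cz.testBit (5 * (i : ℕ) + (j : ℕ)) =
    decide (i = j ∨ (i = 0 ∧ j = 4)) := by
  revert i j; decide +kernel

theorem testBit_mul_cz (a : ℕ) (i j : Fin 5) : (mmul a cz).testBit (5 * (i : ℕ) + (j : ℕ)) =
    (a.testBit (5 * (i : ℕ) + (j : ℕ)) ^^ (decide (j = 4) && a.testBit (5 * (i : ℕ) + 0))) := by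
  rw [testBit_mmul, show (5 * 0 + (j : ℕ)) = 5 * ((0 : Fin 5) : ℕ) + j from rfl,
    show (5 * 1 + (j : ℕ)) = 5 * ((1 : Fin 5) : ℕ) + j from rfl,
    show (5 * 2 + (j : ℕ)) = 5 * ((2 : Fin 5) : ℕ) + j from rfl,
    show (5 * 3 + (j : ℕ)) = 5 * ((3 : Fin 5) : ℕ) + j from rfl,
    show (5 * 4 + (j : ℕ)) = 5 * ((4 : Fin 5) : ℕ) + j from rfl,
    cz_bits, cz_bits, cz_bits, cz_bits, cz_bits]
  fin_cases j <;> simp [Bool.xor_comm]

theorem testBit_cz_mul (a : ℕ) (i j : Fin 5) : (mmul cz a).testBit (5 * (i : ℕ) + (j : ℕ)) =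
    (a.testBit (5 * (i : ℕ) + (j : ℕ)) ^^ (decide (i = 0) && a.testBit (5 * 4 + (j : ℕ)))) := by
  rw [testBit_mmul, show (5 * (i : ℕ) + 0) = 5 * (i : ℕ) + ((0 : Fin 5) : ℕ) from rfl,
    show (5 * (i : ℕ) + 1) = 5 * (i : ℕ) + ((1 : Fin 5) : ℕ) from rfl,
    show (5 * (i : ℕ) + 2) = 5 * (i : ℕ) + ((2 : Fin 5) : ℕ) from rfl,
    show (5 * (i : ℕ) + 3) = 5 * (i : ℕ) + ((3 : Fin 5) : ℕ) from rfl,
    show (5 * (i : ℕ) + 4) = 5 * (i : ℕ) + ((4 : Fin 5) : ℕ) from rfl,
    cz_bits, cz_bits, cz_bits, cz_bits, cz_bits]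
  fin_cases i <;> simp

theorem pat_of_comm {a b : ℕ} (h1 : mmul a cz = mmul cz a) (h2 : mmul b a = cI) :
    patOK a = true := by
  have e : ∀ i j : Fin 5, (a.testBit (5 * (i : ℕ) + (j : ℕ)) ^^
        (decide (j = 4) && a.testBit (5 * (i : ℕ) + 0))) =
      (a.testBit (5 * (i : ℕ) + (j : ℕ)) ^^ (decide (i = 0) && a.testBit (5 * 4 + (j : ℕ)))) :=
    fun i j => by rw [← testBit_mul_cz, ← testBit_cz_mul, h1]
  have x0 : ∀ x y : Bool, (x ^^ y) = x → y = false := by decide
  have x1 : ∀ x y : Bool, x = (x ^^ y) → y = false := by decide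
  have c1 : a.testBit 5 = false := x0 _ _ (by simpa using e 1 4)
  have c2 : a.testBit 10 = false := x0 _ _ (by simpa using e 2 4)
  have c3 : a.testBit 15 = false := x0 _ _ (by simpa using e 3 4)
  have c4 : a.testBit 20 = false := x0 _ _ (by simpa using e 4 4)
  have c5 : a.testBit 21 = false := x1 _ _ (by simpa using e 0 1)
  have c6 : a.testBit 22 = false := x1 _ _ (by simpa using e 0 2)
  have c7 : a.testBit 23 = false := x1 _ _ (by simpa using e 0 3)
  have c8 : a.testBit 0 = a.testBit 24 := by simpa using e 0 4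
  have h3 : (mmul b a).testBit (5 * ((0 : Fin 5) : ℕ) + ((0 : Fin 5) : ℕ)) = true := by
    rw [h2]; decide +kernel
  rw [testBit_mmul] at h3
  simp only [Fin.val_zero, Nat.mul_zero, Nat.add_zero, Nat.zero_add, Nat.reduceMul,
    c1, c2, c3, c4, Bool.and_false, Bool.xor_false, Bool.and_eq_true] at h3
  simp [patOK, c1, c2, c3, c4, c5, c6, c7, ← c8, h3.2]

set_option maxRecDepth 100000 in
theorem kernel_vec : ((List.range 512).all fun m => midOK m || ((List.range 8).all fun c =>
    (List.range 16).any fun v => Nat.blt 0 v &&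
      Nat.beq (rowMul (2 * v) (mkC m (c <<< 4))) 0)) = true := by
  decide +kernel

theorem rowMul_zero (b : ℕ) : rowMul 0 b = 0 := by simp [rowMul]

end Cfsg.Agent.H7Held
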