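import Cfsg.Agent.H7Held.Tables

/-!
Computed facts on the coded centraliser.
-/

set_option autoImplicit false

namespace Cfsg.Agent.H7Held

/-- product of a word in the roots -/
noncomputable def wordC : List ℕ → ℕ
  | [] => cI
  | i :: w => force (wordC w) fun b => mmul (roots.getD i cI) b

/-- key of an element -/
def keyC (a : ℕ) : ℕ := (midOf a <<< 7) ||| qbOf a

/-- membership in a class of involutions -/
def inCls (c a : ℕ) : Bool := (classMask.getD c 0).testBit (keyC a)

/-- some class contains the element -/
def inSomeCls (a : ℕ) : Bool := (List.range 8).any fun c => inCls c a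

/-- the word of a middle block -/
def midWord (m : ℕ) : List ℕ := ((midWords.find? fun p => p.1 == m).map Prod.snd).getD []

/-- the root of a bit of the unipotent part -/
def qRootAux (q : ℕ) : List ℕ :=
  (List.range 7).filterMap fun r => if q.testBit r then some r else none

/-- the check at one middle block -/
noncomputable def passMid (m : ℕ) : Bool :=
  !midOK m ||
    (Nat.beq (wordC (midWord m)) (mkC m 0) && allB 128 fun q => force (mkC m q) fun a =>
      Nat.beq (midOf a) m && Nat.beq (qbOf a) q &&
      Nat.beq (mmul (mmul (mkC 273 ((q >>> 4) <<< 4)) (mkC m 0)) (mkC 273 (q &&& 15))) a &&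
      (!Nat.beq (mmul a a) cI || Nat.beq a cI || inSomeCls a))

/-- the check at one unipotent part -/
noncomputable def passQ (q : ℕ) : Bool := force (mkC 273 q) fun a =>
  (List.range 7).all fun r => force (mkC 273 (1 <<< r)) fun b =>
    roots.elem b && (q.testBit r || Nat.blt 127 q ||
      Nat.beq (mmul a b) (mkC 273 (q ||| (1 <<< r))) ||
      Nat.beq (mmul b a) (mkC 273 (q ||| (1 <<< r))))

set_option maxRecDepth 100000 in
theorem pass0 : allB 128 passMid = true := by decide +kernel
set_option maxRecDepth 100000 in
theorem pass1 : allB 128 (fun m => passMid (128 + m)) = true := by decide +kernel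
set_option maxRecDepth 100000 in
theorem pass2 : allB 128 (fun m => passMid (256 + m)) = true := by decide +kernel
set_option maxRecDepth 100000 in
theorem pass3 : allB 128 (fun m => passMid (384 + m)) = true := by decide +kernel
set_option maxRecDepth 100000 in
theorem passQ_ok : allB 128 passQ = true := by decide +kernel

theorem pass_all {m : ℕ} (h : m < 512) : passMid m = true := by
  rcases Nat.lt_or_ge m 128 with h0 | h0
  · exact allB_sound pass0 m h0
  rcases Nat.lt_or_ge m 256 with h1 | h1
  · obtain ⟨r, rfl⟩ := Nat.exists_eq_add_of_le h0
    exact allB_sound pass1 r (by omega)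
  rcases Nat.lt_or_ge m 384 with h2 | h2
  · obtain ⟨r, rfl⟩ := Nat.exists_eq_add_of_le h1
    exact allB_sound pass2 r (by omega)
  · obtain ⟨r, rfl⟩ := Nat.exists_eq_add_of_le h2
    exact allB_sound pass3 r (by omega)

/-- the class tree is valid: every entry is the conjugate by a root of an earlier element of
its class -/
noncomputable def treeOK : List (ℕ × ℕ × ℕ × ℕ) → List (ℕ × ℕ) → Bool
  | [], _ => true
  | (a, i, b, c) :: t, seen => seen.elem (b, c) && inCls c a && isC a &&
      Nat.blt i roots.length && Nat.blt c 8 && force (roots.getD i cI) (fun g =>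
        Nat.beq (mmul (mmul g b) g) a) && treeOK t ((a, c) :: seen)

/-- representatives with their classes -/
def repPairs : List (ℕ × ℕ) := classRep.zip (List.range 8)

set_option maxRecDepth 100000 in
theorem treeOK_ok : treeOK classTree repPairs = true := by decide +kernel

/-- all listed involutions with their classes -/
def invPairs : List (ℕ × ℕ) := repPairs ++ classTree.map fun e => (e.1, e.2.2.2)

set_option maxRecDepth 100000 in
theorem classMask_ok : (invPairs.all fun p => isC p.1 && inCls p.2 p.1 &&
      Nat.beq (mmul p.1 p.1) cI && !Nat.beq p.1 cI) &&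
    ((List.range 8).all fun c => Nat.beq (classMask.getD c 0)
      ((invPairs.filter fun p => p.2 == c).foldl (fun M p => M ||| (1 <<< keyC p.1)) 0)) = true := by
  decide +kernel

set_option maxRecDepth 100000 in
theorem roots_ok : (roots.all fun g => isC g && Nat.beq (mmul g g) cI) = true := by decide +kernel

set_option maxRecDepth 100000 in
theorem classes_invariant : (invPairs.all fun p => roots.all fun g =>
    inCls p.2 (mmul (mmul g p.1) g)) = true := by
  decide +kernel

end Cfsg.Agent.H7Held
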