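import Cfsg.Agent.H7Held.CModel

/-!
The coded centraliser is closed and contains every invertible code commuting with `cz`.
-/

set_option autoImplicit false

namespace Cfsg.Agent.H7Held

theorem rowc_le (a i : ℕ) {j : ℕ} (hj : 5 ≤ j) : (rowc a i).testBit j = false :=
  Nat.testBit_lt_two_pow (lt_of_lt_of_le (rowc_lt a i)
    (le_trans (by norm_num : (32 : ℕ) ≤ 2 ^ 5) (Nat.pow_le_pow_right two_pos hj)))

theorem mkC_lt (m q : ℕ) : mkC m q < 2 ^ 25 := by
  apply Nat.lt_pow_two_of_testBit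
  intro k hk
  have t1 : (1 : ℕ).testBit k = false :=
    Nat.testBit_lt_two_pow (lt_of_lt_of_le (by norm_num) (Nat.pow_le_pow_right two_pos hk))
  have t15 : ∀ j, 4 ≤ j → (15 : ℕ).testBit j = false := fun j hj =>
    Nat.testBit_lt_two_pow (lt_of_lt_of_le (by norm_num : (15 : ℕ) < 2 ^ 4)
      (Nat.pow_le_pow_right two_pos hj))
  have t7 : ∀ j, 3 ≤ j → (7 : ℕ).testBit j = false := fun j hj =>
    Nat.testBit_lt_two_pow (lt_of_lt_of_le (by norm_num : (7 : ℕ) < 2 ^ 3)
      (Nat.pow_le_pow_right two_pos hj))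
  have o1 : ∀ j, 1 ≤ j → (1 : ℕ).testBit j = false := fun j hj =>
    Nat.testBit_lt_two_pow (lt_of_lt_of_le (by norm_num : (1 : ℕ) < 2 ^ 1)
      (Nat.pow_le_pow_right two_pos hj))
  have t16 : ∀ j, 5 ≤ j → (16 : ℕ).testBit j = false := fun j hj =>
    Nat.testBit_lt_two_pow (lt_of_lt_of_le (by norm_num : (16 : ℕ) < 2 ^ 5)
      (Nat.pow_le_pow_right two_pos hj))
  have kd : ∀ j, j ≤ 25 → decide (j ≤ k) = true := fun j hj => decide_eq_true (by omega)
  simp only [mkC, Nat.testBit_or, Nat.testBit_shiftLeft, Nat.testBit_and, Nat.testBit_shiftRight]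
  rw [t1, t15 (k - 1) (by omega), t7 (k - 5 - 1) (by omega), o1 (k - 5 - 4) (by omega),
    t7 (k - 10 - 1) (by omega), o1 (k - 10 - 4) (by omega), t7 (k - 15 - 1) (by omega),
    o1 (k - 15 - 4) (by omega), t16 (k - 20) (by omega)]
  simp

theorem testBit_mod_two (x j : ℕ) : (x % 2).testBit j = (decide (j < 1) && x.testBit j) := by
  rw [show (2 : ℕ) = 2 ^ 1 from rfl, Nat.testBit_mod_two_pow]

theorem mk_eq_of_pat {a : ℕ} (ha : a < 2 ^ 25) (hp : patOK a = true) :
    mkC (midOf a) (qbOf a) = a := by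
  simp only [patOK, Bool.and_eq_true, Bool.not_eq_true'] at hp
  obtain ⟨⟨⟨⟨⟨⟨⟨⟨b0, b5⟩, b10⟩, b15⟩, b20⟩, b21⟩, b22⟩, b23⟩, b24⟩ := hp
  have b0' : decide (a % 2 = 1) = true := by rwa [← Nat.testBit_zero]
  apply Nat.eq_of_testBit_eq
  intro k
  rcases Nat.lt_or_ge k 25 with hk | hk
  · have rc : ∀ i j, j < 5 → (rowc a i).testBit j = a.testBit (5 * i + j) :=
      fun i j hj => testBit_rowc a i hj
    interval_cases k <;>
      simp [mkC, midOf, qbOf, rc, rowc_le, Nat.testBit_or, Nat.testBit_shiftLeft, Nat.testBit_and,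
        Nat.testBit_shiftRight, testBit_mod_two, b0, b0', b5, b10, b15, b20, b21, b22, b23, b24,
        show ∀ j, (7 : ℕ).testBit j = decide (j < 3) from fun j => by
          rw [show (7 : ℕ) = 2 ^ 3 - 1 from rfl, Nat.testBit_two_pow_sub_one],
        show ∀ j, (15 : ℕ).testBit j = decide (j < 4) from fun j => by
          rw [show (15 : ℕ) = 2 ^ 4 - 1 from rfl, Nat.testBit_two_pow_sub_one]] <;>
      (first | decide | (generalize a.testBit _ = x; cases x <;> decide))
  · rw [Nat.testBit_lt_two_pow (lt_of_lt_of_le (mkC_lt _ _) (Nat.pow_le_pow_right two_pos hk)),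
      Nat.testBit_lt_two_pow (lt_of_lt_of_le ha (Nat.pow_le_pow_right two_pos hk))]

theorem shiftRight_clear (q : ℕ) {k : ℕ} (hk : 4 ≤ k) :
    (((q >>> 4) <<< 4) >>> k) = q >>> k := by
  apply Nat.eq_of_testBit_eq
  intro j
  simp [Nat.testBit_shiftRight, Nat.testBit_shiftLeft, show 4 ≤ k + j by omega,
    show 4 + (k + j - 4) = k + j by omega]

theorem rowc_mkC_rest (m q : ℕ) {i : ℕ} (hi : 1 ≤ i) :
    rowc (mkC m q) i = rowc (mkC m ((q >>> 4) <<< 4)) i := by
  apply Nat.eq_of_testBit_eq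
  intro j
  rcases Nat.lt_or_ge j 5 with hj | hj
  · rw [testBit_rowc _ _ hj, testBit_rowc _ _ hj]
    simp only [mkC, shiftRight_clear q (le_refl 4), shiftRight_clear q (show 4 ≤ 5 by norm_num),
      shiftRight_clear q (show 4 ≤ 6 by norm_num)]
    simp only [Nat.testBit_or, Nat.testBit_shiftLeft, Nat.testBit_and]
    rw [show (15 : ℕ) = 2 ^ 4 - 1 from rfl, Nat.testBit_two_pow_sub_one,
      show decide (5 * i + j - 1 < 4) = false from decide_eq_false (by omega)]
    simp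
  · rw [rowc_le _ _ hj, rowc_le _ _ hj]

theorem isC_of {a b : ℕ} (ha : a < 2 ^ 25) (h1 : mmul a cz = mmul cz a) (h2 : mmul a b = cI) :
    isC a = true := by
  have h3 : mmul b a = cI := by
    refine eq_of_toMat (mmul_lt _ _) (by decide) ?_
    have := congrArg toMat h2
    rw [toMat_mmul, toMat_cI] at this
    rw [toMat_mmul, toMat_cI]; exact mul_eq_one_comm.mp this
  have he := mk_eq_of_pat ha (pat_of_comm h1 h3)
  simp only [isC, Bool.and_eq_true, Nat.beq_eq]
  refine ⟨he, ?_⟩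
  by_contra hm
  have hk := List.all_eq_true.mp kernel_vec (midOf a) (List.mem_range.mpr (midOf_lt a))
  simp only [Bool.not_eq_true _ ▸ hm, Bool.false_or, List.all_eq_true, List.any_eq_true,
    List.mem_range, Bool.and_eq_true, Nat.beq_eq, Nat.blt_eq] at hk
  obtain ⟨v, hv, hv0, hv1⟩ := hk (qbOf a >>> 4) (by
    have := qbOf_lt a; simp only [Nat.shiftRight_eq_div_pow]; omega)
  have hb0 : (2 * v).testBit 0 = false := by simp
  have hrow : rowMul (2 * v) a = 0 := by
    rw [← hv1]; conv_lhs => rw [← he]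
    simp only [rowMul, hb0, cond_false, rowc_mkC_rest _ (qbOf a) (show 1 ≤ 1 by norm_num),
      rowc_mkC_rest _ (qbOf a) (show 1 ≤ 2 by norm_num),
      rowc_mkC_rest _ (qbOf a) (show 1 ≤ 3 by norm_num),
      rowc_mkC_rest _ (qbOf a) (show 1 ≤ 4 by norm_num)]
  have hrest : ∀ i, 1 ≤ i → rowc (2 * v) i = 0 := fun i hi => by
    rw [rowc_eq, Nat.div_eq_of_lt]
    calc 2 * v < 32 ^ 1 := by omega
      _ ≤ 32 ^ i := Nat.pow_le_pow_right (by norm_num) hi
  have hW : mmul (2 * v) a = 0 := by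
    simp only [mmul, force_eq, mmulCore, hrest 1 le_rfl, hrest 2 (by norm_num),
      hrest 3 (by norm_num), hrest 4 (by norm_num), rowMul_zero,
      show rowc (2 * v) 0 = 2 * v by rw [rowc_eq]; omega, hrow]
  have h5 : mmul (mmul (2 * v) a) b = mmul 0 b := by rw [hW]
  rw [mmul_assoc, h2, (mmul_cI (by omega)).1] at h5
  have h0 : mmul 0 b = 0 := by
    simp [mmul, force_eq, mmulCore, show ∀ i, rowc 0 i = 0 from fun i => by simp [rowc],
      rowMul_zero]
  omega

theorem isC_lt {a : ℕ} (h : isC a = true) : a < 2 ^ 25 := (isC_inv h).1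

theorem pat_mkC (m q : ℕ) : patOK (mkC m q) = true := by
  have h15 : ∀ j, (15 : ℕ).testBit j = decide (j < 4) := fun j => by
    rw [show (15 : ℕ) = 2 ^ 4 - 1 from rfl, Nat.testBit_two_pow_sub_one]
  have h7 : ∀ j, (7 : ℕ).testBit j = decide (j < 3) := fun j => by
    rw [show (7 : ℕ) = 2 ^ 3 - 1 from rfl, Nat.testBit_two_pow_sub_one]
  simp [patOK, mkC, Nat.testBit_or, Nat.testBit_shiftLeft, Nat.testBit_and,
    Nat.testBit_shiftRight, testBit_mod_two, h15, h7, -Nat.testBit_zero]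
  decide

theorem isC_comm {a : ℕ} (h : isC a = true) : mmul a cz = mmul cz a := by
  have hp : patOK a = true := by
    simp only [isC, Bool.and_eq_true, Nat.beq_eq] at h; rw [← h.1]; exact pat_mkC _ _
  simp only [patOK, Bool.and_eq_true, Bool.not_eq_true'] at hp
  obtain ⟨⟨⟨⟨⟨⟨⟨⟨b0, b5⟩, b10⟩, b15⟩, b20⟩, b21⟩, b22⟩, b23⟩, b24⟩ := hp
  apply eq_of_toMat (mmul_lt _ _) (mmul_lt _ _)
  ext i j
  simp only [toMat, Matrix.of_apply, testBit_mul_cz, testBit_cz_mul]
  fin_cases i <;> fin_cases j <;> simp [b5, b10, b15, b20, b21, b22, b23, b24, b0, -Nat.testBit_zero]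

theorem isC_mul {a b : ℕ} (ha : isC a = true) (hb : isC b = true) : isC (mmul a b) = true := by
  refine isC_of (mmul_lt _ _) ?_ (b := mmul (invC b) (invC a)) ?_
  · rw [mmul_assoc, isC_comm hb, ← mmul_assoc, isC_comm ha, mmul_assoc]
  · rw [mmul_assoc, ← mmul_assoc b, (isC_inv hb).2]
    rw [← mmul_assoc, (mmul_cI (isC_lt ha)).1, (isC_inv ha).2]

theorem isC_invC {a : ℕ} (ha : isC a = true) : isC (invC a) = true := by
  have hlt : invC a < 2 ^ 25 := by simp only [invC, force_eq]; exact mmul_lt _ _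
  refine isC_of hlt ?_ (b := a) (isC_inv' ha)
  have h := isC_comm ha
  calc mmul (invC a) cz = mmul (mmul (invC a) cz) (mmul a (invC a)) := by
        rw [(isC_inv ha).2, (mmul_cI (mmul_lt _ _)).1]
    _ = mmul (mmul (invC a) (mmul a cz)) (invC a) := by
        rw [← mmul_assoc, mmul_assoc (invC a) cz a, h]
    _ = mmul cz (invC a) := by
        rw [← mmul_assoc (invC a), isC_inv' ha, (mmul_cI (by decide)).2]

end Cfsg.Agent.H7Held
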