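import Cfsg.Agent.H45.CosetCheck

/-!
Codes for 5x5 matrices over GF(2): bit `5*i+j` is the entry `(i,j)`.
-/

set_option autoImplicit false

namespace Cfsg.Agent.H7Held

export Cfsg.Agent.H45 (force force_eq)

/-- row `i` of a code -/
def rowc (a i : ℕ) : ℕ := (a >>> (5 * i)) &&& 31

/-- a row vector times a code -/
def rowMul (r b : ℕ) : ℕ :=
  (bif r.testBit 0 then rowc b 0 else 0) ^^^ (bif r.testBit 1 then rowc b 1 else 0) ^^^
    (bif r.testBit 2 then rowc b 2 else 0) ^^^ (bif r.testBit 3 then rowc b 3 else 0) ^^^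
    (bif r.testBit 4 then rowc b 4 else 0)

/-- product of codes -/
def mmulCore (a b : ℕ) : ℕ :=
  rowMul (rowc a 0) b + 32 * (rowMul (rowc a 1) b + 32 * (rowMul (rowc a 2) b +
    32 * (rowMul (rowc a 3) b + 32 * rowMul (rowc a 4) b)))

/-- product of codes, with evaluated arguments -/
noncomputable def mmul (a b : ℕ) : ℕ := force a fun a' => force b fun b' => mmulCore a' b'

/-- the identity code -/
def cI : ℕ := 17043521

/-- the code of the transvection `I + E(0,4)` -/
def cz : ℕ := 17043537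

/-- code of `I + E(i,j)` -/
def tvc (i j : ℕ) : ℕ := cI ||| (1 <<< (5 * i + j))

abbrev M5 : Type := Matrix (Fin 5) (Fin 5) (ZMod 2)

/-- the matrix of a code -/
def toMat (a : ℕ) : M5 :=
  Matrix.of fun i j => if a.testBit (5 * (i : ℕ) + (j : ℕ)) then 1 else 0

/-- the code of a matrix -/
def ofMat (M : M5) : ℕ :=
  Nat.ofBits fun k : Fin 25 => decide (M ⟨k.val / 5, by omega⟩ ⟨k.val % 5, by omega⟩ = 1)

theorem rowc_eq (a i : ℕ) : rowc a i = a / 32 ^ i % 32 := by
  unfold rowc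
  rw [Nat.shiftRight_eq_div_pow, Nat.and_two_pow_sub_one_eq_mod _ 5, Nat.pow_mul]

theorem rowc_lt (a i : ℕ) : rowc a i < 32 := by
  rw [rowc_eq]; exact Nat.mod_lt _ (by norm_num)

theorem testBit_rowc (a i : ℕ) {j : ℕ} (hj : j < 5) :
    (rowc a i).testBit j = a.testBit (5 * i + j) := by
  unfold rowc
  rw [Nat.testBit_and, Nat.testBit_shiftRight]
  have : ∀ k : Fin 5, (31 : ℕ).testBit k = true := by decide
  rw [this ⟨j, hj⟩, Bool.and_true]

theorem rowMul_lt (r b : ℕ) : rowMul r b < 32 := by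
  have h : ∀ (c : Bool) (i : ℕ), (bif c then rowc b i else 0) < 2 ^ 5 := by
    intro c i; cases c
    · simp
    · simpa using rowc_lt b i
  unfold rowMul
  exact Nat.xor_lt_two_pow (Nat.xor_lt_two_pow (Nat.xor_lt_two_pow
    (Nat.xor_lt_two_pow (h _ _) (h _ _)) (h _ _)) (h _ _)) (h _ _)

theorem mmul_lt (a b : ℕ) : mmul a b < 2 ^ 25 := by
  have h0 := rowMul_lt (rowc a 0) b; have h1 := rowMul_lt (rowc a 1) b
  have h2 := rowMul_lt (rowc a 2) b; have h3 := rowMul_lt (rowc a 3) b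
  have h4 := rowMul_lt (rowc a 4) b
  simp only [mmul, force_eq, mmulCore]; norm_num; omega

theorem rowc_mmul (a b : ℕ) (i : Fin 5) : rowc (mmul a b) i = rowMul (rowc a i) b := by
  have h0 := rowMul_lt (rowc a 0) b; have h1 := rowMul_lt (rowc a 1) b
  have h2 := rowMul_lt (rowc a 2) b; have h3 := rowMul_lt (rowc a 3) b
  have h4 := rowMul_lt (rowc a 4) b
  rw [rowc_eq]
  simp only [mmul, force_eq, mmulCore]
  fin_cases i <;> simp only [Fin.val_zero, Fin.val_one] <;> norm_num <;> omega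

theorem testBit_mmul (a b : ℕ) (i j : Fin 5) :
    (mmul a b).testBit (5 * (i : ℕ) + (j : ℕ)) =
      ((a.testBit (5 * (i : ℕ) + 0) && b.testBit (5 * 0 + (j : ℕ))) ^^
       (a.testBit (5 * (i : ℕ) + 1) && b.testBit (5 * 1 + (j : ℕ))) ^^
       (a.testBit (5 * (i : ℕ) + 2) && b.testBit (5 * 2 + (j : ℕ))) ^^
       (a.testBit (5 * (i : ℕ) + 3) && b.testBit (5 * 3 + (j : ℕ))) ^^
       (a.testBit (5 * (i : ℕ) + 4) && b.testBit (5 * 4 + (j : ℕ)))) := by
  rw [← testBit_rowc _ _ j.isLt, rowc_mmul]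
  have hb : ∀ (c : Bool) (k : ℕ), (bif c then rowc b k else 0).testBit j =
      (c && b.testBit (5 * k + j)) := by
    intro c k; cases c <;> simp [testBit_rowc _ _ j.isLt]
  simp only [rowMul, Nat.testBit_xor, hb]
  simp only [testBit_rowc a _ (show 0 < 5 by norm_num), testBit_rowc a _ (show 1 < 5 by norm_num),
    testBit_rowc a _ (show 2 < 5 by norm_num), testBit_rowc a _ (show 3 < 5 by norm_num),
    testBit_rowc a _ (show 4 < 5 by norm_num)]

theorem toMat_mmul (a b : ℕ) : toMat (mmul a b) = toMat a * toMat b := by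
  ext i j
  rw [Matrix.mul_apply, Fin.sum_univ_five]
  simp only [toMat, Matrix.of_apply, testBit_mmul]
  have key : ∀ p0 p1 p2 p3 p4 q0 q1 q2 q3 q4 : Bool,
      (if ((p0 && q0) ^^ (p1 && q1) ^^ (p2 && q2) ^^ (p3 && q3) ^^ (p4 && q4)) = true
        then (1 : ZMod 2) else 0) =
      (if p0 = true then 1 else 0) * (if q0 = true then 1 else 0) +
      (if p1 = true then 1 else 0) * (if q1 = true then 1 else 0) +
      (if p2 = true then 1 else 0) * (if q2 = true then 1 else 0) +
      (if p3 = true then 1 else 0) * (if q3 = true then 1 else 0) +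
      (if p4 = true then 1 else 0) * (if q4 = true then 1 else 0) := by decide
  exact key _ _ _ _ _ _ _ _ _ _

theorem eq_of_toMat {a b : ℕ} (ha : a < 2 ^ 25) (hb : b < 2 ^ 25) (h : toMat a = toMat b) :
    a = b := by
  apply Nat.eq_of_testBit_eq
  intro k
  rcases Nat.lt_or_ge k 25 with hk | hk
  · have h1 := congrFun (congrFun h ⟨k / 5, by omega⟩) ⟨k % 5, by omega⟩
    simp only [toMat, Matrix.of_apply, Nat.div_add_mod] at h1
    revert h1
    cases a.testBit k <;> cases b.testBit k <;> simp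
  · rw [Nat.testBit_lt_two_pow (lt_of_lt_of_le ha (Nat.pow_le_pow_right two_pos hk)),
      Nat.testBit_lt_two_pow (lt_of_lt_of_le hb (Nat.pow_le_pow_right two_pos hk))]

theorem ofMat_lt (M : M5) : ofMat M < 2 ^ 25 := Nat.ofBits_lt_two_pow _

theorem testBit_ofMat (M : M5) (i j : Fin 5) :
    (ofMat M).testBit (5 * (i : ℕ) + (j : ℕ)) = decide (M i j = 1) := by
  have hk : 5 * (i : ℕ) + (j : ℕ) < 25 := by omega
  unfold ofMat
  rw [Nat.testBit_ofBits_lt _ _ hk]
  congr 2
  congr 1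
  · exact Fin.ext (by simp only [Fin.val_mk]; omega)
  · exact Fin.ext (by simp only [Fin.val_mk]; omega)

theorem toMat_ofMat (M : M5) : toMat (ofMat M) = M := by
  ext i j
  simp only [toMat, Matrix.of_apply, testBit_ofMat]
  have key : ∀ x : ZMod 2, (if decide (x = 1) = true then (1 : ZMod 2) else 0) = x := by decide
  exact key _

theorem mmul_assoc (a b c : ℕ) : mmul (mmul a b) c = mmul a (mmul b c) :=
  eq_of_toMat (mmul_lt _ _) (mmul_lt _ _) (by simp only [toMat_mmul, Matrix.mul_assoc])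

theorem ofMat_mul (M N : M5) : ofMat (M * N) = mmul (ofMat M) (ofMat N) :=
  eq_of_toMat (ofMat_lt _) (mmul_lt _ _) (by rw [toMat_mmul, toMat_ofMat, toMat_ofMat, toMat_ofMat])

theorem ofMat_injective : Function.Injective ofMat := fun M N h => by
  rw [← toMat_ofMat M, ← toMat_ofMat N, h]

theorem toMat_cI : toMat cI = 1 := by decide +kernel

theorem mmul_cI {a : ℕ} (ha : a < 2 ^ 25) : mmul a cI = a ∧ mmul cI a = a :=
  ⟨eq_of_toMat (mmul_lt _ _) ha (by rw [toMat_mmul, toMat_cI, Matrix.mul_one]),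
    eq_of_toMat (mmul_lt _ _) ha (by rw [toMat_mmul, toMat_cI, Matrix.one_mul])⟩

end Cfsg.Agent.H7Held
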