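import Cfsg.Agent.H7Held.Sub

/-!
The Sylow 2-subgroup has exactly two elementary subgroups of order 64.
-/

set_option autoImplicit false

namespace Cfsg.Agent.H7Held

theorem mapF_eq (x : ℕ) : ∀ (l : List ℕ) (k : List ℕ → Bool), mapF x l k = k (l.map (mmul x))
  | [], k => rfl
  | s :: l, k => by simp [mapF, mapF_eq x l, force_eq]

/-- the bit set of positions -/
def maskL : List ℕ → ℕ
  | [] => 0
  | y :: l => maskL l ||| (1 <<< sIdx y)

theorem maskOf_eq : ∀ (l : List ℕ) (c : ℕ → Bool), maskOf l c = c (maskL l)
  | [], c => rfl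
  | y :: l, c => by simp [maskOf, maskL, maskOf_eq l, force_eq]

theorem maskL_testBit : ∀ (l : List ℕ) (j : ℕ),
    (maskL l).testBit j = true ↔ ∃ y ∈ l, sIdx y = j
  | [], j => by simp [maskL]
  | y :: l, j => by
    simp only [maskL, Nat.testBit_or, Nat.one_shiftLeft, Nat.testBit_two_pow, Bool.or_eq_true,
      decide_eq_true_eq, maskL_testBit l, List.mem_cons, exists_eq_or_imp]
    exact or_comm

theorem exists_low : ∀ c, c ≠ 0 → ∃ low, c.testBit low = true ∧
    ∀ k, k ≠ low → (c &&& (c - 1)).testBit k = c.testBit k := by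
  intro c
  induction c using Nat.strong_induction_on with
  | _ c ih =>
    intro hc
    rcases Nat.mod_two_eq_zero_or_one c with h2 | h2
    · obtain ⟨low, h1, h3⟩ := ih (c / 2) (by omega) (by omega)
      refine ⟨low + 1, by rw [Nat.testBit_succ]; exact h1, fun k hk => ?_⟩
      rcases k with _ | k
      · simp [Nat.testBit_zero, h2]
      · rw [Nat.testBit_and, Nat.testBit_succ, Nat.testBit_succ,
          show (c - 1) / 2 = c / 2 - 1 by omega, ← Nat.testBit_and]
        exact h3 k (by omega)
    · refine ⟨0, by simp [Nat.testBit_zero, h2], fun k hk => ?_⟩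
      rcases k with _ | k
      · exact absurd rfl hk
      · rw [Nat.testBit_and, Nat.testBit_succ, Nat.testBit_succ,
          show (c - 1) / 2 = c / 2 by omega, Bool.and_self]

theorem atLeast_of_card : ∀ (n c : ℕ) (s : Finset ℕ), (∀ k ∈ s, c.testBit k = true) →
    n ≤ s.card → atLeast n c = true
  | 0, _, _, _, _ => rfl
  | n + 1, c, s, hs, hn => by
    obtain ⟨k0, hk0⟩ := Finset.card_pos.mp (by omega : 0 < s.card)
    have hc : c ≠ 0 := fun h => by simpa [h] using hs k0 hk0
    obtain ⟨low, -, hlow⟩ := exists_low c hc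
    simp only [atLeast, force_eq, Bool.and_eq_true, Bool.not_eq_true']
    refine ⟨?_, atLeast_of_card n _ (s.erase low) (fun k hk => ?_) ?_⟩
    · simpa [← Bool.not_eq_true, Nat.beq_eq] using hc
    · rw [hlow k (Finset.ne_of_mem_erase hk)]; exact hs k (Finset.mem_of_mem_erase hk)
    · have := Finset.pred_card_le_card_erase (s := s) (a := low); omega

theorem sInv_facts {k : ℕ} (hk : k < 191) : sIdx (sInv k) = k ∧ isS (sInv k) = true ∧
    sInv k ≠ cI ∧ mmul (sInv k) (sInv k) = cI ∧
    ∀ j, j < 191 → mmul (sInv k) (sInv j) = mmul (sInv j) (sInv k) → (sComm k).testBit j = true := by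
  have h := allB_sound sInvol_ok k hk
  simp only [force_eq, Bool.and_eq_true, Nat.beq_eq, Bool.not_eq_true', ← Bool.not_eq_true] at h
  obtain ⟨⟨⟨⟨h1, h2⟩, h3⟩, h4⟩, h5⟩ := h
  refine ⟨h1, h2, h3, h4, fun j hj he => ?_⟩
  have := allB_sound h5 j hj
  simpa [force_eq, he, Bool.not_eq_true'] using this

theorem exists_sInv {a : ℕ} (ha : isS a = true) (h2 : mmul a a = cI) (h1 : a ≠ cI) :
    ∃ k, k < 191 ∧ sInv k = a := by
  have hC := isC_of_isS ha
  simp only [isC, Bool.and_eq_true, Nat.beq_eq] at hC
  obtain ⟨e1, e2, e3⟩ := midOf_bits a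
  have ha' := ha
  simp only [isS, Bool.and_eq_true, Bool.not_eq_true'] at ha'
  have hm : midOf a ∈ uMids := mem_uMids.mpr ⟨midOf_lt a, hC.2, by rw [e1]; exact ha'.1.1.2,
    by rw [e2]; exact ha'.1.2, by rw [e3]; exact ha'.2⟩
  have h := allB_sound (List.all_eq_true.mp sPass_ok _ hm) _ (qbOf_lt a)
  simp only [force_eq, hC.1, Bool.and_eq_true, Bool.or_eq_true, Bool.not_eq_true', Nat.beq_eq,
    ← Bool.not_eq_true, Nat.blt_eq] at h
  rcases h.1.2 with (h' | h') | h'
  · exact absurd h2 h'
  · exact absurd h' h1
  · exact ⟨sIdx a, h'.1, h'.2⟩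

namespace Emb

variable {G : Type*} [Group G] [Finite G] {z : G} (E : Emb z)
include E

theorem eq_A_of_le {F : Subgroup G} (hFS : F ≤ E.S) (hcomm : ∀ x ∈ F, ∀ y ∈ F, x * y = y * x)
    (hsq : ∀ x ∈ F, x * x = 1) (hcard : Nat.card F = 64) : ∃ t, F = E.A t := by
  classical
  have hidx : ∀ e ∈ F, e ≠ 1 → ∃ k, k < 191 ∧ E.ι (sInv k) = e := by
    intro e he hne
    obtain ⟨a, ha, rfl⟩ := hFS he
    have hC := isC_of_isS ha
    have h2 : mmul a a = cI := E.inj (isC_mul hC hC) isC_cI
      (by rw [E.map_mul hC hC, hsq _ he, E.map_cI])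
    obtain ⟨k, hk, rfl⟩ := exists_sInv ha h2 (fun h => hne (by rw [h, E.map_cI]))
    exact ⟨k, hk, rfl⟩
  have hiC : ∀ {k}, k < 191 → isC (sInv k) = true := fun hk => isC_of_isS (sInv_facts hk).2.1
  have key : ∀ (fuel : ℕ) (span : List ℕ) (sm cand : ℕ),
      clique fuel span sm cand = true →
      (∀ s ∈ span, isC s = true ∧ E.ι s ∈ F) →
      (∀ u ∈ span, ∀ v ∈ span, ∃ w ∈ span, E.ι w = E.ι u * E.ι v) →
      (∀ s ∈ span, E.ι s = 1 ∨ ∃ k, k < 191 ∧ sm.testBit k = true ∧ E.ι (sInv k) = E.ι s) →
      (∀ e ∈ F, (∃ s ∈ span, E.ι s = e) ∨ ∃ k, k < 191 ∧ cand.testBit k = true ∧ E.ι (sInv k) = e) →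
      ∃ t, F = E.A t := by
    intro fuel
    induction fuel with
    | zero => intro _ _ _ h; simp [clique] at h
    | succ fuel ih =>
      intro span sm cand hc hspan hgrp hsm hall
      simp only [clique, Bool.or_eq_true, List.any_eq_true, Bool.not_eq_true', ← Bool.not_eq_true]
        at hc
      rcases hc with (⟨t, ht, hacc⟩ | hpr) | hrec
      · refine ⟨t, Subgroup.eq_of_le_of_card_ge ?_ (by rw [hcard, E.card_A])⟩
        rw [Nat.beq_eq] at hacc
        have hin : ∀ k, k < 191 → (sm ||| cand).testBit k = true → E.ι (sInv k) ∈ E.A t := by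
          intro k hk hb
          rw [← hacc, Nat.testBit_and, Bool.and_eq_true] at hb
          have h := allB_sound (List.all_eq_true.mp aInvMask_ok t ht) k hk
          simp only [Bool.or_eq_true, Bool.not_eq_true', hb.2, Bool.true_eq_false, false_or] at h
          exact ⟨sInv k, h, rfl⟩
        intro e he
        rcases hall e he with ⟨s, hs, rfl⟩ | ⟨k, hk, hb, rfl⟩
        · rcases hsm s hs with h1 | ⟨k, hk, hb, h1⟩
          · rw [h1]; exact one_mem _
          · rw [← h1]; exact hin k hk (by simp [Nat.testBit_or, hb])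
        · exact hin k hk (by simp [Nat.testBit_or, hb])
      · exfalso; apply hpr
        let s : Finset ℕ := (Finset.range 191).filter fun k => cand.testBit k = true
        refine atLeast_of_card _ _ s (fun k hk => (Finset.mem_filter.mp hk).2) ?_
        have hsub : (F : Set G) ⊆ ↑(span.toFinset.image E.ι ∪ s.image fun k => E.ι (sInv k)) := by
          intro e he
          simp only [Finset.coe_union, Finset.coe_image, Set.mem_union, Set.mem_image,
            Finset.mem_coe, List.mem_toFinset]
          rcases hall e he with ⟨x, hx, rfl⟩ | ⟨k, hk, hb, rfl⟩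
          · exact Or.inl ⟨x, hx, rfl⟩
          · exact Or.inr ⟨k, Finset.mem_filter.mpr ⟨Finset.mem_range.mpr hk, hb⟩, rfl⟩
        have h1 := Set.ncard_le_ncard hsub (Finset.finite_toSet _)
        rw [Set.ncard_coe_finset, ← Nat.card_coe_set_eq, SetLike.coe_sort_coe, hcard] at h1
        have h2 := Finset.card_union_le (span.toFinset.image E.ι) (s.image fun k => E.ι (sInv k))
        have h3 := (Finset.card_image_le (s := span.toFinset) (f := E.ι)).trans
          (List.toFinset_card_le span)
        have h4 := Finset.card_image_le (s := s) (f := fun k => E.ι (sInv k))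
        omega
      · simp only [Bool.and_eq_true, Nat.blt_eq] at hrec
        obtain ⟨hlen, hrec⟩ := hrec
        have hfull : ¬ ∀ e ∈ F, ∃ s ∈ span, E.ι s = e := by
          intro hfull
          have hsub : (F : Set G) ⊆ ↑(span.toFinset.image E.ι) := by
            intro e he
            simpa using hfull e he
          have h1 := Set.ncard_le_ncard hsub (Finset.finite_toSet _)
          rw [Set.ncard_coe_finset, ← Nat.card_coe_set_eq, SetLike.coe_sort_coe, hcard] at h1
          have h3 := (Finset.card_image_le (s := span.toFinset) (f := E.ι)).trans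
            (List.toFinset_card_le span)
          omega
        push_neg at hfull
        obtain ⟨e0, he0, hne0⟩ := hfull
        have hex : ∃ k, k < 191 ∧ cand.testBit k = true ∧ E.ι (sInv k) ∈ F ∧
            ∀ s ∈ span, E.ι s ≠ E.ι (sInv k) := by
          rcases hall e0 he0 with ⟨s, hs, h⟩ | ⟨k, hk, hb, rfl⟩
          · exact absurd h (hne0 s hs)
          · exact ⟨k, hk, hb, he0, hne0⟩
        obtain ⟨k, ⟨hk, hb, hkF, hkne⟩, hmin⟩ : ∃ k, (k < 191 ∧ cand.testBit k = true ∧
            E.ι (sInv k) ∈ F ∧ ∀ s ∈ span, E.ι s ≠ E.ι (sInv k)) ∧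
            ∀ j, (j < 191 ∧ cand.testBit j = true ∧
            E.ι (sInv j) ∈ F ∧ ∀ s ∈ span, E.ι s ≠ E.ι (sInv j)) → k ≤ j :=
          ⟨Nat.find hex, Nat.find_spec hex, fun j hj => Nat.find_le hj⟩
        have h := allB_sound hrec k hk
        simp only [hb, Bool.not_true, Bool.false_or, force_eq, mapF_eq, maskOf_eq, Bool.or_eq_true,
          Bool.not_eq_true', ← Bool.not_eq_true, Nat.beq_eq] at h
        set ys := span.map (mmul (sInv k)) with hys
        have hxk := hiC hk
        have hy : ∀ y ∈ ys, isC y = true ∧ E.ι y ∈ F ∧ y ≠ cI ∧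
            ∃ j, j < 191 ∧ sInv j = y ∧ cand.testBit j = true ∧ k ≤ j := by
          intro y hy
          obtain ⟨s, hs, rfl⟩ := List.mem_map.mp hy
          obtain ⟨hsC, hsF⟩ := hspan s hs
          have hyC := isC_mul hxk hsC
          have hyF : E.ι (mmul (sInv k) s) ∈ F := by
            rw [E.map_mul hxk hsC]; exact mul_mem hkF hsF
          have hne : ∀ u ∈ span, E.ι u ≠ E.ι (mmul (sInv k) s) := by
            intro u hu hh
            obtain ⟨w, hw, hwe⟩ := hgrp u hu s hs
            apply hkne w hw
            rw [hwe, hh, E.map_mul hxk hsC, mul_assoc, hsq _ hsF, mul_one]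
          have hneI : mmul (sInv k) s ≠ cI := by
            intro hh
            have h1 := congrArg E.ι hh
            rw [E.map_mul hxk hsC, E.map_cI] at h1
            apply hkne s hs
            calc E.ι s = E.ι (sInv k) * (E.ι (sInv k) * E.ι s) := by
                  rw [← mul_assoc, hsq _ hkF, one_mul]
              _ = E.ι (sInv k) := by rw [h1, mul_one]
          refine ⟨hyC, hyF, hneI, ?_⟩
          rcases hall _ hyF with ⟨u, hu, hue⟩ | ⟨j, hj, hjb, hje⟩
          · exact absurd hue (hne u hu)
          · refine ⟨j, hj, E.inj (hiC hj) hyC hje, hjb,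
              hmin j ⟨hj, hjb, by rw [hje]; exact hyF, fun u hu => by rw [hje]; exact hne u hu⟩⟩
        have hym : ∀ j, (maskL ys).testBit j = true → j < 191 ∧ cand.testBit j = true ∧ k ≤ j ∧
            sInv j ∈ ys := by
          intro j hj
          obtain ⟨y, hyy, rfl⟩ := (maskL_testBit ys j).mp hj
          obtain ⟨-, -, -, i, hi, hiy, hib, hik⟩ := hy y hyy
          subst hiy
          rw [(sInv_facts hi).1]
          exact ⟨hi, hib, hik, hyy⟩
        rcases h with (h | h) | h
        · exfalso; apply h
          apply Nat.eq_of_testBit_eq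
          intro j
          rw [Nat.testBit_and]
          cases hh : (maskL ys).testBit j
          · rfl
          · rw [(hym j hh).2.1]; rfl
        · exfalso; apply h
          apply Nat.eq_of_testBit_eq
          intro j
          rw [Nat.testBit_and, Nat.testBit_two_pow_sub_one, Nat.zero_testBit]
          cases hh : (maskL ys).testBit j
          · rfl
          · simp [Nat.not_lt.mpr (hym j hh).2.2.1]
        · refine ih _ _ _ h ?_ ?_ ?_ ?_
          · intro s hs
            rcases List.mem_append.mp hs with hs | hs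
            · exact hspan s hs
            · exact ⟨(hy s hs).1, (hy s hs).2.1⟩
          · have hm : ∀ s ∈ span, E.ι (mmul (sInv k) s) = E.ι (sInv k) * E.ι s :=
              fun s hs => E.map_mul hxk (hspan s hs).1
            intro u hu v hv
            rcases List.mem_append.mp hu with hu | hu <;> rcases List.mem_append.mp hv with hv | hv
            · obtain ⟨w, hw, he⟩ := hgrp u hu v hv
              exact ⟨w, List.mem_append_left _ hw, he⟩
            · obtain ⟨s, hs, rfl⟩ := List.mem_map.mp hv
              obtain ⟨w, hw, he⟩ := hgrp u hu s hs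
              refine ⟨_, List.mem_append_right _ (List.mem_map.mpr ⟨w, hw, rfl⟩), ?_⟩
              rw [hm w hw, he, hm s hs, ← mul_assoc, ← mul_assoc,
                hcomm _ hkF _ (hspan u hu).2]
            · obtain ⟨s, hs, rfl⟩ := List.mem_map.mp hu
              obtain ⟨w, hw, he⟩ := hgrp s hs v hv
              refine ⟨_, List.mem_append_right _ (List.mem_map.mpr ⟨w, hw, rfl⟩), ?_⟩
              rw [hm w hw, he, hm s hs, mul_assoc]
            · obtain ⟨s, hs, rfl⟩ := List.mem_map.mp hu
              obtain ⟨r, hr, rfl⟩ := List.mem_map.mp hv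
              obtain ⟨w, hw, he⟩ := hgrp s hs r hr
              refine ⟨w, List.mem_append_left _ hw, ?_⟩
              rw [he, hm s hs, hm r hr, hcomm _ hkF _ (hspan s hs).2, mul_assoc,
                ← mul_assoc (E.ι (sInv k)) (E.ι (sInv k)), hsq _ hkF, one_mul]
          · intro s hs
            rcases List.mem_append.mp hs with hs | hs
            · rcases hsm s hs with h1 | ⟨j, hj, hjb, hje⟩
              · exact Or.inl h1
              · exact Or.inr ⟨j, hj, by simp [Nat.testBit_or, hjb], hje⟩
            · obtain ⟨-, -, -, j, hj, rfl, -, -⟩ := hy s hs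
              refine Or.inr ⟨j, hj, ?_, rfl⟩
              rw [Nat.testBit_or, (maskL_testBit ys j).mpr ⟨_, hs, (sInv_facts hj).1⟩, Bool.or_true]
          · intro e he
            by_cases hin : ∃ s ∈ span ++ ys, E.ι s = e
            · exact Or.inl hin
            push_neg at hin
            rcases hall e he with ⟨s, hs, hse⟩ | ⟨j, hj, hjb, rfl⟩
            · exact absurd hse (hin s (List.mem_append_left _ hs))
            · refine Or.inr ⟨j, hj, ?_, rfl⟩
              have hkj : k ≤ j := hmin j ⟨hj, hjb, he, fun u hu => hin u (List.mem_append_left _ hu)⟩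
              have hne : j ≠ k := by
                rintro rfl
                rcases hall 1 (one_mem _) with ⟨u, hu, hue⟩ | ⟨i, hi, -, hie⟩
                · refine hin (mmul (sInv j) u)
                    (List.mem_append_right _ (List.mem_map.mpr ⟨u, hu, rfl⟩)) ?_
                  rw [E.map_mul hxk (hspan u hu).1, hue, mul_one]
                · exact (sInv_facts hi).2.2.1 (E.inj (hiC hi) isC_cI (by rw [hie, E.map_cI]))
              have hc : (sComm k).testBit j = true := (sInv_facts hk).2.2.2.2 j hj
                (E.inj (isC_mul hxk (hiC hj)) (isC_mul (hiC hj) hxk)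
                  (by rw [E.map_mul hxk (hiC hj), E.map_mul (hiC hj) hxk, hcomm _ hkF _ he]))
              have hnym : (maskL ys).testBit j = false := by
                cases hh : (maskL ys).testBit j
                · rfl
                · exact absurd rfl (hin _ (List.mem_append_right _ (hym j hh).2.2.2))
              simp [Nat.testBit_xor, Nat.testBit_and, Nat.testBit_shiftLeft,
                Nat.testBit_shiftRight, hnym, hc, hjb, show k + 1 ≤ j by omega,
                show k + 1 + (j - (k + 1)) = j by omega]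
  refine key 8 [cI] 0 _ clique_ok ?_ ?_ ?_ ?_
  · intro s hs; rw [List.mem_singleton.mp hs]; exact ⟨isC_cI, by rw [E.map_cI]; exact one_mem _⟩
  · intro u hu v hv
    rw [List.mem_singleton.mp hu, List.mem_singleton.mp hv]
    exact ⟨cI, List.mem_singleton_self _, by rw [E.map_cI, one_mul]⟩
  · intro s hs; rw [List.mem_singleton.mp hs]; exact Or.inl E.map_cI
  · intro e he
    by_cases h1 : e = 1
    · exact Or.inl ⟨cI, List.mem_singleton_self _, by rw [E.map_cI, h1]⟩
    · obtain ⟨k, hk, rfl⟩ := hidx e he h1
      exact Or.inr ⟨k, hk, by rw [Nat.testBit_two_pow_sub_one]; simpa using hk, rfl⟩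

end Emb

end Cfsg.Agent.H7Held
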