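import Cfsg.Agent.H7Held.Closure

/-!
A group with the transvection centraliser seen on codes.
-/

set_option autoImplicit false

namespace Cfsg.Agent.H7Held

open Matrix

abbrev SL5 : Type := Matrix.SpecialLinearGroup (Fin 5) (ZMod 2)

/-- an involution centraliser on codes -/
structure Emb {G : Type*} [Group G] (z : G) where
  ι : ℕ → G
  map_mul : ∀ {a b}, isC a = true → isC b = true → ι (mmul a b) = ι a * ι b
  inj : ∀ {a b}, isC a = true → isC b = true → ι a = ι b → a = b
  comm : ∀ {a}, isC a = true → ι a * z = z * ι a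
  surj : ∀ {g : G}, g * z = z * g → ∃ a, isC a = true ∧ ι a = g
  map_cz : ι cz = z

theorem isC_cz : isC cz = true := by decide +kernel

theorem isC_cI : isC cI = true := by decide +kernel

/-- the permutation of coordinates -/
def sw : Equiv.Perm (Fin 5) := Equiv.swap 1 4

/-- the code of an element -/
def codeSL (g : SL5) : ℕ := ofMat ((g : M5).submatrix sw sw)

theorem codeSL_mul (g h : SL5) : codeSL (g * h) = mmul (codeSL g) (codeSL h) := by
  unfold codeSL
  rw [← ofMat_mul, Matrix.submatrix_mul_equiv, Matrix.SpecialLinearGroup.coe_mul]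

theorem codeSL_injective : Function.Injective codeSL := fun g h e => by
  have h1 : (g : M5).submatrix sw sw = (h : M5).submatrix sw sw := ofMat_injective e
  refine Subtype.ext (Matrix.ext fun i j => ?_)
  have := congrFun (congrFun h1 (sw.symm i)) (sw.symm j)
  simpa using this

theorem codeSL_one : codeSL 1 = cI := by decide +kernel

theorem codeSL_s {s : SL5} (hs : (s : M5) = Matrix.transvection 0 1 1) : codeSL s = cz := by
  unfold codeSL; rw [hs]; decide +kernel

theorem isC_codeSL {s : SL5} (hs : (s : M5) = Matrix.transvection 0 1 1) {g : SL5}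
    (hg : g * s = s * g) : isC (codeSL g) = true := by
  refine isC_of (ofMat_lt _) ?_ (b := codeSL g⁻¹) ?_
  · rw [← codeSL_s hs, ← codeSL_mul, hg, codeSL_mul]
  · rw [← codeSL_mul, mul_inv_cancel, codeSL_one]

theorem exists_codeSL {s : SL5} (hs : (s : M5) = Matrix.transvection 0 1 1) {a : ℕ}
    (ha : isC a = true) : ∃ g : SL5, g * s = s * g ∧ codeSL g = a := by
  have h := congrArg toMat (isC_inv ha).2
  rw [toMat_mmul, toMat_cI] at h
  have hdet : (toMat a).det = 1 := by
    have h1 := congrArg Matrix.det h
    rw [Matrix.det_mul, Matrix.det_one] at h1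
    have key : ∀ x y : ZMod 2, x * y = 1 → x = 1 := by decide
    exact key _ _ h1
  let g : SL5 := ⟨(toMat a).submatrix sw.symm sw.symm, by rw [Matrix.det_submatrix_equiv_self, hdet]⟩
  have hg : codeSL g = a := by
    refine eq_of_toMat (ofMat_lt _) (isC_lt ha) ?_
    unfold codeSL
    rw [toMat_ofMat]
    ext i j
    simp [g]
  refine ⟨g, codeSL_injective ?_, hg⟩
  rw [codeSL_mul, codeSL_mul, hg, codeSL_s hs, isC_comm ha]

/-- centre check for one middle block -/
noncomputable def centMid (m : ℕ) : Bool :=
  !midOK m || allB 128 fun q => force (mkC m q) fun a =>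
    Nat.beq a cI || Nat.beq a cz ||
      !(([1, 2, 4, 8, 16, 32, 64] : List ℕ).all fun r =>
        Nat.beq (mmul a (mkC 273 r)) (mmul (mkC 273 r) a))

set_option maxRecDepth 100000 in
theorem cent_ok : allB 512 centMid = true := by decide +kernel

theorem centre_check (a : ℕ) (ha : isC a = true) : (Nat.beq a cI || Nat.beq a cz ||
      !(([1, 2, 4, 8, 16, 32, 64] : List ℕ).all fun r =>
        Nat.beq (mmul a (mkC 273 r)) (mmul (mkC 273 r) a))) = true := by
  simp only [isC, Bool.and_eq_true, Nat.beq_eq] at ha
  have h1 := allB_sound cent_ok _ (midOf_lt a)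
  simp only [centMid, ha.2, Bool.not_true, Bool.false_or] at h1
  have h2 := allB_sound h1 _ (qbOf_lt a)
  rwa [force_eq, ha.1] at h2

/-- the embedding from an isomorphism of centralisers -/
theorem exists_emb {G : Type*} [Group G] (z : G) (s : SL5)
    (hs : (s : M5) = Matrix.transvection 0 1 1) (hz : orderOf z = 2)
    (e : Subgroup.centralizer ({z} : Set G) ≃* Subgroup.centralizer ({s} : Set SL5)) :
    Nonempty (Emb z) := by
  classical
  have hmem : ∀ {g : SL5}, g * s = s * g → g ∈ Subgroup.centralizer ({s} : Set SL5) :=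
    fun h => Subgroup.mem_centralizer_singleton_iff.mpr h
  choose f hf1 hf2 using fun (a : ℕ) (h : isC a = true) => exists_codeSL hs h
  let ι : ℕ → G := fun a =>
    if h : isC a = true then (e.symm ⟨f a h, hmem (hf1 a h)⟩ : G) else 1
  have hι : ∀ {a} (h : isC a = true), ι a = (e.symm ⟨f a h, hmem (hf1 a h)⟩ : G) :=
    fun h => dif_pos h
  have hcomm : ∀ {a}, isC a = true → ι a * z = z * ι a := fun h => by
    rw [hι h]; exact Subgroup.mem_centralizer_singleton_iff.mp (e.symm _).2
  have hinj : ∀ {a b}, isC a = true → isC b = true → ι a = ι b → a = b := by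
    intro a b ha hb h
    rw [hι ha, hι hb] at h
    have h2 := congrArg Subtype.val (e.symm.injective (Subtype.ext h))
    rw [← hf2 a ha, ← hf2 b hb]
    exact congrArg codeSL h2
  have hsurj : ∀ {g : G}, g * z = z * g → ∃ a, isC a = true ∧ ι a = g := by
    intro g hg
    let x : Subgroup.centralizer ({z} : Set G) :=
      ⟨g, Subgroup.mem_centralizer_singleton_iff.mpr hg⟩
    have h1 := Subgroup.mem_centralizer_singleton_iff.mp (e x).2
    have hC := isC_codeSL hs h1
    refine ⟨codeSL (e x : SL5), hC, ?_⟩
    rw [hι hC]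
    have h2 : f _ hC = (e x : SL5) := codeSL_injective (hf2 _ hC)
    simp only [h2, Subtype.coe_eta, MulEquiv.symm_apply_apply, x]
  have hmul : ∀ {a b}, isC a = true → isC b = true → ι (mmul a b) = ι a * ι b := by
    intro a b ha hb
    rw [hι (isC_mul ha hb), hι ha, hι hb, ← Subgroup.coe_mul, ← map_mul]
    congr 2
    apply Subtype.ext
    apply codeSL_injective
    rw [Subgroup.coe_mul, codeSL_mul, hf2, hf2, hf2]
  refine ⟨⟨ι, hmul, hinj, hcomm, hsurj, ?_⟩⟩
  obtain ⟨a, ha, hza⟩ := hsurj (g := z) rfl
  have hz1 : z ≠ 1 := fun h => by rw [h, orderOf_one] at hz; norm_num at hz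
  have hI : ι cI = 1 := by
    have := hmul isC_cI isC_cI
    rw [(mmul_cI (by decide)).1] at this
    exact mul_eq_left.mp this.symm
  have hne : a ≠ cI := fun h => hz1 (by rw [← hza, h, hI])
  have hcen : ∀ b, isC b = true → mmul a b = mmul b a := fun b hb =>
    hinj (isC_mul ha hb) (isC_mul hb ha) (by rw [hmul ha hb, hmul hb ha, hza, hcomm hb])
  have hq : ∀ q : Fin 128, mmul a (mkC 273 q) = mmul (mkC 273 q) a := fun q =>
    hcen _ (by
      have : ∀ q : Fin 128, isC (mkC 273 q) = true := by decide +kernel
      exact this q)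
  have hone : a = cz := centre_eq ha hne hq
  rw [← hone, hza]
where
  centre_eq {a : ℕ} (ha : isC a = true) (hne : a ≠ cI)
      (hq : ∀ q : Fin 128, mmul a (mkC 273 q) = mmul (mkC 273 q) a) : a = cz := by
    have h := centre_check a ha
    simp only [Bool.or_eq_true, Nat.beq_eq, Bool.not_eq_true', ← Bool.not_eq_true] at h
    rcases h with (h | h) | h
    · exact absurd h hne
    · exact h
    · exfalso; apply h
      simp only [List.all_eq_true, Nat.beq_eq]
      intro q hq'
      have : q < 128 := by
        have : ∀ x ∈ ([1, 2, 4, 8, 16, 32, 64] : List ℕ), x < 128 := by decide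
        exact this q hq'
      exact hq ⟨q, this⟩

end Cfsg.Agent.H7Held
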