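import Cfsg.Agent.H7Held.Generic

/-!
An external witness from an automorphism of one of the elementary subgroups of order 64.
-/

set_option autoImplicit false

namespace Cfsg.Agent.H7Held

open Subgroup

/-- the map of vectors of a table -/
def pOf (p : List ℕ) (v : ℕ) : ℕ := p.getD v 0

/-- the conditions on an automorphism `p`, a vector `u` and a key `k` -/
noncomputable def extChk (t : Fin 2) (p h : List ℕ) (u k : ℕ) : Bool :=
  Nat.blt k 1024 && Nat.blt u 64 && !Nat.beq u 0 && !(aList t).elem (sOf k) &&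
  allB 64 (fun v => Nat.blt (pOf p v) 64 && Nat.blt (pOf h v) 64 &&
    Nat.beq (mmul (mmul (sOf k) (aOf t v)) (invC (sOf k))) (aOf t (pOf h v)) &&
    Nat.beq (pOf p (pOf p v)) v && Nat.beq (pOf p (pOf h v)) (pOf h (pOf p v)) &&
    (!Nat.beq (pOf h v) v || (List.range 64).any fun a => Nat.beq v (a ^^^ pOf h a)) &&
    (!(Nat.beq (pOf h v) v && Nat.beq (pOf p v) v) || (List.range 64).any fun x =>
      Nat.beq (pOf h x) x && (Nat.beq v (x ^^^ pOf p x) || Nat.beq v (u ^^^ x ^^^ pOf p x)))) &&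
  Nat.beq (pOf p u) u && Nat.beq (pOf h u) u &&
  !Nat.beq (zv t ^^^ pOf p (zv t)) 0 && !Nat.beq (zv t ^^^ pOf p (zv t)) u &&
  ((List.range 64).any fun v => !Nat.beq (pOf p v) v) &&
  ((List.range 64).any fun v => !Nat.beq (pOf p v) (pOf h v)) &&
  (Nat.beq (kMul k k) 0 || Nat.beq (sOf (kMul k k)) (aOf t u))

/-- the elements of the subgroup generated by the vector `u` and the key `k` -/
noncomputable def extSet (t : Fin 2) (u k : ℕ) (L : List ℕ) : Bool :=
  Nat.beq L.length 4 && L.all fun l => Nat.beq (sOf l) cI || Nat.beq (sOf l) (aOf t u) ||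
    Nat.beq (sOf l) (sOf k) || Nat.beq (sOf l) (mmul (aOf t u) (sOf k))

theorem extSet_iff {t : Fin 2} {u k : ℕ} {L : List ℕ} (h : extSet t u k L = true) (hnd : L.Nodup)
    (hlt : ∀ l ∈ L, l < 1024) (c : ℕ) :
    (∃ l ∈ L, sOf l = c) ↔ c = cI ∨ c = aOf t u ∨ c = sOf k ∨ c = mmul (aOf t u) (sOf k) := by
  classical
  simp only [extSet, Bool.and_eq_true, Bool.or_eq_true, Nat.beq_eq, List.all_eq_true] at h
  obtain ⟨hlen, hall⟩ := h
  constructor
  · rintro ⟨l, hl, rfl⟩
    rcases hall l hl with ((e | e) | e) | e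
    exacts [Or.inl e, Or.inr (Or.inl e), Or.inr (Or.inr (Or.inl e)), Or.inr (Or.inr (Or.inr e))]
  · intro hc
    have hs : L.toFinset.image sOf = {cI, aOf t u, sOf k, mmul (aOf t u) (sOf k)} := by
      refine Finset.eq_of_subset_of_card_le ?_ ?_
      · intro c hc
        obtain ⟨l, hl, rfl⟩ := Finset.mem_image.mp hc
        rcases hall l (List.mem_toFinset.mp hl) with ((e | e) | e) | e <;> simp [e]
      · rw [Finset.card_image_of_injOn (fun a ha b hb e => by
          rw [← (isS_sOf (hlt a (List.mem_toFinset.mp ha))).2, e,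
            (isS_sOf (hlt b (List.mem_toFinset.mp hb))).2]),
          List.toFinset_card_of_nodup hnd, hlen]
        exact (Finset.card_insert_le _ _).trans (by
          have := Finset.card_insert_le (aOf t u) ({sOf k, mmul (aOf t u) (sOf k)} : Finset ℕ)
          have h2 := Finset.card_le_two (a := sOf k) (b := mmul (aOf t u) (sOf k))
          omega)
    have : c ∈ L.toFinset.image sOf := by rw [hs]; simpa using hc
    obtain ⟨l, hl, hle⟩ := Finset.mem_image.mp this
    exact ⟨l, List.mem_toFinset.mp hl, hle⟩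

namespace Emb

variable {G : Type*} [Group G] [Finite G] {z : G} (E : Emb z)
include E

theorem mem_A_of_centralizes {t : Fin 2} {g : G} (hg : ∀ v, v < 64 → g * E.av t v = E.av t v * g) :
    g ∈ E.A t := by
  obtain ⟨hzv, hze⟩ := E.z_mem_A t
  have hgz := hg _ hzv
  rw [hze] at hgz
  obtain ⟨a, ha, rfl⟩ := E.surj hgz
  have ha' := ha
  simp only [isC, Bool.and_eq_true, Nat.beq_eq] at ha'
  have h : centA t (midOf a) = true := by
    fin_cases t
    · exact allB_sound centA0 _ (midOf_lt a)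
    · exact allB_sound centA1 _ (midOf_lt a)
  simp only [centA, ha'.2, Bool.not_true, Bool.false_or] at h
  have h2 := allB_sound h _ (qbOf_lt a)
  simp only [force_eq, ha'.1, Bool.or_eq_true, List.any_eq_true, List.mem_range,
    Bool.not_eq_true', ← Bool.not_eq_true, Nat.beq_eq] at h2
  rcases h2 with ⟨k, hk, hne⟩ | h2
  · exfalso
    apply hne
    have hk' : 1 <<< k < 64 := by
      rw [Nat.one_shiftLeft]; exact Nat.pow_lt_pow_right (a := 2) (m := k) (n := 6) (by norm_num) hk
    apply E.inj (isC_mul ha (aOf_isC t hk')) (isC_mul (aOf_isC t hk') ha)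
    rw [E.map_mul ha (aOf_isC t hk'), E.map_mul (aOf_isC t hk') ha]
    exact hg _ hk'
  · exact ⟨a, h2, rfl⟩

/-- the external witness -/
theorem extWitness_of_action {H : Subgroup G} {t : Fin 2} {p h : List ℕ} {u k : ℕ} {L : List ℕ}
    (hchk : extChk t p h u k = true) (hL : extSet t u k L = true) (hnd : L.Nodup)
    (hlt : ∀ l ∈ L, l < 1024) (hC : centralizer ({z} : Set G) ≤ H)
    (hfree : ¬ ∃ l ∈ L, E.sv l = z)
    (hn : ∃ n, n ∈ H ∧ n ∈ normalizer (E.A t : Set G) ∧
      ∀ v, v < 64 → n * E.av t v * n⁻¹ = E.av t (pOf p v)) :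
    ExtWitness H (E.setOf L) := by
  obtain ⟨n, hnH, hnN, hnp⟩ := hn
  simp only [extChk, Bool.and_eq_true, Bool.or_eq_true, Bool.not_eq_true', Nat.blt_eq, Nat.beq_eq,
    List.any_eq_true, List.mem_range, ← Bool.not_eq_true, List.elem_eq_contains,
    List.contains_iff_mem] at hchk
  obtain ⟨⟨⟨⟨⟨⟨⟨⟨⟨⟨⟨hk, hu⟩, hu0⟩, hkA⟩, hall⟩, hpu⟩, hhu⟩, hz0⟩, hzu⟩, hpid⟩, hph⟩, hk2⟩ := hchk
  have hv : ∀ v, v < 64 → pOf p v < 64 ∧ pOf h v < 64 ∧
      mmul (mmul (sOf k) (aOf t v)) (invC (sOf k)) = aOf t (pOf h v) ∧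
      pOf p (pOf p v) = v ∧ pOf p (pOf h v) = pOf h (pOf p v) ∧
      (pOf h v = v → ∃ a, a < 64 ∧ v = a ^^^ pOf h a) ∧
      (pOf h v = v → pOf p v = v → ∃ x, x < 64 ∧ pOf h x = x ∧
        (v = x ^^^ pOf p x ∨ v = u ^^^ x ^^^ pOf p x)) := by
    intro v hv
    have e := allB_sound hall v hv
    simp only [Bool.and_eq_true, Bool.or_eq_true, Bool.not_eq_true', Nat.blt_eq, Nat.beq_eq,
      List.any_eq_true, List.mem_range, ← Bool.not_eq_true] at e
    obtain ⟨⟨⟨⟨⟨⟨e1, e2⟩, e3⟩, e4⟩, e5⟩, e6⟩, e7⟩ := e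
    exact ⟨e1, e2, e3, e4, e5, fun he => e6.resolve_left (not_not.mpr he),
      fun he hp => e7.resolve_left (not_not.mpr ⟨he, hp⟩)⟩
  set w := E.sv k with hw
  have hkC := isC_of_isS (isS_sOf hk).1
  have hwconj : ∀ v, v < 64 → w * E.av t v * w⁻¹ = E.av t (pOf h v) := by
    intro v hv'
    rw [av, av, ← (hv v hv').2.2.1, E.map_conj hkC (aOf_isC t hv')]
    rfl
  have hwswap : ∀ v, v < 64 → w * E.av t v = E.av t (pOf h v) * w := fun v hv' => by
    rw [← hwconj v hv', inv_mul_cancel_right]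
  have hnswap : ∀ v, v < 64 → n * E.av t v = E.av t (pOf p v) * n := fun v hv' => by
    rw [← hnp v hv', inv_mul_cancel_right]
  have hav0 : E.av t 0 = 1 := by rw [av, (aList_facts t).2.1, E.map_cI]
  have hsq : ∀ v, v < 64 → E.av t v * E.av t v = 1 := fun v hv' => E.A_sq t (E.av_mem t hv')
  have hinv : ∀ v, v < 64 → (E.av t v)⁻¹ = E.av t v := fun v hv' =>
    inv_eq_of_mul_eq_one_right (hsq v hv')
  have hw2 : w * w = 1 ∨ w * w = E.av t u := by
    rw [hw, E.sv_mul hk hk]
    rcases hk2 with e | e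
    · exact Or.inl (by rw [e, E.sv_zero])
    · exact Or.inr (by rw [sv, e]; rfl)
  have hnw2 : n * (w * w) * n⁻¹ = w * w := by
    rcases hw2 with e | e <;> rw [e]
    · group
    · rw [hnp u hu, hpu]
  set f := n * w * n⁻¹ * w⁻¹ with hf
  have hfA : f ∈ E.A t := by
    refine E.mem_A_of_centralizes fun v hv' => ?_
    have key : ∀ x, x < 64 → f * E.av t x * f⁻¹ = E.av t x := by
      intro x hx
      obtain ⟨h1, -, -, h4, h5, -, -⟩ := hv x hx
      have e0 : w⁻¹ * E.av t x * w = E.av t (pOf h x) := by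
        rcases hw2 with e | e
        · have : w⁻¹ = w := inv_eq_of_mul_eq_one_right e
          conv_lhs => rw [this]
          conv_lhs => arg 2; rw [← this]
          exact hwconj x hx
        · calc w⁻¹ * E.av t x * w = (w * w)⁻¹ * (w * E.av t x * w⁻¹) * (w * w) := by group
            _ = E.av t (pOf h x) := by
              rw [hwconj x hx, e, hinv u hu, mul_assoc,
                E.A_comm t (E.av_mem t (hv x hx).2.1) (E.av_mem t hu), ← mul_assoc, hsq u hu,
                one_mul]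
      have hn' : ∀ y, y < 64 → n⁻¹ * E.av t y * n = E.av t (pOf p y) := by
        intro y hy
        have hy1 := (hv y hy).1
        calc n⁻¹ * E.av t y * n = n⁻¹ * (n * E.av t (pOf p y) * n⁻¹) * n := by
              rw [hnp _ hy1, (hv y hy).2.2.2.1]
          _ = _ := by group
      have hhx := (hv x hx).2.1
      have hph' := (hv _ hhx).1
      calc f * E.av t x * f⁻¹
          = n * (w * (n⁻¹ * (w⁻¹ * E.av t x * w) * n) * w⁻¹) * n⁻¹ := by rw [hf]; group
        _ = E.av t (pOf p (pOf h (pOf p (pOf h x)))) := by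
            rw [e0, hn' _ hhx, hwconj _ hph', hnp _ (hv _ hph').2.1]
        _ = E.av t x := by
            rw [(hv _ hph').2.2.2.2.1, (hv _ hhx).2.2.2.1]
            congr 1
            refine E.av_inj t (hv _ hhx).2.1 hx ?_
            rw [← hwconj _ hhx, ← hwconj x hx,
              show w * (w * E.av t x * w⁻¹) * w⁻¹ = (w * w) * E.av t x * (w * w)⁻¹ by group]
            rcases hw2 with e | e <;> rw [e]
            · group
            · rw [hinv u hu, E.A_comm t (E.av_mem t hu) (E.av_mem t hx), mul_assoc, hsq u hu,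
                mul_one]
    exact (mul_inv_eq_iff_eq_mul.mp (key v hv'))
  obtain ⟨fv, hfv, hfe⟩ := E.mem_A.mp hfA
  have hfe' : n * w * n⁻¹ = E.av t fv * w := by rw [av, hfe, hf]; group
  have hfh : pOf h fv = fv := by
    refine E.av_inj t (hv fv hfv).2.1 hfv ?_
    have h1 : n * (w * w) * n⁻¹ = E.av t fv * E.av t (pOf h fv) * (w * w) := by
      calc n * (w * w) * n⁻¹ = (n * w * n⁻¹) * (n * w * n⁻¹) := by group
        _ = E.av t fv * (w * E.av t fv) * w := by rw [hfe']; group
        _ = E.av t fv * (E.av t (pOf h fv) * w) * w := by rw [hwswap fv hfv]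
        _ = _ := by group
    rw [hnw2] at h1
    have h2 : E.av t fv * E.av t (pOf h fv) = 1 := mul_eq_right.mp h1.symm
    rw [← inv_eq_of_mul_eq_one_right h2, hinv fv hfv]
  obtain ⟨a, ha, hae⟩ := (hv fv hfv).2.2.2.2.2.1 hfh
  set m := E.av t a * n with hm
  have hmw : m * w = w * m := by
    have hha := (hv a ha).2.1
    calc m * w = E.av t a * (n * w * n⁻¹) * n := by rw [hm]; group
      _ = E.av t a * (E.av t (a ^^^ pOf h a) * w) * n := by rw [hfe', ← hae]
      _ = (E.av t a * (E.av t a * E.av t (pOf h a))) * w * n := by rw [E.av_mul t ha hha]; group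
      _ = E.av t (pOf h a) * w * n := by rw [← mul_assoc, hsq a ha, one_mul]
      _ = w * E.av t a * n := by rw [← hwswap a ha]
      _ = w * m := by rw [hm]; group
  have hmconj : ∀ v, v < 64 → m * E.av t v * m⁻¹ = E.av t (pOf p v) := by
    intro v hv'
    calc m * E.av t v * m⁻¹ = E.av t a * (n * E.av t v * n⁻¹) * (E.av t a)⁻¹ := by rw [hm]; group
      _ = E.av t (pOf p v) := by
          rw [hnp v hv', E.A_comm t (E.av_mem t ha) (E.av_mem t (hv v hv').1)]; group
  have hm2A : m * m ∈ E.A t := by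
    refine E.mem_A_of_centralizes fun v hv' => ?_
    refine mul_inv_eq_iff_eq_mul.mp ?_
    calc m * m * E.av t v * (m * m)⁻¹ = m * (m * E.av t v * m⁻¹) * m⁻¹ := by group
      _ = E.av t v := by rw [hmconj v hv', hmconj _ (hv v hv').1, (hv v hv').2.2.2.1]
  obtain ⟨qv, hqv, hqe⟩ := E.mem_A.mp hm2A
  have hqh : pOf h qv = qv := by
    refine E.av_inj t (hv qv hqv).2.1 hqv ?_
    rw [← hwconj qv hqv, av, hqe]
    calc w * (m * m) * w⁻¹ = (w * m) * m * w⁻¹ := by group
      _ = m * (w * m) * w⁻¹ := by conv_lhs => rw [← hmw]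
                                  group
      _ = m * m := by conv_lhs => rw [← hmw]
                      group
  have hqp : pOf p qv = qv := by
    refine E.av_inj t (hv qv hqv).1 hqv ?_
    rw [← hmconj qv hqv, av, hqe]
    group
  obtain ⟨x, hx, hxh, hxe⟩ := (hv qv hqv).2.2.2.2.2.2 hqh hqp
  set y := m * E.av t x with hy
  have hpx := (hv x hx).1
  have hy2 : y * y = 1 ∨ y * y = E.av t u := by
    have e : y * y = E.av t (pOf p x) * (E.av t qv * E.av t x) := by
      calc y * y = (m * E.av t x * m⁻¹) * ((m * m) * E.av t x) := by rw [hy]; group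
        _ = _ := by rw [hmconj x hx]; unfold av; rw [hqe]
    rw [e, E.av_mul t hqv hx, E.av_mul t hpx (xor_lt_64 hqv hx)]
    rcases hxe with e' | e' <;> rw [e']
    · refine Or.inl ?_
      rw [show pOf p x ^^^ ((x ^^^ pOf p x) ^^^ x) = 0 by
        simp [Nat.xor_comm, Nat.xor_left_comm, Nat.xor_assoc], hav0]
    · refine Or.inr ?_
      rw [show pOf p x ^^^ ((u ^^^ x ^^^ pOf p x) ^^^ x) = u by
        simp [Nat.xor_comm, Nat.xor_left_comm, Nat.xor_assoc]]
  have hyconj : ∀ v, v < 64 → y * E.av t v * y⁻¹ = E.av t (pOf p v) := by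
    intro v hv'
    calc y * E.av t v * y⁻¹ = m * (E.av t x * E.av t v * (E.av t x)⁻¹) * m⁻¹ := by rw [hy]; group
      _ = _ := by
          rw [E.A_comm t (E.av_mem t hx) (E.av_mem t hv'), mul_inv_cancel_right, hmconj v hv']
  have hyw : y * w = w * y := by
    have hxw : w * E.av t x = E.av t x * w := by rw [hwswap x hx, hxh]
    rw [hy, mul_assoc, ← hxw, ← mul_assoc, hmw, mul_assoc]
  have hset : ∀ {g : G}, g ∈ E.setOf L ↔ g = 1 ∨ g = E.av t u ∨ g = w ∨ g = E.av t u * w := by
    intro g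
    have hiff := extSet_iff hL hnd hlt
    constructor
    · rintro ⟨l, hl, rfl⟩
      rcases (hiff _).mp ⟨l, hl, rfl⟩ with e | e | e | e
      · exact Or.inl (by rw [sv, e, E.map_cI])
      · exact Or.inr (Or.inl (by rw [sv, e]; rfl))
      · exact Or.inr (Or.inr (Or.inl (by rw [sv, e]; rfl)))
      · exact Or.inr (Or.inr (Or.inr (by rw [sv, e, E.map_mul (aOf_isC t hu) hkC]; rfl)))
    · intro hg
      have mk : ∀ c, c = cI ∨ c = aOf t u ∨ c = sOf k ∨ c = mmul (aOf t u) (sOf k) →
          g = E.ι c → g ∈ E.setOf L := by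
        intro c hc e
        obtain ⟨l, hl, hle⟩ := (hiff c).mpr hc
        exact ⟨l, hl, by rw [sv, hle, e]⟩
      rcases hg with e | e | e | e
      · exact mk cI (Or.inl rfl) (by rw [e, E.map_cI])
      · exact mk _ (Or.inr (Or.inl rfl)) e
      · exact mk _ (Or.inr (Or.inr (Or.inl rfl))) e
      · exact mk _ (Or.inr (Or.inr (Or.inr rfl))) (by rw [e, E.map_mul (aOf_isC t hu) hkC]; rfl)
  have hwH : w ∈ H := hC (E.mem_centralizer hkC)
  have havH : ∀ v, v < 64 → E.av t v ∈ H := fun v hv' => hC (E.mem_centralizer (aOf_isC t hv'))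
  have hyH : y ∈ H := mul_mem (mul_mem (havH a ha) hnH) (havH x hx)
  obtain ⟨hzv, hze⟩ := E.z_mem_A t
  have hwA : w ∉ E.A t := by
    intro hh
    obtain ⟨v, hv', he⟩ := E.mem_A.mp hh
    apply hkA
    rw [← E.inj (aOf_isC t hv') hkC he]
    exact aOf_mem t hv'
  have hzW : z ∉ E.setOf L := fun ⟨l, hl, e⟩ => hfree ⟨l, hl, e⟩
  have hzp := (hv (zv t) hzv).1
  have hcom : ∀ {c : G}, c * E.av t u = E.av t u * c → c * w = w * c →
      ∀ g ∈ E.setOf L, c * g = g * c := by
    intro c h1 h2 g hg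
    rcases hset.mp hg with e | e | e | e <;> rw [e]
    · group
    · exact h1
    · exact h2
    · rw [← mul_assoc, h1, mul_assoc, h2, mul_assoc]
  refine ⟨z, y, hC (mem_centralizer_singleton_iff.mpr rfl), hyH,
    hcom (((congrArg (· * E.av t u) hze.symm).trans (E.A_comm t (E.av_mem t hzv) (E.av_mem t hu))).trans
      (congrArg (E.av t u * ·) hze)) (E.comm hkC).symm,
    hcom ?_ hyw, hzW, ?_, hset.mpr (Or.inl E.z_sq), ?_, ?_, ?_⟩
  · have := hyconj u hu
    rw [hpu] at this
    exact mul_inv_eq_iff_eq_mul.mp this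
  · intro hmem
    rcases hset.mp hmem with e | e | e | e
    · obtain ⟨v, hv', hne⟩ := hpid
      have := hyconj v hv'
      rw [e, one_mul, inv_one, mul_one] at this
      exact hne (E.av_inj t hv' (hv v hv').1 this).symm
    · obtain ⟨v, hv', hne⟩ := hpid
      have := hyconj v hv'
      rw [e, E.A_comm t (E.av_mem t hu) (E.av_mem t hv'), mul_inv_cancel_right] at this
      exact hne (E.av_inj t hv' (hv v hv').1 this).symm
    · obtain ⟨v, hv', hne⟩ := hph
      have := hyconj v hv'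
      rw [e, hwconj v hv'] at this
      exact hne (E.av_inj t (hv v hv').2.1 (hv v hv').1 this).symm
    · obtain ⟨v, hv', hne⟩ := hph
      have := hyconj v hv'
      rw [e, show E.av t u * w * E.av t v * (E.av t u * w)⁻¹ =
        E.av t u * (w * E.av t v * w⁻¹) * (E.av t u)⁻¹ by group, hwconj v hv',
        E.A_comm t (E.av_mem t hu) (E.av_mem t (hv v hv').2.1), mul_inv_cancel_right] at this
      exact hne (E.av_inj t (hv v hv').2.1 (hv v hv').1 this).symm
  · rcases hy2 with e | e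
    · exact hset.mpr (Or.inl e)
    · exact hset.mpr (Or.inr (Or.inl e))
  all_goals
    have e : (z * y) * (z * y) = E.av t (zv t) * E.av t (pOf p (zv t)) * (y * y) := by
      rw [← hyconj _ hzv, hze]; group
    have hy2' : ∃ r, r < 64 ∧ (r = 0 ∨ r = u) ∧ y * y = E.av t r := by
      rcases hy2 with e | e
      · exact ⟨0, by norm_num, Or.inl rfl, by rw [hav0, e]⟩
      · exact ⟨u, hu, Or.inr rfl, e⟩
    obtain ⟨r, hr, hr0, hre⟩ := hy2'
    rw [hre, E.av_mul t hzv hzp, E.av_mul t (xor_lt_64 hzv hzp) hr] at e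
  · rw [e]
    intro hmem
    have hlt' := xor_lt_64 (xor_lt_64 hzv hzp) hr
    rcases hset.mp hmem with e' | e' | e' | e'
    · have h0 := E.av_inj t hlt' (by norm_num) (e'.trans hav0.symm)
      rcases hr0 with rfl | rfl
      · exact hz0 (by simpa using h0)
      · exact hzu (Nat.xor_eq_zero_iff.mp h0)
    · have h0 := E.av_inj t hlt' hu e'
      rcases hr0 with rfl | rfl
      · exact hzu (by simpa using h0)
      · exact hz0 (by simpa using h0)
    · exact hwA (e' ▸ E.av_mem t hlt')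
    · apply hwA
      have h := mul_mem (E.av_mem t hu) (E.av_mem t hlt')
      rwa [e', ← mul_assoc, hsq u hu, one_mul] at h
  · rw [show (8 : ℕ) = 2 * 4 from rfl, pow_mul, pow_two, e]
    refine hset.mpr (Or.inl ?_)
    rw [show (4 : ℕ) = 2 * 2 from rfl, pow_mul, pow_two (E.av t _),
      hsq _ (xor_lt_64 (xor_lt_64 hzv hzp) hr), one_pow]

end Emb

end Cfsg.Agent.H7Held
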