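import Cfsg.Agent.H7Held.STables

/-!
Computed facts on the Sylow 2-subgroup and its two elementary subgroups of order 64.
-/

set_option autoImplicit false

namespace Cfsg.Agent.H7Held

/-- membership in the Sylow 2-subgroup -/
def isS (a : ℕ) : Bool := isC a && !a.testBit 11 && !a.testBit 16 && !a.testBit 17

/-- the elementary subgroup of index `t` as a list -/
def aList (t : Fin 2) : List ℕ := if t = 0 then aList1 else aList2

/-- its element of a vector -/
def aOf (t : Fin 2) (v : ℕ) : ℕ := (aList t).getD v cI

/-- upper unitriangular middle blocks -/
def uMids : List ℕ := (List.range 512).filter fun m =>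
  midOK m && !m.testBit 3 && !m.testBit 6 && !m.testBit 7

/-- key of an element of the Sylow 2-subgroup -/
def sKey (a : ℕ) : ℕ :=
  qbOf a ||| (((a >>> 7) &&& 1) <<< 7) ||| (((a >>> 8) &&& 1) <<< 8) |||
    (((a >>> 13) &&& 1) <<< 9)

/-- the invertible middle blocks -/
def mids : List ℕ := (List.range 512).filter midOK

/-- position in the list of involutions -/
def sIdx (a : ℕ) : ℕ := (sPosTab >>> (8 * sKey a)) &&& 255

/-- the involution of a position -/
def sInv (k : ℕ) : ℕ := (sPack >>> (25 * k)) &&& 33554431

/-- the involutions commuting with one of them -/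
def sComm (k : ℕ) : ℕ := (sCommPack >>> (191 * k)) &&& (2 ^ 191 - 1)

/-- at least `n` bits are set -/
noncomputable def atLeast : ℕ → ℕ → Bool
  | 0, _ => true
  | n + 1, c => !Nat.beq c 0 && force (c &&& (c - 1)) fun c' => atLeast n c'

/-- the bit set of the positions of a list -/
noncomputable def maskOf : List ℕ → (ℕ → Bool) → Bool
  | [], c => c 0
  | y :: l, c => force (sIdx y) fun i => maskOf l fun M => force (M ||| (1 <<< i)) c

/-- the bit set of an elementary subgroup -/
def aInvMask (t : Fin 2) : ℕ := if t = 0 then aInvMask1 else aInvMask2

/-- left translate of a list, evaluated -/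
noncomputable def mapF (x : ℕ) : List ℕ → (List ℕ → Bool) → Bool
  | [], k => k []
  | s :: l, k => force (mmul x s) fun y => mapF x l fun ys => k (y :: ys)

/-- the search for elementary subgroups of order 64: `span` is the current subgroup, `sm` the
positions of its involutions, `cand` the remaining candidates -/
noncomputable def clique : ℕ → List ℕ → ℕ → ℕ → Bool
  | 0, _, _, _ => false
  | fuel + 1, span, sm, cand =>
    ([0, 1] : List (Fin 2)).any (fun t => Nat.beq ((sm ||| cand) &&& aInvMask t) (sm ||| cand)) ||
    !atLeast (64 - span.length) cand ||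
    Nat.blt span.length 64 && allB 191 fun k => !cand.testBit k ||
      force (sInv k) fun x => mapF x span fun ys => maskOf ys fun ym =>
        !Nat.beq (ym &&& cand) ym || !Nat.beq (ym &&& (2 ^ k - 1)) 0 ||
        force (sComm k &&& cand) fun cc =>
          force (((cc >>> (k + 1)) <<< (k + 1)) ^^^ (((cc >>> (k + 1)) <<< (k + 1)) &&& ym))
            fun cand' => force (sm ||| ym) fun sm' => clique fuel (span ++ ys) sm' cand'

/-- checks on the upper unitriangular part -/
noncomputable def sPass (m : ℕ) : Bool := allB 128 fun q => force (mkC m q) fun a =>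
  isS a && (!Nat.beq (mmul a a) cI || Nat.beq a cI ||
      force (sIdx a) fun i => Nat.blt i 191 && Nat.beq (sInv i) a) &&
    ([0, 1] : List (Fin 2)).all fun t => (List.range 6).all fun k =>
      (aList t).elem (mmul (mmul a (aOf t (1 <<< k))) (invC a))

set_option maxRecDepth 100000 in
theorem sPass_ok : (uMids.all sPass) = true := by decide +kernel

/-- the centraliser of an elementary subgroup is itself -/
noncomputable def centA (t : Fin 2) (m : ℕ) : Bool :=
  !midOK m || allB 128 fun q => force (mkC m q) fun a =>
    ((List.range 6).any fun k =>
        !Nat.beq (mmul a (aOf t (1 <<< k))) (mmul (aOf t (1 <<< k)) a)) ||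
      (aList t).elem a

set_option maxRecDepth 100000 in
theorem centA0 : allB 512 (centA 0) = true := by decide +kernel
set_option maxRecDepth 100000 in
theorem centA1 : allB 512 (centA 1) = true := by decide +kernel

set_option maxRecDepth 100000 in
theorem aList_ok : (([0, 1] : List (Fin 2)).all fun t =>
    Nat.beq (aList t).length 64 && Nat.beq (aOf t 0) cI && (aList t).all isS &&
    allB 64 (fun v => Nat.beq ((aList t).idxOf (aOf t v)) v &&
      allB 64 fun w => Nat.beq (mmul (aOf t v) (aOf t w)) (aOf t (v ^^^ w)))) = true := by
  decide +kernel

set_option maxRecDepth 100000 in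
theorem sInvol_ok : allB 191 (fun k => force (sInv k) fun x => Nat.beq (sIdx x) k &&
      isS x && !Nat.beq x cI && Nat.beq (mmul x x) cI &&
      force (sComm k) fun cm => allB 191 fun j => force (sInv j) fun y =>
        cm.testBit j || !Nat.beq (mmul x y) (mmul y x)) = true := by
  decide +kernel

set_option maxRecDepth 100000 in
theorem aInvMask_ok : (([0, 1] : List (Fin 2)).all fun t =>
    allB 191 fun k => !(aInvMask t).testBit k || (aList t).elem (sInv k)) = true := by
  decide +kernel

set_option maxRecDepth 100000 in
theorem clique_ok : clique 8 [cI] 0 (2 ^ 191 - 1) = true := by decide +kernel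

set_option maxRecDepth 100000 in
theorem count_class_one :
    (((List.range 64).filter fun v => inCls 1 (aOf 0 v)).length !=
      ((List.range 64).filter fun v => inCls 1 (aOf 1 v)).length) = true := by
  decide +kernel

theorem uMids_length : uMids.length = 8 := by decide +kernel

theorem mids_length : mids.length = 168 := by decide +kernel

end Cfsg.Agent.H7Held
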