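import Cfsg.Agent.H7Held.Roots
import Cfsg.Agent.H7Held.SubChecks

/-!
Computed facts for the fusion pattern.
-/

set_option autoImplicit false

namespace Cfsg.Agent.H7Held

/-- the square-root lists are complete -/
noncomputable def rootMid (m : ℕ) : Bool :=
  !midOK m || allB 128 fun q => force (mkC m q) fun a => force (mmul a a) fun b =>
    (!Nat.beq b cz || sqrtZ.elem a) && (!Nat.beq b (classRep.getD 0 cI) || sqrt0.elem a) &&
      (!Nat.beq b (classRep.getD 5 cI) || sqrt5.elem a) &&
      !Nat.beq b (classRep.getD 6 cI)

set_option maxRecDepth 100000 in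
theorem rootMid_ok0 : allB 256 rootMid = true := by decide +kernel
set_option maxRecDepth 100000 in
theorem rootMid_ok1 : allB 256 (fun m => rootMid (256 + m)) = true := by decide +kernel

/-- square roots of `z` commuting with a class representative -/
noncomputable def zRootsOf (c : ℕ) : List ℕ :=
  sqrtZ.filter fun x => Nat.beq (mmul x (classRep.getD c cI)) (mmul (classRep.getD c cI) x)

set_option maxRecDepth 100000 in
theorem root_counts :
    ((List.range 8).map fun c => (zRootsOf c).length) = [16, 48, 8, 48, 8, 32, 16, 224] ∧
    sqrt0.length = 16 ∧ sqrt5.length = 16 ∧ sqrt6.length = 0 := by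
  decide +kernel

set_option maxRecDepth 100000 in
theorem roots_valid : ((sqrtZ.all fun a => isC a && Nat.beq (mmul a a) cz) &&
    (sqrt5.all fun a => isC a && Nat.beq (mmul a a) (classRep.getD 5 cI))) = true ∧
    sqrtZ.Nodup ∧ sqrt5.Nodup := by
  decide +kernel

/-- the bit of a class in a pattern, at an element -/
def inPat (P a : ℕ) : Bool := (List.range 8).any fun c => P.testBit c && inCls c a

/-- the pattern on an elementary subgroup -/
def omegaOf (P : ℕ) (t : Fin 2) (v : ℕ) : Bool := inPat P (aOf t v)

/-- the number of decompositions -/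
noncomputable def wCount (P : ℕ) (t : Fin 2) (v : ℕ) : ℕ :=
  ((List.range 64).filter fun b => omegaOf P t b && omegaOf P t (v ^^^ b)).length

/-- the counts are constant -/
noncomputable def wConst (P : ℕ) : Bool :=
  ([0, 1] : List (Fin 2)).all fun t =>
    allB 64 fun v => allB 64 fun w =>
      !omegaOf P t v || !omegaOf P t w || Nat.beq (wCount P t v) (wCount P t w)

/-- vector of `z` -/
def zv (t : Fin 2) : ℕ := if t = 0 then 4 else 2

/-- the counts are equal to the count at `z` -/
noncomputable def wConstZ (P : ℕ) : Bool :=
  ([0, 1] : List (Fin 2)).all fun t =>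
    allB 64 fun v => !omegaOf P t v || Nat.beq (wCount P t v) (wCount P t (zv t))

set_option maxRecDepth 100000 in
theorem pattern_ok : (allB 256 fun P => !P.testBit 7 || P.testBit 5 || P.testBit 6 ||
    !wConstZ P || [128, 130, 136, 139, 143, 155, 159].elem P) = true := by
  decide +kernel

set_option maxRecDepth 100000 in
theorem zv_ok : (([0, 1] : List (Fin 2)).all fun t =>
    Nat.blt (zv t) 64 && Nat.beq (aOf t (zv t)) cz) = true ∧ classRep.getD 7 cI = cz := by
  decide +kernel

end Cfsg.Agent.H7Held
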