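import Cfsg.Agent.H7Held.Elem
import Cfsg.Agent.H7Held.PatChecks

/-!
Sylow 2-subgroup, fusion of the involution and the possible fusion patterns.
-/

set_option autoImplicit false

namespace Cfsg.Agent.H7Held

open Subgroup

set_option maxRecDepth 100000 in
theorem centreS_ok : (sElems.all fun a => Nat.beq a cI || Nat.beq a cz ||
    sRoots.any fun i => !Nat.beq (mmul a (roots.getD i cI)) (mmul (roots.getD i cI) a)) = true ∧
    (sRoots.all fun i => isS (roots.getD i cI)) = true ∧ isS cz = true := by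
  decide +kernel

theorem vec_induction {p : ℕ → Prop} (h0 : p 0) (hbit : ∀ k, k < 6 → p (1 <<< k))
    (hxor : ∀ v w, v < 64 → w < 64 → p v → p w → p (v ^^^ w)) {v : ℕ} (hv : v < 64) : p v := by
  have hd : ∀ x : Fin 64, (x : ℕ) = (((((x : ℕ) &&& 1) ^^^ ((x : ℕ) &&& 2)) ^^^ ((x : ℕ) &&& 4)) ^^^
      ((x : ℕ) &&& 8)) ^^^ ((x : ℕ) &&& 16) ^^^ ((x : ℕ) &&& 32) := by decide +kernel
  have hk : ∀ k, k < 6 → p (v &&& 2 ^ k) ∧ v &&& 2 ^ k < 64 := fun k hk => by
    refine ⟨?_, lt_of_le_of_lt Nat.and_le_left hv⟩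
    rw [Nat.and_two_pow]
    cases hb : v.testBit k
    · simpa using h0
    · simpa [Nat.one_shiftLeft] using hbit k hk
  have h := hd ⟨v, hv⟩
  simp only at h
  rw [h]
  obtain ⟨q0, l0⟩ := hk 0 (by norm_num); obtain ⟨q1, l1⟩ := hk 1 (by norm_num)
  obtain ⟨q2, l2⟩ := hk 2 (by norm_num); obtain ⟨q3, l3⟩ := hk 3 (by norm_num)
  obtain ⟨q4, l4⟩ := hk 4 (by norm_num); obtain ⟨q5, l5⟩ := hk 5 (by norm_num)
  have x1 := xor_lt_64 l0 l1; have x2 := xor_lt_64 x1 l2; have x3 := xor_lt_64 x2 l3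
  have x4 := xor_lt_64 x3 l4
  exact hxor _ _ x4 l5 (hxor _ _ x3 l4 (hxor _ _ x2 l3 (hxor _ _ x1 l2 (hxor _ _ l0 l1 q0 q1) q2) q3) q4) q5

theorem inCls_conj {a c g : ℕ} (hp : (a, c) ∈ invPairs) (hc : c < 8) (hg : RGen g) :
    (mmul (mmul g a) (invC g), c) ∈ invPairs := by
  have key : ∀ g, RGen g → isC g = true ∧ ∀ a, (a, c) ∈ invPairs →
      ∀ g', isC g' = true → mmul g g' = cI → (mmul (mmul g a) g', c) ∈ invPairs := by
    intro g hg
    induction hg with
    | one =>
      refine ⟨isC_cI, fun a ha g' hg' he => ?_⟩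
      rw [(mmul_cI (isC_lt hg')).2] at he
      subst he
      rw [(mmul_cI (isC_lt (invPairs_facts ha).1)).2, (mmul_cI (isC_lt (invPairs_facts ha).1)).1]
      exact ha
    | @root i hi =>
      refine ⟨isC_root i, fun a ha g' hg' he => ?_⟩
      have e : g' = roots.getD i cI := by
        have h1 := congrArg (mmul (roots.getD i cI)) he
        rwa [← mmul_assoc, root_sq, (mmul_cI (isC_lt hg')).2, (mmul_cI (isC_lt (isC_root i))).1]
          at h1
      subst e
      obtain ⟨hC, -, -, -⟩ := invPairs_facts ha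
      refine mem_invPairs (isC_mul (isC_mul (isC_root i) hC) (isC_root i)) hc ?_
      have h := List.all_eq_true.mp classes_invariant _ ha
      rw [List.all_eq_true] at h
      rw [List.getD_eq_getElem _ _ hi]
      exact h _ (List.getElem_mem hi)
    | @mul x y hx hy ihx ihy =>
      obtain ⟨hxC, ihx⟩ := ihx
      obtain ⟨hyC, ihy⟩ := ihy
      refine ⟨isC_mul hxC hyC, fun a ha g' hg' he => ?_⟩
      have h1 := ihy a ha (invC y) (isC_invC hyC) (isC_inv hyC).2
      have h2 := ihx _ h1 (invC x) (isC_invC hxC) (isC_inv hxC).2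
      have e : g' = mmul (invC y) (invC x) := by
        have h3 := congrArg (mmul (mmul (invC y) (invC x))) he
        rw [← mmul_assoc, mmul_assoc (invC y) (invC x), ← mmul_assoc (invC x) x y, isC_inv' hxC,
          (mmul_cI (isC_lt hyC)).2, isC_inv' hyC, (mmul_cI (isC_lt hg')).2,
          (mmul_cI (mmul_lt _ _)).1] at h3
        exact h3
      subst e
      simpa [mmul_assoc] using h2
  obtain ⟨hC, h⟩ := key g hg
  exact h a hp _ (isC_invC hC) (isC_inv hC).2

namespace Emb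

variable {G : Type*} [Group G] [Finite G] {z : G} (E : Emb z)
include E

theorem z_mem_S : z ∈ E.S := ⟨cz, centreS_ok.2.2, E.map_cz⟩

theorem z_ne_one : z ≠ 1 := fun h => by
  have := E.inj isC_cz isC_cI (E.map_cz.trans (h.trans E.map_cI.symm))
  exact absurd this (by decide)

theorem z_sq : z * z = 1 := by
  rw [← E.map_cz, ← E.map_mul isC_cz isC_cz, ← E.map_cI]
  congr 1

theorem centre_S {x : G} (hx : x ∈ E.S) (hc : ∀ y ∈ E.S, x * y = y * x) : x = 1 ∨ x = z := by
  obtain ⟨a, ha, rfl⟩ := hx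
  have h := List.all_eq_true.mp centreS_ok.1 a (mem_sElems.mpr ha)
  simp only [Bool.or_eq_true, Nat.beq_eq, List.any_eq_true, Bool.not_eq_true',
    ← Bool.not_eq_true] at h
  rcases h with (h | h) | ⟨i, hi, h⟩
  · exact Or.inl (by rw [h, E.map_cI])
  · exact Or.inr (by rw [h, E.map_cz])
  · exfalso
    apply h
    have hr : isS (roots.getD i cI) = true := List.all_eq_true.mp centreS_ok.2.1 i hi
    refine E.inj (isC_mul (isC_of_isS ha) (isC_root i)) (isC_mul (isC_root i) (isC_of_isS ha)) ?_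
    rw [E.map_mul (isC_of_isS ha) (isC_root i), E.map_mul (isC_root i) (isC_of_isS ha)]
    exact hc _ ⟨_, hr, rfl⟩

theorem normalizer_S_le : normalizer (E.S : Set G) ≤ centralizer ({z} : Set G) := by
  intro x hx
  rw [mem_centralizer_singleton_iff]
  have hxz : x * z * x⁻¹ ∈ E.S := (mem_normalizer_iff.mp hx z).mp E.z_mem_S
  suffices hc : ∀ y ∈ E.S, x * z * x⁻¹ * y = y * (x * z * x⁻¹) by
    rcases E.centre_S hxz hc with h | h
    · exact absurd (conj_eq_one_iff.mp h) E.z_ne_one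
    · exact mul_inv_eq_iff_eq_mul.mp h
  · intro y hy
    have hy' : x⁻¹ * y * x ∈ E.S := by
      apply (mem_normalizer_iff.mp hx _).mpr
      simpa [mul_assoc] using hy
    obtain ⟨a, ha, hae⟩ := hy'
    have hza : z * (x⁻¹ * y * x) = x⁻¹ * y * x * z := by
      rw [← hae]; exact (E.comm (isC_of_isS ha)).symm
    calc x * z * x⁻¹ * y = x * (z * (x⁻¹ * y * x)) * x⁻¹ := by group
      _ = x * (x⁻¹ * y * x * z) * x⁻¹ := by rw [hza]
      _ = y * (x * z * x⁻¹) := by group

theorem S_isPGroup : IsPGroup 2 E.S := IsPGroup.of_card E.card_S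

theorem exists_sylow : ∃ T : Sylow 2 G, (T : Subgroup G) = E.S := by
  haveI : Fact (Nat.Prime 2) := ⟨Nat.prime_two⟩
  obtain ⟨T, hT⟩ := E.S_isPGroup.exists_le_sylow
  refine ⟨T, le_antisymm ?_ hT⟩
  by_contra hne
  haveI : Group.IsNilpotent (T : Subgroup G) := T.isPGroup'.isNilpotent
  have hlt : E.S.subgroupOf (T : Subgroup G) < ⊤ :=
    lt_top_iff_ne_top.mpr fun h => hne (subgroupOf_eq_top.mp h)
  obtain ⟨x, hxn, hxS⟩ := SetLike.exists_of_lt (normalizerCondition_of_isNilpotent _ hlt)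
  have hxN : (x : G) ∈ normalizer (E.S : Set G) := by
    rw [mem_normalizer_iff] at hxn ⊢
    intro y
    constructor
    · intro hy
      simpa [mem_subgroupOf] using (hxn ⟨y, hT hy⟩).mp (by simpa [mem_subgroupOf] using hy)
    · intro hy
      have hyT : y ∈ (T : Subgroup G) := by
        have h1 := hT hy
        have h2 := mul_mem (mul_mem (inv_mem x.2) h1) x.2
        simpa [mul_assoc] using h2
      simpa [mem_subgroupOf] using (hxn ⟨y, hyT⟩).mpr (by simpa [mem_subgroupOf] using hy)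
  have hxC := E.normalizer_S_le hxN
  let K : Subgroup G := (T : Subgroup G) ⊓ centralizer ({z} : Set G)
  have hK : IsPGroup 2 K := T.isPGroup'.to_le inf_le_left
  obtain ⟨n, hn⟩ := IsPGroup.iff_card.mp hK
  have hdvd : 2 ^ n ∣ 21504 := by
    rw [← hn, ← E.card_centralizer]; exact card_dvd_of_le inf_le_right
  have hn10 : n ≤ 10 := by
    by_contra h
    have : 2 ^ 11 ∣ 21504 := (pow_dvd_pow 2 (by omega)).trans hdvd
    norm_num at this
  have hle : E.S ≤ K := le_inf hT E.S_le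
  have heq : E.S = K := eq_of_le_of_card_ge hle (by
    rw [E.card_S, hn]; exact Nat.pow_le_pow_right two_pos hn10)
  apply hxS
  rw [mem_subgroupOf, heq]
  exact ⟨x.2, hxC⟩

theorem conj_into_S {F : Subgroup G} (hF : F ≤ centralizer ({z} : Set G)) (hp : IsPGroup 2 F) :
    ∃ c, c * z = z * c ∧ ∀ x ∈ F, c * x * c⁻¹ ∈ E.S := by
  haveI : Fact (Nat.Prime 2) := ⟨Nat.prime_two⟩
  let C : Subgroup G := centralizer ({z} : Set G)
  have hS' : IsPGroup 2 (E.S.subgroupOf C) :=
    E.S_isPGroup.of_equiv (subgroupOfEquivOfLe E.S_le).symm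
  obtain ⟨P0, hP0⟩ := hS'.exists_le_sylow
  have hP0eq : (P0 : Subgroup C) = E.S.subgroupOf C := by
    refine (eq_of_le_of_card_ge hP0 ?_).symm
    obtain ⟨n, hn⟩ := IsPGroup.iff_card.mp P0.isPGroup'
    rw [Nat.card_congr (subgroupOfEquivOfLe E.S_le).toEquiv, E.card_S, hn]
    have hdvd : 2 ^ n ∣ 21504 := by
      rw [← hn, ← E.card_centralizer]; exact card_subgroup_dvd_card _
    apply Nat.pow_le_pow_right two_pos
    by_contra h
    have : 2 ^ 11 ∣ 21504 := (pow_dvd_pow 2 (by omega)).trans hdvd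
    norm_num at this
  obtain ⟨P, hP⟩ := (hp.of_equiv (subgroupOfEquivOfLe hF).symm).exists_le_sylow
  obtain ⟨c, hc⟩ := MulAction.exists_smul_eq C P P0
  refine ⟨(c : G), mem_centralizer_singleton_iff.mp c.2, fun x hx => ?_⟩
  have h1 : (⟨x, hF hx⟩ : C) ∈ (P : Subgroup C) := hP (by simpa [mem_subgroupOf] using hx)
  have h2 : c * ⟨x, hF hx⟩ * c⁻¹ ∈ (P0 : Subgroup C) := by
    rw [← hc, Sylow.coe_subgroup_smul, mem_smul_pointwise_iff_exists]
    exact ⟨⟨x, hF hx⟩, h1, rfl⟩
  rw [hP0eq, mem_subgroupOf] at h2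
  simpa using h2

theorem S_normalizes_A (t : Fin 2) : E.S ≤ normalizer (E.A t : Set G) := by
  intro s hs
  have key : ∀ {s}, s ∈ E.S → ∀ y ∈ E.A t, s * y * s⁻¹ ∈ E.A t := by
    rintro _ ⟨a, ha, rfl⟩ y hy
    obtain ⟨v, hv, rfl⟩ := E.mem_A.mp hy
    have hC := isC_of_isS ha
    refine vec_induction (p := fun v => E.ι a * E.ι (aOf t v) * (E.ι a)⁻¹ ∈ E.A t) ?_ ?_ ?_ hv
    · simp only [(aList_facts t).2.1, E.map_cI, mul_one, mul_inv_cancel]; exact one_mem _
    · intro k hk
      obtain ⟨m, hm, q, hq, rfl⟩ : ∃ m ∈ uMids, ∃ q < 128, mkC m q = a := by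
        simpa [sElems, List.mem_map, List.mem_product, List.mem_range, and_assoc, eq_comm] using
          mem_sElems.mpr ha
      have h := allB_sound (List.all_eq_true.mp sPass_ok m hm) q hq
      simp only [force_eq, Bool.and_eq_true, List.all_eq_true] at h
      have h2 := h.2 t (by fin_cases t <;> simp) k (List.mem_range.mpr hk)
      have hlt : 1 <<< k < 64 := by
        rw [Nat.one_shiftLeft]; exact Nat.pow_lt_pow_right (a := 2) (m := k) (n := 6) (by norm_num) hk
      exact ⟨_, h2, E.map_conj hC (aOf_isC t hlt)⟩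
    · intro u w hu hw h1 h2
      have := mul_mem h1 h2
      rw [← ((aList_facts t).2.2.2 u hu).2 w hw, E.map_mul (aOf_isC t hu) (aOf_isC t hw)]
      simpa [mul_assoc] using this
  rw [mem_normalizer_iff]
  intro y
  refine ⟨key hs y, fun h => ?_⟩
  simpa [mul_assoc] using key (inv_mem hs) _ h

theorem z_mem_A (t : Fin 2) : zv t < 64 ∧ E.av t (zv t) = z := by
  have h := List.all_eq_true.mp zv_ok.1 t (by fin_cases t <;> simp)
  simp only [Bool.and_eq_true, Nat.beq_eq, Nat.blt_eq] at h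
  exact ⟨h.1, by rw [av, h.2, E.map_cz]⟩

theorem not_conj_A {g : G} : ¬ (∀ x, x ∈ E.A 0 ↔ g * x * g⁻¹ ∈ E.A 1) := by
  classical
  haveI : Fact (Nat.Prime 2) := ⟨Nat.prime_two⟩
  intro hg
  obtain ⟨T, hT⟩ := E.exists_sylow
  let N : Subgroup G := normalizer (E.A 1 : Set G)
  have h1 : (T : Subgroup G) ≤ N := hT ▸ E.S_normalizes_A 1
  have h2 : ((g • T : Sylow 2 G) : Subgroup G) ≤ N := by
    intro x hx
    rw [Sylow.coe_subgroup_smul, mem_smul_pointwise_iff_exists] at hx
    obtain ⟨s, hs, rfl⟩ := hx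
    have hsN := E.S_normalizes_A 0 (hT ▸ hs)
    change g * s * g⁻¹ ∈ N
    rw [mem_normalizer_iff] at hsN ⊢
    intro y
    have := hsN (g⁻¹ * y * g)
    rw [hg, hg] at this
    simpa [mul_assoc] using this
  obtain ⟨m, hm⟩ := MulAction.exists_smul_eq N ((g • T).subtype h2) (T.subtype h1)
  have hm' : ((m : G) * g) • T = T := by
    rw [mul_smul]
    apply Sylow.subtype_injective (hP := by
      intro x hx
      rw [Sylow.coe_subgroup_smul, mem_smul_pointwise_iff_exists] at hx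
      obtain ⟨s, hs, rfl⟩ := hx
      exact mul_mem (mul_mem m.2 (h2 hs)) (inv_mem m.2)) (hQ := h1)
    rw [← hm, Sylow.smul_subtype h2 m]
    rfl
  have hn : (m : G) * g ∈ normalizer (E.S : Set G) := by
    rw [← hT]; exact Sylow.smul_eq_iff_mem_normalizer.mp hm'
  obtain ⟨a, ha, hae⟩ := E.surj (mem_centralizer_singleton_iff.mp (E.normalizer_S_le hn))
  have hmap : ∀ x, x ∈ E.A 0 ↔ E.ι a * x * (E.ι a)⁻¹ ∈ E.A 1 := by
    intro x
    rw [hae, hg x, show (m : G) * g * x * ((m : G) * g)⁻¹ = m * (g * x * g⁻¹) * (m : G)⁻¹ by group]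
    exact mem_normalizer_iff.mp m.2 _
  have hcls : ∀ {v w g}, v < 64 → w < 64 → RGen g → ∀ {t t' : Fin 2},
      mmul (mmul g (aOf t v)) (invC g) = aOf t' w → inCls 1 (aOf t v) = true →
      inCls 1 (aOf t' w) = true := by
    intro v w g hv hw hgen t t' he hc
    rw [← he]
    exact (invPairs_facts (inCls_conj (mem_invPairs (aOf_isC t hv) (by norm_num) hc) (by norm_num)
      hgen)).2.1
  have hs : ∀ v, v < 64 → ∃ w, w < 64 ∧ mmul (mmul a (aOf 0 v)) (invC a) = aOf 1 w := by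
    intro v hv
    obtain ⟨w, hw, he⟩ := E.mem_A.mp ((hmap _).mp (E.av_mem 0 hv))
    exact ⟨w, hw, E.inj (isC_mul (isC_mul ha (aOf_isC 0 hv)) (isC_invC ha)) (aOf_isC 1 hw)
      (by rw [E.map_conj ha (aOf_isC 0 hv), he]; rfl)⟩
  choose f hf hfe using hs
  have hcount := count_class_one
  simp only [bne_iff_ne, ne_eq] at hcount
  apply hcount
  have conv : ∀ (p : ℕ → Bool), ((List.range 64).filter p).length =
      ((Finset.range 64).filter fun v => p v = true).card := by
    intro p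
    rw [← List.toFinset_card_of_nodup (List.Nodup.filter _ List.nodup_range)]
    congr 1; ext v; simp
  rw [conv, conv]
  refine Finset.card_bij (fun v hv => f v (Finset.mem_range.mp (Finset.mem_filter.mp hv).1))
    ?_ ?_ ?_
  · intro v hv
    obtain ⟨hv, hc⟩ := Finset.mem_filter.mp hv
    rw [Finset.mem_range] at hv
    exact Finset.mem_filter.mpr ⟨Finset.mem_range.mpr (hf v hv),
      hcls hv (hf v hv) (rgen_of_isC ha) (hfe v hv) hc⟩
  · intro v hv w hw h
    have hv' := Finset.mem_range.mp (Finset.mem_filter.mp hv).1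
    have hw' := Finset.mem_range.mp (Finset.mem_filter.mp hw).1
    have h1 := congrArg E.ι (hfe v hv'); have h2 := congrArg E.ι (hfe w hw')
    rw [E.map_conj ha (aOf_isC 0 hv')] at h1
    rw [E.map_conj ha (aOf_isC 0 hw')] at h2
    exact E.av_inj 0 hv' hw' (mul_left_cancel (mul_right_cancel (h1.trans
      ((congrArg (fun k => E.ι (aOf 1 k)) h).trans h2.symm))))
  · intro w hw
    obtain ⟨hw, hc⟩ := Finset.mem_filter.mp hw
    rw [Finset.mem_range] at hw
    obtain ⟨v, hv, he⟩ := E.mem_A.mp ((hmap ((E.ι a)⁻¹ * E.av 1 w * E.ι a)).mpr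
      (by rw [show E.ι a * ((E.ι a)⁻¹ * E.av 1 w * E.ι a) * (E.ι a)⁻¹ = E.av 1 w by group]
          exact E.av_mem 1 hw))
    have hback : mmul (mmul (invC a) (aOf 1 w)) (invC (invC a)) = aOf 0 v := by
      apply E.inj (isC_mul (isC_mul (isC_invC ha) (aOf_isC 1 hw)) (isC_invC (isC_invC ha)))
        (aOf_isC 0 hv)
      rw [E.map_conj (isC_invC ha) (aOf_isC 1 hw), E.map_invC ha, inv_inv, he]
      rfl
    refine ⟨v, Finset.mem_filter.mpr ⟨Finset.mem_range.mpr hv,
      hcls hw hv (rgen_of_isC (isC_invC ha)) hback hc⟩, ?_⟩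
    have h1 := congrArg E.ι (hfe v hv)
    rw [E.map_conj ha (aOf_isC 0 hv), he] at h1
    refine E.av_inj 1 (hf v hv) hw ?_
    rw [av, ← h1, av]
    group

theorem conj_A {g : G} {t : Fin 2} (hgA : ∀ x ∈ E.A t, (g * x * g⁻¹) * z = z * (g * x * g⁻¹)) :
    ∃ c, c * z = z * c ∧ ∀ x, x ∈ E.A t ↔ c * g * x * (c * g)⁻¹ ∈ E.A t := by
  classical
  haveI : Fact (Nat.Prime 2) := ⟨Nat.prime_two⟩
  let F : Subgroup G := (E.A t).map (MulAut.conj g).toMonoidHom
  have hFC : F ≤ centralizer ({z} : Set G) := by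
    rintro _ ⟨x, hx, rfl⟩
    exact mem_centralizer_singleton_iff.mpr (hgA x hx)
  have hFc : Nat.card F = 64 := by
    rw [card_map_of_injective (MulAut.conj g).injective, E.card_A]
  have hFp : IsPGroup 2 F := IsPGroup.of_card (n := 6) (by rw [hFc]; norm_num)
  obtain ⟨c, hc, hcS⟩ := E.conj_into_S hFC hFp
  let F' : Subgroup G := F.map (MulAut.conj c).toMonoidHom
  obtain ⟨t', ht'⟩ := E.eq_A_of_le (F := F') (by rintro _ ⟨x, hx, rfl⟩; exact hcS x hx)
    (by
      rintro _ ⟨_, ⟨x, hx, rfl⟩, rfl⟩ _ ⟨_, ⟨y, hy, rfl⟩, rfl⟩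
      simp only [← _root_.map_mul, E.A_comm t hx hy])
    (by
      rintro _ ⟨_, ⟨x, hx, rfl⟩, rfl⟩
      simp only [← _root_.map_mul, E.A_sq t hx, _root_.map_one])
    (by rw [card_map_of_injective (MulAut.conj c).injective, hFc])
  have hiff : ∀ x, x ∈ E.A t ↔ c * g * x * (c * g)⁻¹ ∈ E.A t' := by
    intro x
    rw [← ht', show c * g * x * (c * g)⁻¹ = c * (g * x * g⁻¹) * c⁻¹ by group]
    exact ⟨fun hx => ⟨_, ⟨x, hx, rfl⟩, rfl⟩, fun ⟨_, ⟨y, hy, e1⟩, e2⟩ => by
      have e3 : g * y * g⁻¹ = g * x * g⁻¹ :=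
        e1.trans (mul_left_cancel (mul_right_cancel e2))
      rwa [← mul_left_cancel (mul_right_cancel e3)]⟩
  have htt : t' = t := by
    fin_cases t <;> fin_cases t'
    · rfl
    · exact absurd hiff E.not_conj_A
    · exfalso
      refine E.not_conj_A (g := (c * g)⁻¹) fun y => ?_
      have := hiff ((c * g)⁻¹ * y * (c * g))
      rw [show c * g * ((c * g)⁻¹ * y * (c * g)) * (c * g)⁻¹ = y by group] at this
      rw [inv_inv]; exact this.symm
    · rfl
  subst htt
  exact ⟨c, hc, hiff⟩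

theorem exists_normalizer_conj {t : Fin 2} {v : ℕ} (hv : v < 64) (h : IsConj z (E.av t v)) :
    ∃ n ∈ normalizer (E.A t : Set G), n * z * n⁻¹ = E.av t v := by
  obtain ⟨g, hg⟩ := isConj_iff.mp h
  obtain ⟨c, hc, hiff⟩ := E.conj_A (g := g⁻¹) (t := t) fun x hx => by
    have hx' := E.A_comm t (E.av_mem t hv) hx
    rw [← hg] at hx'
    calc g⁻¹ * x * (g⁻¹)⁻¹ * z = g⁻¹ * (x * (g * z * g⁻¹)) * g := by group
      _ = g⁻¹ * ((g * z * g⁻¹) * x) * g := by rw [hx']
      _ = z * (g⁻¹ * x * (g⁻¹)⁻¹) := by group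
  refine ⟨(c * g⁻¹)⁻¹, inv_mem (mem_normalizer_iff.mpr hiff), ?_⟩
  have hci : c⁻¹ * z * c = z := by rw [mul_assoc, ← hc, inv_mul_cancel_left]
  calc (c * g⁻¹)⁻¹ * z * ((c * g⁻¹)⁻¹)⁻¹ = g * (c⁻¹ * z * c) * g⁻¹ := by group
    _ = E.av t v := by rw [hci, hg]

/-- the fusion pattern: which classes of involutions of the centraliser are conjugate to `z` -/
noncomputable def pattern : ℕ := by
  classical
  exact ((List.range 8).filter fun c => decide (IsConj z (E.ι (classRep.getD c cI)))).foldl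
    (fun M c => M ||| (1 <<< c)) 0

theorem pattern_testBit (c : ℕ) :
    E.pattern.testBit c = true ↔ c < 8 ∧ IsConj z (E.ι (classRep.getD c cI)) := by
  classical
  have key : ∀ (l : List ℕ) (M : ℕ), (l.foldl (fun M c => M ||| (1 <<< c)) M).testBit c = true ↔
      M.testBit c = true ∨ c ∈ l := by
    intro l
    induction l with
    | nil => intro M; simp
    | cons x l ih =>
      intro M
      rw [List.foldl_cons, ih, Nat.testBit_or, Nat.one_shiftLeft, Nat.testBit_two_pow,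
        Bool.or_eq_true, decide_eq_true_eq, List.mem_cons, eq_comm (a := x)]
      tauto
  unfold pattern
  rw [key]
  simp [List.mem_filter]

theorem pattern_lt : E.pattern < 256 := by
  apply Nat.lt_pow_two_of_testBit (n := 8)
  intro c hc
  rw [← Bool.not_eq_true, E.pattern_testBit]
  omega

theorem inPat_iff {a : ℕ} (ha : isC a = true) (h2 : mmul a a = cI) (h1 : a ≠ cI) :
    inPat E.pattern a = true ↔ IsConj z (E.ι a) := by
  simp only [inPat, List.any_eq_true, List.mem_range, Bool.and_eq_true]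
  constructor
  · rintro ⟨c, hc, hb, hcl⟩
    obtain ⟨g, -, hg⟩ := E.conj_rep (mem_invPairs ha hc hcl)
    exact ((E.pattern_testBit c).mp hb).2.trans (isConj_iff.mpr ⟨g, hg.symm⟩)
  · intro h
    obtain ⟨c, hc, hcl⟩ := exists_cls ha h2 h1
    obtain ⟨g, -, hg⟩ := E.conj_rep (mem_invPairs ha hc hcl)
    refine ⟨c, hc, (E.pattern_testBit c).mpr ⟨hc, h.trans (IsConj.symm ?_)⟩, hcl⟩
    exact isConj_iff.mpr ⟨g, hg.symm⟩

theorem omega_iff (t : Fin 2) {v : ℕ} (hv : v < 64) :
    omegaOf E.pattern t v = true ↔ IsConj z (E.av t v) := by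
  by_cases h0 : v = 0
  · subst h0
    have e1 : E.av t 0 = 1 := by rw [av, (aList_facts t).2.1, E.map_cI]
    constructor
    · intro h
      simp only [omegaOf, inPat, List.any_eq_true, List.mem_range, Bool.and_eq_true] at h
      obtain ⟨c, hc, -, hcl⟩ := h
      have := (invPairs_facts (mem_invPairs (aOf_isC t hv) hc hcl)).2.2.2
      exact absurd (aList_facts t).2.1 this
    · intro h
      rw [e1] at h
      exact absurd (isConj_one_left.mp h) E.z_ne_one
  refine E.inPat_iff (aOf_isC t hv) ?_ ?_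
  · rw [((aList_facts t).2.2.2 v hv).2 v hv, Nat.xor_self, (aList_facts t).2.1]
  · intro h
    apply h0
    rw [← ((aList_facts t).2.2.2 v hv).1, h, ← (aList_facts t).2.1,
      ((aList_facts t).2.2.2 0 (by norm_num)).1]

end Emb

end Cfsg.Agent.H7Held
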