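import Cfsg.Agent.S0224
import Cfsg.Agent.S1225
import Cfsg.Agent.S2903

/-!
Contradictions from strongly embedded subgroups, and the step from centralisers of a 2-group to
the group.
-/

set_option autoImplicit false

namespace Cfsg.Agent.H7Held

open Subgroup

theorem pEmbedded_of_strongly {X : Type*} [Group X] [Finite X] {M : Subgroup X}
    (hM : Cfsg.IsStronglyEmbedded M) : Cfsg.IsStronglyPEmbedded 2 M := by
  haveI : Fact (Nat.Prime 2) := ⟨Nat.prime_two⟩
  obtain ⟨P0⟩ : Nonempty (Sylow 2 M) := inferInstance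
  let Q : Subgroup X := (P0 : Subgroup M).map M.subtype
  have hQ : IsPGroup 2 Q := P0.isPGroup'.map _
  have hQM : Q ≤ M := map_subtype_le _
  obtain ⟨P, hP⟩ := hQ.exists_le_sylow
  have hd : 2 ∣ Nat.card X := (even_iff_two_dvd.mp hM.2.1).trans (card_subgroup_dvd_card M)
  have hQ1 : Q ≠ ⊥ := by
    intro h
    have hc : Nat.card (P0 : Subgroup M) = 1 := by
      rw [← card_map_of_injective M.subtype_injective]
      change Nat.card Q = 1
      rw [h, card_bot]
    exact P0.ne_bot_of_dvd_card (even_iff_two_dvd.mp hM.2.1) (card_eq_one.mp hc)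
  have hPM : (P : Subgroup X) ≤ M := by
    by_contra hne
    haveI : Group.IsNilpotent (P : Subgroup X) := P.isPGroup'.isNilpotent
    let R : Subgroup X := (P : Subgroup X) ⊓ M
    have hlt : R.subgroupOf (P : Subgroup X) < ⊤ :=
      lt_top_iff_ne_top.mpr fun h => hne (le_trans (subgroupOf_eq_top.mp h) inf_le_right)
    obtain ⟨x, hxn, hxR⟩ := SetLike.exists_of_lt (normalizerCondition_of_isNilpotent _ hlt)
    apply hxR
    refine mem_subgroupOf.mpr ⟨x.2, ?_⟩
    have hR1 : R ≠ ⊥ := fun h => hQ1 (le_bot_iff.mp (h ▸ le_inf hP hQM))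
    refine H76.PostBender.normalizer_le_of_twoGroup hM (P.isPGroup'.to_le inf_le_left) hR1
      inf_le_right ?_
    rw [mem_normalizer_iff] at hxn ⊢
    intro y
    constructor
    · intro hy
      exact ⟨(P : Subgroup X).mul_mem ((P : Subgroup X).mul_mem x.2 hy.1) ((P : Subgroup X).inv_mem x.2),
        by simpa [R, mem_subgroupOf] using (hxn ⟨y, hy.1⟩).mp (by simpa [R, mem_subgroupOf] using hy.2)⟩
    · intro hy
      have hyP : y ∈ (P : Subgroup X) := by
        have := mul_mem (mul_mem (inv_mem x.2) hy.1) x.2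
        simpa [mul_assoc] using this
      exact ⟨hyP,
        by simpa [R, mem_subgroupOf] using (hxn ⟨y, hyP⟩).mpr (by simpa [R, mem_subgroupOf] using hy.2)⟩
  exact FusionSys.isStronglyPEmbedded_iff.mpr ⟨hd, hM.1, P, fun R hRP hR1 =>
    H76.PostBender.normalizer_le_of_twoGroup hM (P.isPGroup'.to_le hRP) hR1 (hRP.trans hPM)⟩

theorem exists_abelian_normal {X : Type*} [Group X] [Group.IsSolvable X] [Nontrivial X] :
    ∃ N : Subgroup X, N.Normal ∧ N ≠ ⊥ ∧ ∀ a ∈ N, ∀ b ∈ N, a * b = b * a := by
  classical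
  have hex : ∃ k, derivedSeries X k = ⊥ := Group.IsSolvable.solvable
  obtain ⟨j, hj⟩ : ∃ j, Nat.find hex = j + 1 := by
    refine ⟨Nat.find hex - 1, ?_⟩
    have : Nat.find hex ≠ 0 := by
      intro h
      have h1 := Nat.find_spec hex
      rw [h, derivedSeries_zero] at h1
      exact top_ne_bot h1
    omega
  refine ⟨derivedSeries X j, derivedSeries_normal X j, Nat.find_min hex (by omega), ?_⟩
  have h0 := Nat.find_spec hex
  rw [hj, derivedSeries_succ] at h0
  intro a ha b hb
  have := Subgroup.commutator_mem_commutator ha hb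
  rw [h0, mem_bot] at this
  exact commutatorElement_eq_one_iff_mul_comm.mp this

theorem commutator_sq_of_solvable : ∀ (n : ℕ) (X : Type*) [Group X] [Finite X],
    Nat.card X ≤ n → Group.IsSolvable X →
    (∀ a b : X, orderOf a = 2 → orderOf b = 2 → IsConj a b) →
    ∀ x y : X, orderOf x = 2 → orderOf y = 2 → (x * y) ^ 8 = 1 → (x * y) ^ 2 = 1 := by
  intro n
  induction n with
  | zero =>
    intro X _ _ hn
    exact absurd hn (by simp [Nat.card_pos.ne'])
  | succ n ih =>
    intro X _ _ hn hsol hconj x y hx hy h8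
    haveI := hsol
    haveI : Nontrivial X := ⟨⟨x, 1, fun h => by rw [h, orderOf_one] at hx; norm_num at hx⟩⟩
    obtain ⟨N, hNn, hN1, hNc⟩ : ∃ N : Subgroup X, N.Normal ∧ N ≠ ⊥ ∧
        ∀ a ∈ N, ∀ b ∈ N, a * b = b * a := exists_abelian_normal
    haveI := hNn
    by_cases hev : ∃ t ∈ N, orderOf t = 2
    · obtain ⟨t, ht, ht2⟩ := hev
      have hin : ∀ {u : X}, orderOf u = 2 → u ∈ N := by
        intro u hu
        obtain ⟨g, rfl⟩ := isConj_iff.mp (hconj t u ht2 hu)
        exact hNn.conj_mem t ht g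
      have hc : Commute x y := hNc x (hin hx) y (hin hy)
      rw [hc.mul_pow, ← hx, pow_orderOf_eq_one, one_mul, hx, ← hy, pow_orderOf_eq_one]
    push_neg at hev
    have hodd : Odd (Nat.card N) := by
      rw [← Nat.not_even_iff_odd, even_iff_two_dvd]
      intro h
      haveI : Fact (Nat.Prime 2) := ⟨Nat.prime_two⟩
      obtain ⟨t, ht⟩ := exists_prime_orderOf_dvd_card' (G := N) 2 h
      exact hev t t.2 (by rw [orderOf_coe, ht])
    let π := QuotientGroup.mk' N
    have hcard : Nat.card (X ⧸ N) ≤ n := by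
      have h1 := N.card_mul_index
      rw [Subgroup.index] at h1
      have h2 : 1 < Nat.card N := N.one_lt_card_iff_ne_bot.mpr hN1
      have h3 : 0 < Nat.card (X ⧸ N) := Nat.card_pos
      nlinarith
    have hlift : ∀ a : X ⧸ N, orderOf a = 2 → ∃ a' : X, orderOf a' = 2 ∧ π a' = a := by
      intro a ha
      obtain ⟨g, rfl⟩ := QuotientGroup.mk'_surjective N a
      have hg2 : g ^ 2 ∈ N := by
        rw [← QuotientGroup.eq_one_iff]
        have := pow_orderOf_eq_one (QuotientGroup.mk' N g)
        rw [ha, ← map_pow] at this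
        exact this
      refine ⟨g ^ Nat.card N, ?_, ?_⟩
      · rw [orderOf_eq_iff (by norm_num)]
        refine ⟨?_, fun m hm hm0 => ?_⟩
        · rw [← pow_mul, mul_comm, pow_mul]
          exact congrArg Subtype.val (pow_card_eq_one' (x := (⟨g ^ 2, hg2⟩ : N)))
        · obtain rfl : m = 1 := by omega
          intro h
          rw [pow_one] at h
          have h1 := congrArg π h
          rw [map_pow, map_one] at h1
          have h3 := orderOf_dvd_of_pow_eq_one h1
          rw [ha] at h3
          exact Nat.not_even_iff_odd.mpr hodd (even_iff_two_dvd.mpr h3)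
      · obtain ⟨k, hk⟩ := hodd
        have h2 : π g ^ 2 = 1 := ha ▸ pow_orderOf_eq_one _
        rw [map_pow, hk, pow_succ, pow_mul, h2, one_pow, one_mul]
    have hinv : ∀ {u : X}, orderOf u = 2 → orderOf (π u) = 2 := by
      intro u hu
      refine orderOf_eq_prime (by rw [← map_pow, ← hu, pow_orderOf_eq_one, map_one]) ?_
      intro h
      exact hev u ((QuotientGroup.eq_one_iff u).mp h) hu
    haveI : Group.IsSolvable (X ⧸ N) :=
      Group.isSolvable_of_surjective (QuotientGroup.mk'_surjective N)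
    have hq := ih (X ⧸ N) hcard inferInstance (fun a b ha hb => by
      obtain ⟨a', ha', rfl⟩ := hlift a ha
      obtain ⟨b', hb', rfl⟩ := hlift b hb
      exact π.map_isConj (hconj a' b' ha' hb')) (π x) (π y) (hinv hx) (hinv hy)
      (by rw [← map_mul, ← map_pow, h8, map_one])
    rw [← map_mul, ← map_pow] at hq
    have hmem : (x * y) ^ 2 ∈ N := (QuotientGroup.eq_one_iff _).mp hq
    have h4 : orderOf ((x * y) ^ 2) ∣ 4 := orderOf_dvd_of_pow_eq_one (by rw [← pow_mul]; exact h8)
    have hdN : orderOf ((x * y) ^ 2) ∣ Nat.card N := by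
      simpa [orderOf_coe] using orderOf_dvd_natCard (⟨_, hmem⟩ : N)
    have hcop : Nat.Coprime 4 (Nat.card N) := by
      rw [show (4 : ℕ) = 2 ^ 2 from rfl]
      exact Nat.Coprime.pow_left 2 (Nat.coprime_two_left.mpr hodd)
    exact orderOf_eq_one_iff.mp (Nat.dvd_one.mp (hcop ▸ Nat.dvd_gcd h4 hdN))

end Cfsg.Agent.H7Held
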