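import Cfsg.Agent.H7Held.ZTab
import Cfsg.Agent.H7Held.Strong

/-!
A subgroup containing the centraliser of the involution and controlling its fusion is the whole
group, given a table of the subgroups free of conjugates of the involution.
-/

set_option autoImplicit false

namespace Cfsg.Agent.H7Held

open Subgroup

/-- an external witness: two elements of the subgroup centralising a given subgroup -/
def ExtWitness {G : Type*} [Group G] (H : Subgroup G) (W : Set G) : Prop :=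
  ∃ x y, x ∈ H ∧ y ∈ H ∧ (∀ w ∈ W, x * w = w * x) ∧ (∀ w ∈ W, y * w = w * y) ∧
    x ∉ W ∧ y ∉ W ∧ x * x ∈ W ∧ y * y ∈ W ∧ (x * y) * (x * y) ∉ W ∧ (x * y) ^ 8 ∈ W

theorem rank_two {X : Type*} [Group X] {a b : X} (ha2 : a * a = 1) (hb2 : b * b = 1)
    (hab : a * b = b * a) (ha : a ≠ 1) (hb : b ≠ 1) (hne : a ≠ b) : Cfsg.PRankAtLeast 2 2 X := by
  classical
  have hsqab : a * b * (a * b) = 1 := by
    rw [show a * b * (a * b) = a * (b * a) * b by group, ← hab,
      show a * (a * b) * b = a * a * (b * b) by group, ha2, hb2, one_mul]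
  let K : Subgroup X :=
    { carrier := {g | g = 1 ∨ g = a ∨ g = b ∨ g = a * b}
      mul_mem' := by
        have e1 : ∀ g, a * (a * g) = g := fun g => by rw [← mul_assoc, ha2, one_mul]
        have e2 : ∀ g, b * (b * g) = g := fun g => by rw [← mul_assoc, hb2, one_mul]
        have e3 : b * a = a * b := hab.symm
        have e4 : ∀ g, b * (a * g) = a * (b * g) := fun g => by rw [← mul_assoc, e3, mul_assoc]
        rintro x y (rfl | rfl | rfl | rfl) (rfl | rfl | rfl | rfl) <;>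
          simp [ha2, hb2, e1, e2, e3, e4, mul_assoc]
      one_mem' := Or.inl rfl
      inv_mem' := by
        rintro x (rfl | rfl | rfl | rfl)
        · exact Or.inl inv_one
        · exact Or.inr (Or.inl (inv_eq_of_mul_eq_one_right ha2))
        · exact Or.inr (Or.inr (Or.inl (inv_eq_of_mul_eq_one_right hb2)))
        · exact Or.inr (Or.inr (Or.inr (inv_eq_of_mul_eq_one_right hsqab))) }
  have hK : (K : Set X) = ↑({1, a, b, a * b} : Finset X) := by ext g; simp [K]
  have hc : Nat.card K = 4 := by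
    rw [← SetLike.coe_sort_coe, Nat.card_coe_set_eq, hK, Set.ncard_coe_finset]
    have h1 : a * b ≠ 1 := fun h => hne (by
      rw [← inv_eq_of_mul_eq_one_right ha2, inv_eq_of_mul_eq_one_right h])
    have h2 : a ≠ a * b := fun h => hb (mul_eq_left.mp h.symm)
    have h3 : b ≠ a * b := fun h => ha (mul_eq_right.mp h.symm)
    simp [ha.symm, hb.symm, h1.symm, h2, h3, hne]
  have hsq : ∀ g ∈ K, g * g = 1 := by
    rintro g (rfl | rfl | rfl | rfl)
    · simp
    · exact ha2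
    · exact hb2
    · exact hsqab
  refine ⟨K, ⟨⟨?_⟩⟩, fun g hg => by rw [pow_two]; exact hsq g hg, by rw [hc]; norm_num⟩
  rintro ⟨g, hg⟩ ⟨h, hh⟩
  apply Subtype.ext
  change g * h = h * g
  calc g * h = (g * h)⁻¹ := (inv_eq_of_mul_eq_one_right (hsq _ (mul_mem hg hh))).symm
    _ = h * g := by
      rw [mul_inv_rev, inv_eq_of_mul_eq_one_right (hsq g hg),
        inv_eq_of_mul_eq_one_right (hsq h hh)]

namespace Emb

variable {G : Type*} [Group G] [Finite G] {z : G} (E : Emb z) {H : Subgroup G}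
include E

theorem conj_into_S_in {F : Subgroup G} (hC : centralizer ({z} : Set G) ≤ H) (hF : F ≤ H)
    (hp : IsPGroup 2 F) : ∃ h ∈ H, ∀ x ∈ F, h * x * h⁻¹ ∈ E.S := by
  haveI : Fact (Nat.Prime 2) := ⟨Nat.prime_two⟩
  obtain ⟨T, hT⟩ := E.exists_sylow
  have hSH : E.S ≤ H := E.S_le.trans hC
  obtain ⟨P0, hP0⟩ := (E.S_isPGroup.of_equiv (subgroupOfEquivOfLe hSH).symm).exists_le_sylow
  have hP0eq : (P0 : Subgroup H).map H.subtype = E.S := by
    rw [← hT]
    refine T.3 (P0.isPGroup'.map _) ?_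
    intro s hs
    exact ⟨⟨s, hSH (hT ▸ hs)⟩, hP0 (by simpa [mem_subgroupOf, ← hT] using hs), rfl⟩
  obtain ⟨P, hP⟩ := (hp.of_equiv (subgroupOfEquivOfLe hF).symm).exists_le_sylow
  obtain ⟨c, hc⟩ := MulAction.exists_smul_eq H P P0
  refine ⟨c, c.2, fun x hx => ?_⟩
  rw [← hP0eq]
  refine ⟨c * ⟨x, hF hx⟩ * c⁻¹, ?_, rfl⟩
  rw [← hc, Sylow.coe_subgroup_smul, SetLike.mem_coe, mem_smul_pointwise_iff_exists]
  exact ⟨⟨x, hF hx⟩, hP (by simpa [mem_subgroupOf] using hx), rfl⟩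

theorem z_conj_in (hC : centralizer ({z} : Set G) ≤ H)
    (hctrl : ∀ c < 8, E.pattern.testBit c = true →
      ∃ h ∈ H, h * z * h⁻¹ = E.ι (classRep.getD c cI))
    {y : G} (hy : y ∈ H) (hconj : IsConj z y) : ∃ h ∈ H, h * z * h⁻¹ = y := by
  haveI : Fact (Nat.Prime 2) := ⟨Nat.prime_two⟩
  obtain ⟨g, hg⟩ := isConj_iff.mp hconj
  have hy2 : y ^ 2 = 1 := by
    rw [← hg, conj_pow, pow_two, E.z_sq, mul_one, mul_inv_cancel]
  obtain ⟨h, hh, hS⟩ := E.conj_into_S_in hC (zpowers_le.mpr hy)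
    (IsPGroup.of_card (n := (Nat.factorization (orderOf y)) 2) (by
      rw [Nat.card_zpowers]
      rcases (Nat.dvd_prime Nat.prime_two).mp (orderOf_dvd_of_pow_eq_one hy2) with e | e <;>
        rw [e] <;> norm_num [Nat.prime_two.factorization_self]))
  obtain ⟨a, ha, hae⟩ := E.mem_S.mp (hS y (mem_zpowers y))
  have haC := isC_of_isS ha
  have hz' : IsConj z (E.ι a) := by
    rw [hae]; exact hconj.trans (isConj_iff.mpr ⟨h, rfl⟩)
  have hpat := (E.inPat_iff' haC).mpr hz'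
  simp only [inPat, List.any_eq_true, List.mem_range, Bool.and_eq_true] at hpat
  obtain ⟨c, hc, hb, hcl⟩ := hpat
  obtain ⟨x, hx, hxe⟩ := E.conj_rep (mem_invPairs haC hc hcl)
  obtain ⟨k, hk, hke⟩ := hctrl c hc hb
  refine ⟨h⁻¹ * x * k, mul_mem (mul_mem (inv_mem hh)
    (hC (mem_centralizer_singleton_iff.mpr hx))) hk, ?_⟩
  calc h⁻¹ * x * k * z * (h⁻¹ * x * k)⁻¹ = h⁻¹ * (x * (k * z * k⁻¹) * x⁻¹) * h := by group
    _ = y := by rw [hke, ← hxe, hae]; group

theorem move (hC : centralizer ({z} : Set G) ≤ H)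
    (hctrl : ∀ c < 8, E.pattern.testBit c = true →
      ∃ h ∈ H, h * z * h⁻¹ = E.ι (classRep.getD c cI))
    {y g : G} (hy : y ∈ H) (hy' : g * y * g⁻¹ ∈ H) (hconj : IsConj z y) : g ∈ H := by
  obtain ⟨h1, hh1, e1⟩ := E.z_conj_in hC hctrl hy hconj
  obtain ⟨h2, hh2, e2⟩ := E.z_conj_in hC hctrl hy' (hconj.trans (isConj_iff.mpr ⟨g, rfl⟩))
  have hc : h2⁻¹ * g * h1 ∈ H := by
    apply hC
    rw [mem_centralizer_singleton_iff]
    calc h2⁻¹ * g * h1 * z = h2⁻¹ * (g * (h1 * z * h1⁻¹) * g⁻¹) * g * h1 := by group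
      _ = z * (h2⁻¹ * g * h1) := by rw [e1, ← e2]; group
  have := mul_mem (mul_mem hh2 hc) (inv_mem hh1)
  simpa [mul_assoc] using this

theorem step (hC : centralizer ({z} : Set G) ≤ H)
    (hctrl : ∀ c < 8, E.pattern.testBit c = true →
      ∃ h ∈ H, h * z * h⁻¹ = E.ι (classRep.getD c cI))
    {W : Subgroup G} (hW : W ≤ H) (hab : ∀ a ∈ W, ∀ b ∈ W, a * b = b * a) (hp : IsPGroup 2 W)
    (ih : ∀ W' : Subgroup G, Nat.card W < Nat.card W' → W' ≤ H →
      (∀ a ∈ W', ∀ b ∈ W', a * b = b * a) → IsPGroup 2 W' → (∀ a ∈ W', ¬ IsConj z a) →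
      centralizer (W' : Set G) ≤ H)
    {x g : G} (hx : x ∈ H) (hxc : ∀ w ∈ W, x * w = w * x) (hx2 : x * x ∈ W) (hxW : x ∉ W)
    (hgc : ∀ w ∈ W, g * w = w * g) (hgx : g * x * g⁻¹ ∈ H) : g ∈ H := by
  have hinv : x⁻¹ = (x * x)⁻¹ * x := by group
  let W' : Subgroup G :=
    { carrier := {a | a ∈ W ∨ ∃ w ∈ W, a = w * x}
      mul_mem' := by
        rintro a b (ha | ⟨u, hu, rfl⟩) (hb | ⟨v, hv, rfl⟩)
        · exact Or.inl (mul_mem ha hb)
        · exact Or.inr ⟨a * v, mul_mem ha hv, by group⟩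
        · exact Or.inr ⟨u * b, mul_mem hu hb, by rw [mul_assoc, hxc b hb, mul_assoc]⟩
        · refine Or.inl ?_
          rw [show u * x * (v * x) = u * (x * v) * x by group, hxc v hv,
            show u * (v * x) * x = u * v * (x * x) by group]
          exact mul_mem (mul_mem hu hv) hx2
      one_mem' := Or.inl (one_mem _)
      inv_mem' := by
        rintro a (ha | ⟨u, hu, rfl⟩)
        · exact Or.inl (inv_mem ha)
        · refine Or.inr ⟨(x * x)⁻¹ * u⁻¹, mul_mem (inv_mem hx2) (inv_mem hu), ?_⟩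
          rw [mul_inv_rev, hinv, mul_assoc, mul_assoc, hxc _ (inv_mem hu)] }
  have hle : W ≤ W' := fun a ha => Or.inl ha
  have hxW' : x ∈ W' := Or.inr ⟨1, one_mem _, by group⟩
  have hW'H : W' ≤ H := by
    rintro a (ha | ⟨u, hu, rfl⟩)
    · exact hW ha
    · exact mul_mem (hW hu) hx
  have hab' : ∀ a ∈ W', ∀ b ∈ W', a * b = b * a := by
    rintro a (ha | ⟨u, hu, rfl⟩) b (hb | ⟨v, hv, rfl⟩)
    · exact hab a ha b hb
    · rw [← mul_assoc, hab a ha v hv, mul_assoc, ← hxc a ha, ← mul_assoc]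
    · rw [mul_assoc, hxc b hb, ← mul_assoc, hab u hu b hb, mul_assoc]
    · rw [show u * x * (v * x) = u * (x * v) * x by group, hxc v hv,
        show v * x * (u * x) = v * (x * u) * x by group, hxc u hu,
        show u * (v * x) * x = u * v * (x * x) by group, hab u hu v hv]
      group
  have hp' : IsPGroup 2 W' := by
    rintro ⟨a, ha⟩
    rcases ha with ha | ⟨u, hu, rfl⟩
    · obtain ⟨k, hk⟩ := hp ⟨a, ha⟩
      exact ⟨k, Subtype.ext (by simpa using congrArg Subtype.val hk)⟩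
    · have hm : (u * x) ^ 2 ∈ W := by
        rw [pow_two, show u * x * (u * x) = u * (x * u) * x by group, hxc u hu,
          show u * (u * x) * x = u * u * (x * x) by group]
        exact mul_mem (mul_mem hu hu) hx2
      obtain ⟨k, hk⟩ := hp ⟨_, hm⟩
      refine ⟨k + 1, Subtype.ext ?_⟩
      have := congrArg Subtype.val hk
      rw [pow_succ' 2 k, pow_mul]
      simpa using this
  have hlt : Nat.card W < Nat.card W' := by
    refine lt_of_le_of_ne (Subgroup.card_le_of_le hle) fun h => hxW ?_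
    rw [eq_of_le_of_card_ge hle h.ge]; exact hxW'
  have hgW' : ∀ a ∈ W', g * a * g⁻¹ ∈ H := by
    rintro a (ha | ⟨u, hu, rfl⟩)
    · rw [hgc a ha, mul_inv_cancel_right]; exact hW ha
    · rw [← mul_assoc g, hgc u hu, mul_assoc u, mul_assoc u]; exact mul_mem (hW hu) hgx
  by_cases hex : ∃ y ∈ W', IsConj z y
  · obtain ⟨y, hy, hyc⟩ := hex
    exact E.move hC hctrl (hW'H hy) (hgW' y hy) hyc
  push_neg at hex
  have hcen := ih W' hlt hW'H hab' hp' hex
  let W'' : Subgroup G := W'.map (MulAut.conj g).toMonoidHom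
  have hcen' : centralizer (W'' : Set G) ≤ H := by
    refine ih W'' ?_ ?_ ?_ (hp'.map _) ?_
    · rwa [card_map_of_injective (MulAut.conj g).injective]
    · rintro _ ⟨a, ha, rfl⟩; exact hgW' a ha
    · rintro _ ⟨a, ha, rfl⟩ _ ⟨b, hb, rfl⟩
      simp only [← _root_.map_mul, hab' a ha b hb]
    · rintro _ ⟨a, ha, rfl⟩ hc
      exact hex a ha (hc.trans (IsConj.symm (isConj_iff.mpr ⟨g, rfl⟩)))
  obtain ⟨h, hh, hS⟩ := E.conj_into_S_in hC hW'H hp'
  have hy : h⁻¹ * z * h ∈ centralizer (W' : Set G) := by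
    rw [mem_centralizer_iff]
    intro a ha
    have hc := mem_centralizer_singleton_iff.mp (E.S_le (hS a ha))
    calc a * (h⁻¹ * z * h) = h⁻¹ * ((h * a * h⁻¹) * z) * h := by group
      _ = h⁻¹ * (z * (h * a * h⁻¹)) * h := by rw [hc]
      _ = h⁻¹ * z * h * a := by group
  refine E.move hC hctrl (hcen hy) (hcen' ?_) (isConj_iff.mpr ⟨h⁻¹, by rw [inv_inv]⟩)
  rw [mem_centralizer_iff]
  rintro _ ⟨a, ha, rfl⟩
  change g * a * g⁻¹ * _ = _ * (g * a * g⁻¹)
  have := mem_centralizer_iff.mp hy a ha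
  calc g * a * g⁻¹ * (g * (h⁻¹ * z * h) * g⁻¹) = g * (a * (h⁻¹ * z * h)) * g⁻¹ := by group
    _ = g * (h⁻¹ * z * h * a) * g⁻¹ := by rw [this]
    _ = g * (h⁻¹ * z * h) * g⁻¹ * (g * a * g⁻¹) := by group

/-- counting invariant of an element with respect to a subgroup it centralises -/
noncomputable def cnt (W : Subgroup G) (x w : G) : ℕ :=
  Set.ncard {v : G | v ∈ W ∧ IsConj z (x * v) ∧ IsConj z (x * v * w)}

end Emb

end Cfsg.Agent.H7Held
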