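import Cfsg.Agent.H7Held.Generic

/-!
The contradiction at one admissible subgroup, and the main criterion.
-/

set_option autoImplicit false

namespace Cfsg.Agent.H7Held

open Subgroup

theorem orderOf_two {X : Type*} [Monoid X] {a : X} (h : a * a = 1) (h1 : a ≠ 1) :
    orderOf a = 2 :=
  orderOf_eq_prime (by rw [pow_two, h]) h1

theorem orderOf_conj' {X : Type*} [Group X] (g x : X) : orderOf (g * x * g⁻¹) = orderOf x :=
  (SemiconjBy.orderOf_eq g (by rw [SemiconjBy]; group)).symm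

theorem strongly_of_move {X : Type*} [Group X] [Finite X] {K : Subgroup X} (hK : K ≠ ⊤)
    (heven : ∃ t ∈ K, orderOf t = 2)
    (h : ∀ t ∈ K, orderOf t = 2 → ∀ g : X, g * t * g⁻¹ ∈ K → g ∈ K) :
    Cfsg.IsStronglyEmbedded K := by
  obtain ⟨t0, ht0, ht0'⟩ := heven
  have hev : Even (Nat.card K) := by
    rw [even_iff_two_dvd, ← ht0', ← Subgroup.orderOf_mk t0 ht0]
    exact orderOf_dvd_natCard _
  refine (Cfsg.Agent.S0224.result K hK hev).mpr fun t ht ho => ?_
  rw [Nat.card_eq_one_iff_unique]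
  have hfix : t • (QuotientGroup.mk 1 : X ⧸ K) = QuotientGroup.mk 1 := by
    rw [MulAction.Quotient.smul_mk, smul_eq_mul, mul_one, QuotientGroup.eq]
    simpa using inv_mem ht
  refine ⟨⟨?_⟩, ⟨⟨_, hfix⟩⟩⟩
  rintro ⟨a, ha⟩ ⟨b, hb⟩
  apply Subtype.ext
  have key : ∀ c : X ⧸ K, t • c = c → c = QuotientGroup.mk 1 := by
    intro c hc
    obtain ⟨g, rfl⟩ := QuotientGroup.mk_surjective c
    rw [MulAction.Quotient.smul_mk, smul_eq_mul, QuotientGroup.eq] at hc
    rw [QuotientGroup.eq, mul_one, inv_mem_iff]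
    have h2 : g⁻¹ * t * g ∈ K := by
      have := inv_mem hc
      simpa [mul_assoc] using this
    exact (inv_mem_iff).mp (h t ht ho g⁻¹ (by rwa [inv_inv]))
  exact (key a ha).trans (key b hb).symm

namespace Emb

variable {G : Type*} [Group G] [Finite G] {z : G} (E : Emb z) {H : Subgroup G}
include E

theorem kcnt_eq {D : ZTable} (hz : D.zmOK = true) (hP : E.pattern = D.P) {L : List ℕ}
    (hnd : L.Nodup) (hlt : ∀ k ∈ L, k < 1024) {W : Subgroup G} (hW : (W : Set G) = E.setOf L)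
    {x w : ℕ} (hx : x < 1024) (hw : w < 1024) :
    D.kcnt L x w = cnt (z := z) W (E.sv x) (E.sv w) := by
  classical
  have hset : {v : G | v ∈ W ∧ IsConj z (E.sv x * v) ∧ IsConj z (E.sv x * v * E.sv w)} =
      ↑((L.toFinset.filter fun v => D.zm.testBit (kMul x v) &&
        D.zm.testBit (kMul (kMul x v) w)).image E.sv) := by
    ext g
    simp only [Set.mem_setOf_eq, Finset.coe_image, Set.mem_image, Finset.mem_coe,
      Finset.mem_filter, List.mem_toFinset, Bool.and_eq_true]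
    have hmem : g ∈ W ↔ ∃ k ∈ L, E.sv k = g := by
      rw [← SetLike.mem_coe, hW]; rfl
    have hiff : ∀ v ∈ L, (IsConj z (E.sv x * E.sv v) ∧ IsConj z (E.sv x * E.sv v * E.sv w)) ↔
        (D.zm.testBit (kMul x v) = true ∧ D.zm.testBit (kMul (kMul x v) w) = true) := by
      intro v hv
      rw [E.sv_mul hx (hlt v hv), E.sv_mul (kMul_facts hx (hlt v hv)).1 hw,
        E.zm_iff hz hP (kMul_facts hx (hlt v hv)).1,
        E.zm_iff hz hP (kMul_facts (kMul_facts hx (hlt v hv)).1 hw).1]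
    constructor
    · rintro ⟨hg, h⟩
      obtain ⟨v, hv, rfl⟩ := hmem.mp hg
      exact ⟨v, ⟨hv, (hiff v hv).mp h⟩, rfl⟩
    · rintro ⟨v, ⟨hv, h⟩, rfl⟩
      exact ⟨hmem.mpr ⟨v, hv, rfl⟩, (hiff v hv).mpr h⟩
  rw [cnt, hset, Set.ncard_coe_finset, Finset.card_image_of_injOn]
  · rw [ZTable.kcnt, ← List.toFinset_card_of_nodup (hnd.filter _), List.toFinset_filter]
    simp only [force_eq]
  · intro a ha b hb h
    exact E.sv_inj (hlt a (List.mem_toFinset.mp (Finset.mem_filter.mp ha).1))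
      (hlt b (List.mem_toFinset.mp (Finset.mem_filter.mp hb).1)) h

theorem cnt_conj {W : Subgroup G} {x y c w : G} (hc : ∀ v ∈ W, c * v = v * c) (hw : w ∈ W)
    (hcy : y⁻¹ * (c * x * c⁻¹) ∈ W) : cnt (z := z) W x w = cnt (z := z) W y w := by
  let u := y⁻¹ * (c * x * c⁻¹)
  have e : ∀ v ∈ W, y * (u * v) = c * (x * v) * c⁻¹ := by
    intro v hv
    calc y * (u * v) = c * x * c⁻¹ * v := by simp only [u]; group
      _ = c * x * c⁻¹ * (v * c) * c⁻¹ := by group
      _ = c * x * c⁻¹ * (c * v) * c⁻¹ := by rw [hc v hv]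
      _ = c * (x * v) * c⁻¹ := by group
  have e2 : ∀ v ∈ W, y * (u * v) * w = c * (x * v * w) * c⁻¹ := by
    intro v hv
    calc y * (u * v) * w = c * (x * v) * c⁻¹ * (w * c) * c⁻¹ := by rw [e v hv]; group
      _ = c * (x * v) * c⁻¹ * (c * w) * c⁻¹ := by rw [hc w hw]
      _ = c * (x * v * w) * c⁻¹ := by group
  have hcc : ∀ g : G, IsConj z g ↔ IsConj z (c * g * c⁻¹) := fun g =>
    ⟨fun h => h.trans (isConj_iff.mpr ⟨c, rfl⟩), fun h => h.trans (IsConj.symm (isConj_iff.mpr ⟨c, rfl⟩))⟩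
  unfold cnt
  rw [← Set.ncard_image_of_injective _ (mul_right_injective u)]
  congr 1
  ext g
  constructor
  · rintro ⟨v, ⟨hv, h1, h2⟩, rfl⟩
    exact ⟨mul_mem hcy hv, by rw [e v hv]; exact (hcc _).mp h1,
      by rw [e2 v hv]; exact (hcc _).mp h2⟩
  · rintro ⟨hg, h1, h2⟩
    have hv : u⁻¹ * g ∈ W := mul_mem (inv_mem hcy) hg
    refine ⟨u⁻¹ * g, ⟨hv, ?_, ?_⟩, mul_inv_cancel_left u g⟩
    · rw [hcc, ← e _ hv, mul_inv_cancel_left]; exact h1
    · rw [hcc, ← e2 _ hv, mul_inv_cancel_left]; exact h2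

theorem witness_false {D : ZTable} (hz : D.zmOK = true) (hP : E.pattern = D.P)
    (hall : ∀ i < D.N, D.entryOK i = true) (hC : centralizer ({z} : Set G) ≤ H)
    (hext : ∀ i < D.N, (D.get i).kind = 2 → ExtWitness H (E.setOf (D.get i).L))
    {i : ℕ} (hi : i < D.N) (hi0 : i ≠ 0) {W : Subgroup G}
    (hW : (W : Set G) = E.setOf (D.get i).L) (hfree : ∀ a ∈ W, ¬ IsConj z a)
    (hstep : ∀ x g : G, x ∈ H → (∀ w ∈ W, x * w = w * x) → x * x ∈ W → x ∉ W →
      (∀ w ∈ W, g * w = w * g) → g * x * g⁻¹ ∈ H → g ∈ H)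
    (hnot : ¬ centralizer (W : Set G) ≤ H) : False := by
  haveI : Fact (Nat.Prime 2) := ⟨Nat.prime_two⟩
  obtain ⟨hlt, hnd, hlm, hwit⟩ := entry_facts hall hi
  have hwit := hwit.resolve_left hi0
  have hmem : ∀ {g : G}, g ∈ W ↔ ∃ l ∈ (D.get i).L, E.sv l = g := by
    intro g; rw [← SetLike.mem_coe, hW]; rfl
  have hWS : W ≤ E.S := by
    intro g hg; obtain ⟨l, hl, rfl⟩ := hmem.mp hg; exact E.sv_mem (hlt l hl)
  have hWH : W ≤ H := hWS.trans (E.S_le.trans hC)
  let M : Subgroup G := centralizer (W : Set G)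
  let N : Subgroup M := W.subgroupOf M
  haveI hN : N.Normal := ⟨fun n hn g => by
    simp only [N, mem_subgroupOf] at hn ⊢
    have := mem_centralizer_iff.mp g.2 _ hn
    simp only [coe_mul, coe_inv]
    rw [← this, mul_inv_cancel_right]; exact hn⟩
  let π := QuotientGroup.mk' N
  have hπ1 : ∀ m : M, π m = 1 ↔ (m : G) ∈ W := fun m => QuotientGroup.eq_one_iff m
  let K : Subgroup (M ⧸ N) := (H.subgroupOf M).map π
  have hKiff : ∀ m : M, π m ∈ K ↔ (m : G) ∈ H := by
    intro m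
    refine ⟨?_, fun h => ⟨m, h, rfl⟩⟩
    rintro ⟨m', hm', he⟩
    have h1 : ((m'⁻¹ * m : M) : G) ∈ W := (hπ1 _).mp (by rw [_root_.map_mul, map_inv, he, inv_mul_cancel])
    have := mul_mem hm' (show m'⁻¹ * m ∈ H.subgroupOf M from hWH h1)
    simpa [mem_subgroupOf] using this
  have hKtop : K ≠ ⊤ := by
    intro h; apply hnot; intro g hg
    exact (hKiff ⟨g, hg⟩).mp (h ▸ mem_top _)
  have hzM : z ∈ M := by
    rw [mem_centralizer_iff]
    intro w hw
    exact mem_centralizer_singleton_iff.mp (E.S_le (hWS hw))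
  have hzH : z ∈ H := hC (mem_centralizer_singleton_iff.mpr rfl)
  have hzW : z ∉ W := fun h => hfree z h (IsConj.refl z)
  have hz1 : π ⟨z, hzM⟩ ≠ 1 := fun h => hzW ((hπ1 _).mp h)
  have hz2 : π ⟨z, hzM⟩ * π ⟨z, hzM⟩ = 1 := by
    rw [← _root_.map_mul, hπ1]
    simpa [E.z_sq] using one_mem W
  have hse : Cfsg.IsStronglyEmbedded K := by
    refine strongly_of_move hKtop ⟨_, (hKiff _).mpr hzH, orderOf_two hz2 hz1⟩ ?_
    intro t ht ho g hg
    obtain ⟨x, rfl⟩ := QuotientGroup.mk'_surjective N t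
    obtain ⟨c, rfl⟩ := QuotientGroup.mk'_surjective N g
    change π c * π x * (π c)⁻¹ ∈ K at hg
    rw [← map_inv, ← _root_.map_mul, ← _root_.map_mul, hKiff] at hg
    refine (hKiff c).mpr (hstep x c ((hKiff x).mp ht) ?_ ?_ ?_ ?_ (by simpa using hg))
    · exact fun w hw => (mem_centralizer_iff.mp x.2 w hw).symm
    · have h2 : π x ^ 2 = 1 := ho ▸ pow_orderOf_eq_one _
      rw [← map_pow, hπ1] at h2
      simpa [pow_two] using h2
    · intro h
      have := (hπ1 x).mpr h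
      change orderOf (π x) = 2 at ho
      rw [this, orderOf_one] at ho; norm_num at ho
    · exact fun w hw => (mem_centralizer_iff.mp c.2 w hw).symm
  obtain ⟨g0, hg0⟩ : ∃ g, g ∉ K := by
    by_contra h; push_neg at h; exact hKtop (eq_top_iff' K |>.mpr h)
  have hu : ∃ u, orderOf u = 2 ∧ u ∉ K := by
    refine ⟨g0 * π ⟨z, hzM⟩ * g0⁻¹, ?_, ?_⟩
    · exact (orderOf_conj' g0 _).trans (orderOf_two hz2 hz1)
    · intro h
      have hodd := hse.2.2 g0 hg0
      have hmem' : g0 * π ⟨z, hzM⟩ * g0⁻¹ ∈ K ⊓ K.map (MulAut.conj g0).toMonoidHom :=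
        ⟨h, _, (hKiff _).mpr hzH, rfl⟩
      have hdv := orderOf_dvd_natCard
        (⟨_, hmem'⟩ : ↥(K ⊓ K.map (MulAut.conj g0).toMonoidHom))
      rw [Subgroup.orderOf_mk, (orderOf_conj' g0 _).trans
        (orderOf_two hz2 hz1)] at hdv
      exact Nat.not_even_iff_odd.mpr hodd (even_iff_two_dvd.mpr hdv)
  obtain ⟨u, hu2, huK⟩ := hu
  have hinvol : ∀ x : G, x ∈ M → x * x ∈ W → x ∉ W → ∀ hx : x ∈ M, orderOf (π ⟨x, hx⟩) = 2 := by
    intro x _ hx2 hxW hx
    refine orderOf_two ?_ fun h => hxW ((hπ1 _).mp h)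
    rw [← _root_.map_mul, hπ1]; exact hx2
  have hsvW : ∀ k, k < 1024 → ((D.get i).lm.testBit k = true ↔ E.sv k ∈ W) := by
    intro k hk
    rw [hlm, hmem]
    exact ⟨fun h => ⟨k, h, rfl⟩, fun ⟨l, hl, he⟩ => E.sv_inj (hlt l hl) hk he ▸ hl⟩
  have hsvH : ∀ k, k < 1024 → E.sv k ∈ H := fun k hk => hC (E.S_le (E.sv_mem hk))
  have hinvW : ∀ {k}, ZTable.invW (D.get i) k = true → k < 1024 ∧ E.sv k ∈ M ∧
      E.sv k * E.sv k ∈ W ∧ E.sv k ∉ W := by
    intro k h
    simp only [ZTable.invW, Bool.and_eq_true, Nat.blt_eq, List.all_eq_true,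
      Bool.not_eq_true', ← Bool.not_eq_true] at h
    obtain ⟨⟨⟨hk, h1⟩, h2⟩, h3⟩ := h
    refine ⟨hk, ?_, ?_, fun hh => h1 ((hsvW k hk).mpr hh)⟩
    · rw [mem_centralizer_iff]
      intro w hw
      obtain ⟨l, hl, rfl⟩ := hmem.mp hw
      exact ((E.sv_comm hk (hlt l hl)).mp (h3 l hl)).symm
    · rw [E.sv_mul hk hk]; exact (hsvW _ (kMul_facts hk hk).1).mp h2
  have hcomm : (∃ x y : G, x ∈ H ∧ y ∈ H ∧ x ∈ M ∧ y ∈ M ∧ x ∉ W ∧ y ∉ W ∧ x * x ∈ W ∧
      y * y ∈ W ∧ (x * y) * (x * y) ∉ W ∧ (x * y) ^ 8 ∈ W) →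
      ZTable.invW (D.get i) (D.get i).wc = true →
      (D.get i).lm.testBit (kMul (D.get i).wc 8) ≠ true → False := by
    rintro ⟨x, y, hxH, hyH, hxM, hyM, hxW, hyW, hx2, hy2, hq, hq8⟩ hwc hwz
    obtain ⟨hk, hkM, hk2, hkW⟩ := hinvW hwc
    have hrank : Cfsg.PRankAtLeast 2 2 (M ⧸ N) := by
      refine rank_two (a := π ⟨E.sv (D.get i).wc, hkM⟩) (b := π ⟨z, hzM⟩) ?_ hz2 ?_
        (fun h => hkW ((hπ1 _).mp h)) hz1 ?_
      · rw [← _root_.map_mul, hπ1]; exact hk2
      · rw [← _root_.map_mul, ← _root_.map_mul]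
        congr 1
        exact Subtype.ext (E.comm (isC_of_isS (isS_sOf hk).1))
      · intro h
        apply hwz
        rw [hsvW _ (kMul_facts hk (by norm_num)).1, ← E.sv_mul hk (by norm_num), E.sv_eight]
        have : π (⟨E.sv (D.get i).wc, hkM⟩ * ⟨z, hzM⟩) = 1 := by rw [_root_.map_mul, h, hz2]
        exact (hπ1 _).mp this
    have hsol := Cfsg.Agent.S2903.result hrank K (pEmbedded_of_strongly hse)
    have hcKK : ∀ a b : K, orderOf a = 2 → orderOf b = 2 → IsConj a b := by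
      intro a b ha hb
      rw [← orderOf_coe] at ha hb
      obtain ⟨d, hd, hde⟩ := (Cfsg.Agent.S1225.result K hse u hu2 huK a b ha a.2 hb b.2).1
      exact isConj_iff.mpr ⟨⟨d, hd.1⟩, Subtype.ext hde⟩
    have hx' := hinvol x hxM hx2 hxW hxM
    have hy' := hinvol y hyM hy2 hyW hyM
    have h8 : (π ⟨x, hxM⟩ * π ⟨y, hyM⟩) ^ 8 = 1 := by
      rw [← _root_.map_mul, ← map_pow, hπ1]; simpa using hq8
    have hres := commutator_sq_of_solvable (Nat.card K) K le_rfl hsol hcKK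
      ⟨π ⟨x, hxM⟩, (hKiff _).mpr hxH⟩ ⟨π ⟨y, hyM⟩, (hKiff _).mpr hyH⟩
      (by rwa [Subgroup.orderOf_mk]) (by rwa [Subgroup.orderOf_mk]) (Subtype.ext (by simpa using h8))
    apply hq
    have := congrArg Subtype.val hres
    simp only [SubmonoidClass.coe_pow, coe_mul, OneMemClass.coe_one] at this
    rw [← _root_.map_mul, ← map_pow, hπ1] at this
    simpa [pow_two] using this
  rw [ZTable.witOK] at hwit
  cases hk0 : Nat.beq (D.get i).kind 0 <;>
    simp only [hk0, cond_true, cond_false, Bool.and_eq_true] at hwit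
  · cases hk1 : Nat.beq (D.get i).kind 1 <;>
      simp only [hk1, cond_true, cond_false, Bool.and_eq_true, force_eq, Bool.not_eq_true',
        ← Bool.not_eq_true] at hwit
    · obtain ⟨⟨hk2, hwc⟩, hwz⟩ := hwit
      obtain ⟨x, y, hxH, hyH, hxc, hyc, rest⟩ :=
        hext i hi (Nat.eq_of_beq_eq_true hk2)
      rw [← hW] at rest
      exact hcomm ⟨x, y, hxH, hyH, mem_centralizer_iff.mpr fun w hw => (hxc w (hW ▸ hw)).symm,
        mem_centralizer_iff.mpr fun w hw => (hyc w (hW ▸ hw)).symm, rest⟩ hwc hwz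
    · obtain ⟨⟨⟨⟨hwa, hwb⟩, hwc⟩, hwz⟩, hq2, hq8⟩ := hwit
      obtain ⟨ha, haM, ha2, haW⟩ := hinvW hwa
      obtain ⟨hb, hbM, hb2, hbW⟩ := hinvW hwb
      refine hcomm ⟨_, _, hsvH _ ha, hsvH _ hb, haM, hbM, haW, hbW, ha2, hb2, ?_, ?_⟩ hwc hwz
      · intro h
        apply hq2
        rw [E.sv_mul ha hb, E.sv_mul (kMul_facts ha hb).1 (kMul_facts ha hb).1] at h
        exact (hsvW _ (kMul_facts (kMul_facts ha hb).1 (kMul_facts ha hb).1).1).mpr h
      · have l1 := (kMul_facts ha hb).1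
        have l2 := (kMul_facts l1 l1).1
        have l4 := (kMul_facts l2 l2).1
        have e8 := (hsvW _ (kMul_facts l4 l4).1).mp hq8
        rw [← E.sv_mul l4 l4, ← E.sv_mul l2 l2, ← E.sv_mul l1 l1, ← E.sv_mul ha hb] at e8
        simpa [pow_succ, mul_assoc] using e8
  · obtain ⟨⟨⟨⟨hwa, hwb⟩, hw⟩, hwm⟩, hne⟩ := hwit
    simp only [Nat.blt_eq] at hw
    obtain ⟨ha, haM, ha2, haW⟩ := hinvW hwa
    obtain ⟨hb, hbM, hb2, hbW⟩ := hinvW hwb
    have hconj := (Cfsg.Agent.S1225.result K hse u hu2 huK _ _ (hinvol _ haM ha2 haW haM)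
      ((hKiff _).mpr (hsvH _ ha)) (hinvol _ hbM hb2 hbW hbM) ((hKiff _).mpr (hsvH _ hb))).1
    obtain ⟨d, -, hde⟩ := hconj
    obtain ⟨c, rfl⟩ := QuotientGroup.mk'_surjective N d
    change π c * π _ * (π c)⁻¹ = π _ at hde
    rw [← map_inv, ← _root_.map_mul, ← _root_.map_mul] at hde
    have hin : ((⟨E.sv (D.get i).wb, hbM⟩ : M)⁻¹ * (c * ⟨E.sv (D.get i).wa, haM⟩ * c⁻¹) : M).1 ∈ W :=
      (hπ1 _).mp (by rw [_root_.map_mul, hde, map_inv, inv_mul_cancel])
    have heq := E.cnt_conj (x := E.sv (D.get i).wa) (y := E.sv (D.get i).wb) (c := (c : G))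
      (fun v hv => (mem_centralizer_iff.mp c.2 v hv).symm) ((hsvW _ hw).mp hwm) (by simpa using hin)
    rw [← E.kcnt_eq hz hP hnd hlt hW ha hw, ← E.kcnt_eq hz hP hnd hlt hW hb hw] at heq
    simp [heq] at hne

theorem eq_top_of_table {D : ZTable} (hz : D.zmOK = true) (hP : E.pattern = D.P) (hN : 0 < D.N)
    (hall : ∀ i < D.N, D.entryOK i = true) (hC : centralizer ({z} : Set G) ≤ H)
    (hctrl : ∀ c < 8, E.pattern.testBit c = true →
      ∃ h ∈ H, h * z * h⁻¹ = E.ι (classRep.getD c cI))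
    (hext : ∀ i < D.N, (D.get i).kind = 2 → ExtWitness H (E.setOf (D.get i).L)) : H = ⊤ := by
  haveI : Fact (Nat.Prime 2) := ⟨Nat.prime_two⟩
  have hcard : ∀ {W : Subgroup G}, W ≤ H → IsPGroup 2 W →
      ∃ h ∈ H, W.map (MulAut.conj h).toMonoidHom ≤ E.S := by
    intro W hW hp
    obtain ⟨h, hh, hS⟩ := E.conj_into_S_in hC hW hp
    exact ⟨h, hh, by rintro _ ⟨a, ha, rfl⟩; exact hS a ha⟩
  have claim : ∀ (n : ℕ) (W : Subgroup G), 1024 < Nat.card W + n → W ≤ H →
      (∀ a ∈ W, ∀ b ∈ W, a * b = b * a) → IsPGroup 2 W → (∀ a ∈ W, ¬ IsConj z a) →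
      W ≠ ⊥ → centralizer (W : Set G) ≤ H := by
    intro n
    induction n with
    | zero =>
      intro W h hW _ hp
      obtain ⟨g, -, hS⟩ := hcard hW hp
      have := Subgroup.card_le_of_le hS
      rw [card_map_of_injective (MulAut.conj g).injective, E.card_S] at this
      norm_num at this; omega
    | succ n ih =>
      intro W hn hW hab hp hfree h1
      obtain ⟨h, hh, hS⟩ := hcard hW hp
      have hc' : Nat.card (W.map (MulAut.conj h).toMonoidHom) = Nat.card W :=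
        card_map_of_injective (MulAut.conj h).injective
      have hW'H : W.map (MulAut.conj h).toMonoidHom ≤ H := hS.trans (E.S_le.trans hC)
      have hab' : ∀ a ∈ W.map (MulAut.conj h).toMonoidHom, ∀ b ∈ W.map (MulAut.conj h).toMonoidHom,
          a * b = b * a := by
        rintro _ ⟨a, ha, rfl⟩ _ ⟨b, hb, rfl⟩
        simp only [← _root_.map_mul, hab a ha b hb]
      have hfree' : ∀ a ∈ W.map (MulAut.conj h).toMonoidHom, ¬ IsConj z a := by
        rintro _ ⟨a, ha, rfl⟩ hc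
        exact hfree a ha (hc.trans (IsConj.symm (isConj_iff.mpr ⟨h, rfl⟩)))
      suffices hle : centralizer (W.map (MulAut.conj h).toMonoidHom : Set G) ≤ H by
        intro g hg
        have : h * g * h⁻¹ ∈ centralizer (W.map (MulAut.conj h).toMonoidHom : Set G) := by
          rw [mem_centralizer_iff]
          rintro _ ⟨a, ha, rfl⟩
          have := mem_centralizer_iff.mp hg a ha
          change h * a * h⁻¹ * (h * g * h⁻¹) = h * g * h⁻¹ * (h * a * h⁻¹)
          calc h * a * h⁻¹ * (h * g * h⁻¹) = h * (a * g) * h⁻¹ := by group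
            _ = h * (g * a) * h⁻¹ := by rw [this]
            _ = _ := by group
        have := mul_mem (mul_mem (inv_mem hh) (hle this)) hh
        simpa [mul_assoc] using this
      obtain ⟨i, hi, hset, hi0⟩ := E.table_complete hz hP hN hall _ _ le_rfl hS hab' hfree'
      have hne : W.map (MulAut.conj h).toMonoidHom ≠ ⊥ := by
        intro hb
        rw [hb, card_bot] at hc'
        exact h1 (W.eq_bot_of_card_eq hc'.symm)
      by_contra hnot
      refine E.witness_false hz hP hall hC hext hi (hi0 hne) hset hfree' ?_ hnot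
      intro x g hx hxc hx2 hxW hgc hgx
      refine E.step hC hctrl hW'H hab' (hp.map _) ?_ hx hxc hx2 hxW hgc hgx
      intro V hV hVH hVab hVp hVfree
      refine ih V (by omega) hVH hVab hVp hVfree ?_
      intro hb
      rw [hb, card_bot] at hV
      have : 0 < Nat.card (W.map (MulAut.conj h).toMonoidHom) := Nat.card_pos
      omega
  by_contra hne
  have hzH : z ∈ H := hC (mem_centralizer_singleton_iff.mpr rfl)
  have hz2 : orderOf z = 2 := orderOf_two E.z_sq E.z_ne_one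
  have hse : Cfsg.IsStronglyEmbedded H := by
    refine strongly_of_move hne ⟨z, hzH, hz2⟩ ?_
    intro t ht ho g hg
    by_cases hc : IsConj z t
    · exact E.move hC hctrl ht hg hc
    have htt : t * t = 1 := by rw [← pow_two, ← ho, pow_orderOf_eq_one]
    have htab : ∀ {a : G}, a ∈ zpowers t → a = 1 ∨ a = t := by
      intro a ha
      obtain ⟨k, rfl⟩ := mem_zpowers_iff.mp ha
      rw [← zpow_mod_orderOf, ho]
      rcases Int.emod_two_eq_zero_or_one k with e | e <;> norm_num [e]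
    have hcen : ∀ s : G, s ∈ H → orderOf s = 2 → ¬ IsConj z s →
        centralizer (zpowers s : Set G) ≤ H := by
      intro s hs hso hsc
      refine claim 1025 _ (by omega) (zpowers_le.mpr hs) ?_ ?_ ?_ ?_
      · rintro a ha b hb
        obtain ⟨m, rfl⟩ := mem_zpowers_iff.mp ha
        obtain ⟨n, rfl⟩ := mem_zpowers_iff.mp hb
        rw [← zpow_add, ← zpow_add, add_comm]
      · exact IsPGroup.of_card (n := 1) (by rw [Nat.card_zpowers, hso, pow_one])
      · intro a ha hac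
        obtain ⟨k, rfl⟩ := mem_zpowers_iff.mp ha
        rw [← zpow_mod_orderOf, hso] at hac
        rcases Int.emod_two_eq_zero_or_one k with e | e
        · rw [Nat.cast_ofNat, e, zpow_zero] at hac
          exact E.z_ne_one (isConj_one_left.mp hac)
        · rw [Nat.cast_ofNat, e, zpow_one] at hac
          exact hsc hac
      · intro hb
        have := mem_zpowers s
        rw [hb, mem_bot] at this
        rw [this, orderOf_one] at hso; norm_num at hso
    have hgo : orderOf (g * t * g⁻¹) = 2 :=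
      (orderOf_conj' g _).trans ho
    have hgc : ¬ IsConj z (g * t * g⁻¹) := fun h =>
      hc (h.trans (IsConj.symm (isConj_iff.mpr ⟨g, rfl⟩)))
    obtain ⟨h, hh, hS⟩ := E.conj_into_S_in hC (zpowers_le.mpr ht)
      (IsPGroup.of_card (n := 1) (by rw [Nat.card_zpowers, ho, pow_one]))
    have hty : t * (h⁻¹ * z * h) = h⁻¹ * z * h * t := by
      have hc := mem_centralizer_singleton_iff.mp (E.S_le (hS t (mem_zpowers t)))
      calc t * (h⁻¹ * z * h) = h⁻¹ * ((h * t * h⁻¹) * z) * h := by group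
        _ = h⁻¹ * (z * (h * t * h⁻¹)) * h := by rw [hc]
        _ = h⁻¹ * z * h * t := by group
    refine E.move hC hctrl (mul_mem (mul_mem (inv_mem hh) hzH) hh) (hcen _ hg hgo hgc ?_)
      (isConj_iff.mpr ⟨h⁻¹, by rw [inv_inv]⟩)
    rw [mem_centralizer_iff]
    intro a ha
    obtain ⟨k, rfl⟩ := mem_zpowers_iff.mp ha
    refine Commute.zpow_left ?_ k
    change g * t * g⁻¹ * (g * (h⁻¹ * z * h) * g⁻¹) = g * (h⁻¹ * z * h) * g⁻¹ * (g * t * g⁻¹)
    calc g * t * g⁻¹ * (g * (h⁻¹ * z * h) * g⁻¹) = g * (t * (h⁻¹ * z * h)) * g⁻¹ := by group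
      _ = g * (h⁻¹ * z * h * t) * g⁻¹ := by rw [hty]
      _ = _ := by group
  obtain ⟨g0, hg0⟩ : ∃ g, g ∉ H := by
    by_contra h; push_neg at h; exact hne ((eq_top_iff' H).mpr h)
  have hu2 : orderOf (g0 * z * g0⁻¹) = 2 :=
    (orderOf_conj' g0 _).trans hz2
  have huH : g0 * z * g0⁻¹ ∉ H := fun h => hg0 (E.move hC hctrl hzH h (IsConj.refl z))
  obtain ⟨hu, -, hsq, hn1⟩ := invPairs_facts (classRep_mem (show 6 < 8 by norm_num))
  have h6 : orderOf (E.ι (classRep.getD 6 cI)) = 2 := by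
    refine orderOf_two (by rw [← E.map_mul hu hu, hsq, E.map_cI]) fun h => hn1 ?_
    exact E.inj hu isC_cI (h.trans E.map_cI.symm)
  have hconj := (Cfsg.Agent.S1225.result H hse _ hu2 huH z z hz2 hzH hz2 hzH).2 z _ hz2 h6
  have := E.not_six
  rw [(E.pattern_testBit 6).mpr ⟨by norm_num, hconj⟩] at this
  exact Bool.noConfusion this

end Emb

end Cfsg.Agent.H7Held
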