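import Cfsg.Agent.H7Held.Fusion

/-!
The possible fusion patterns.
-/

set_option autoImplicit false

namespace Cfsg.Agent.H7Held

open Subgroup

theorem classRep_mem {c : ℕ} (hc : c < 8) : (classRep.getD c cI, c) ∈ invPairs := by
  have h : ∀ c : Fin 8, (classRep.getD c cI, (c : ℕ)) ∈ repPairs := by decide +kernel
  exact List.mem_append_left _ (h ⟨c, hc⟩)

theorem sqrt_complete {a : ℕ} (ha : isC a = true) :
    (mmul a a = cz → a ∈ sqrtZ) ∧ (mmul a a = classRep.getD 0 cI → a ∈ sqrt0) ∧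
    (mmul a a = classRep.getD 5 cI → a ∈ sqrt5) ∧ mmul a a ≠ classRep.getD 6 cI := by
  simp only [isC, Bool.and_eq_true, Nat.beq_eq] at ha
  have hm : rootMid (midOf a) = true := by
    rcases Nat.lt_or_ge (midOf a) 256 with h | h
    · exact allB_sound rootMid_ok0 _ h
    · obtain ⟨r, hr⟩ := Nat.exists_eq_add_of_le h
      rw [hr]; exact allB_sound rootMid_ok1 r (by have := midOf_lt a; omega)
  simp only [rootMid, ha.2, Bool.not_true, Bool.false_or] at hm
  have h := allB_sound hm _ (qbOf_lt a)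
  simp only [force_eq, ha.1, Bool.and_eq_true, Bool.or_eq_true, Bool.not_eq_true', Nat.beq_eq,
    ← Bool.not_eq_true, List.elem_eq_contains, List.contains_iff_mem] at h
  obtain ⟨⟨⟨h1, h2⟩, h3⟩, h4⟩ := h
  exact ⟨fun e => h1.resolve_left (not_not.mpr e), fun e => h2.resolve_left (not_not.mpr e),
    fun e => h3.resolve_left (not_not.mpr e), h4⟩

theorem sqrtZ_valid {a : ℕ} (h : a ∈ sqrtZ) : isC a = true ∧ mmul a a = cz := by
  have hv := roots_valid.1
  simp only [Bool.and_eq_true, List.all_eq_true, Nat.beq_eq] at hv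
  exact hv.1 a h

theorem mem_zRootsOf {a c : ℕ} : a ∈ zRootsOf c ↔ a ∈ sqrtZ ∧
    mmul a (classRep.getD c cI) = mmul (classRep.getD c cI) a := by
  simp [zRootsOf, List.mem_filter, Nat.beq_eq]

theorem root_count {c : ℕ} (hc : c < 8) :
    (zRootsOf c).length = [16, 48, 8, 48, 8, 32, 16, 224].getD c 0 := by
  rw [← root_counts.1, List.getD_eq_getElem _ _ (by simpa using hc)]
  simp

theorem conj_symm {G : Type*} [Group G] {w u z : G} (h : w * u * w⁻¹ = z) : w⁻¹ * z * w = u := by
  subst h; group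

theorem conj_commute {G : Type*} [Group G] {w u z x : G} (h : w * u * w⁻¹ = z)
    (h1 : x * u = u * x) : w * x * w⁻¹ * z = z * (w * x * w⁻¹) := by
  subst h
  simp only [mul_assoc, inv_mul_cancel_left]
  rw [← mul_assoc x, h1]; simp only [mul_assoc]

namespace Emb

variable {G : Type*} [Group G] [Finite G] {z : G} (E : Emb z)
include E

theorem pattern_seven : E.pattern.testBit 7 = true :=
  (E.pattern_testBit 7).mpr ⟨by norm_num, by rw [zv_ok.2, E.map_cz]⟩

theorem length_le {L M : List ℕ} (hL : L.Nodup) (hLC : ∀ a ∈ L, isC a = true) {w : G}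
    (h : ∀ a ∈ L, ∃ b ∈ M, E.ι b = w * E.ι a * w⁻¹) : L.length ≤ M.length := by
  classical
  rw [← List.toFinset_card_of_nodup hL]
  refine le_trans ?_ (List.toFinset_card_le M)
  refine Finset.card_le_card_of_injOn
    (fun a => if ha : a ∈ L then Classical.choose (h a ha) else 0) ?_ ?_
  · intro a ha
    have ha' : a ∈ L := List.mem_toFinset.mp ha
    simp only [dif_pos ha', Finset.mem_coe, List.mem_toFinset]
    exact (Classical.choose_spec (h a ha')).1
  · intro a ha b hb he
    have ha' : a ∈ L := List.mem_toFinset.mp ha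
    have hb' : b ∈ L := List.mem_toFinset.mp hb
    simp only [dif_pos ha', dif_pos hb'] at he
    have e1 := (Classical.choose_spec (h a ha')).2
    have e2 := (Classical.choose_spec (h b hb')).2
    rw [he, e2] at e1
    exact (E.inj (hLC b hb') (hLC a ha') (mul_left_cancel (mul_right_cancel e1))).symm

/-- the class of an involution in the pattern has a partner with interchanged roots -/
theorem partner {c : ℕ} (hc : c < 7) (h : E.pattern.testBit c = true) :
    ∃ c', c' < 7 ∧ E.pattern.testBit c' = true ∧ ∃ w : G,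
      w * E.ι (classRep.getD c cI) * w⁻¹ = z ∧ w * z * w⁻¹ = E.ι (classRep.getD c' cI) := by
  obtain ⟨hu, -, hu2, hu1⟩ := invPairs_facts (classRep_mem (show c < 8 by omega))
  obtain ⟨g, hg⟩ := isConj_iff.mp ((E.pattern_testBit c).mp h).2.symm
  have hne : classRep.getD c cI ≠ cz := by
    have : ∀ c : Fin 7, classRep.getD c cI ≠ cz := by decide +kernel
    exact this ⟨c, hc⟩
  have hbz : (g * z * g⁻¹) * z = z * (g * z * g⁻¹) := by
    have := E.comm hu
    conv_lhs => rw [show g * z * g⁻¹ * z = g * z * g⁻¹ * (g * E.ι (classRep.getD c cI) * g⁻¹) by rw [hg]]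
    conv_rhs => rw [show z * (g * z * g⁻¹) = g * E.ι (classRep.getD c cI) * g⁻¹ * (g * z * g⁻¹) by rw [hg]]
    simp only [mul_assoc, inv_mul_cancel_left]
    rw [← mul_assoc z, ← this, mul_assoc]
  obtain ⟨b, hb, hbe⟩ := E.surj hbz
  have hb2 : mmul b b = cI := E.inj (isC_mul hb hb) isC_cI (by
    rw [E.map_mul hb hb, E.map_cI, hbe]
    simp only [mul_assoc, inv_mul_cancel_left]
    rw [← mul_assoc z, E.z_sq, one_mul, mul_inv_cancel])
  have hb1 : b ≠ cI := by
    intro e
    rw [e, E.map_cI] at hbe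
    exact E.z_ne_one (conj_eq_one_iff.mp hbe.symm)
  obtain ⟨c', hc', hcl⟩ := exists_cls hb hb2 hb1
  obtain ⟨x, hx, hxe⟩ := E.conj_rep (mem_invPairs hb hc' hcl)
  have hwu : x⁻¹ * g * E.ι (classRep.getD c cI) * (x⁻¹ * g)⁻¹ = z := by
    calc x⁻¹ * g * E.ι (classRep.getD c cI) * (x⁻¹ * g)⁻¹
        = x⁻¹ * (g * E.ι (classRep.getD c cI) * g⁻¹) * x := by group
      _ = z := by rw [hg, mul_assoc, ← hx, inv_mul_cancel_left]
  have hwz : x⁻¹ * g * z * (x⁻¹ * g)⁻¹ = E.ι (classRep.getD c' cI) := by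
    calc x⁻¹ * g * z * (x⁻¹ * g)⁻¹ = x⁻¹ * (g * z * g⁻¹) * x := by group
      _ = _ := by rw [← hbe, hxe]; group
  refine ⟨c', ?_, (E.pattern_testBit c').mpr ⟨hc', ?_⟩, x⁻¹ * g, hwu, hwz⟩
  · by_contra h7
    obtain rfl : c' = 7 := by omega
    rw [zv_ok.2, E.map_cz] at hwz
    apply hne
    refine E.inj hu isC_cz ?_
    rw [E.map_cz]
    exact mul_left_cancel (mul_right_cancel (hwu.trans hwz.symm))
  · exact isConj_iff.mpr ⟨_, hwz⟩

theorem not_six : E.pattern.testBit 6 = false := by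
  rw [← Bool.not_eq_true]
  intro h
  obtain ⟨c', hc', -, w, hwu, hwz⟩ := E.partner (by norm_num) h
  have hlen := root_count (show c' < 8 by omega)
  obtain ⟨y, hy⟩ : ∃ y, y ∈ zRootsOf c' := by
    apply List.exists_mem_of_length_pos
    rw [hlen]
    interval_cases c' <;> norm_num
  obtain ⟨hyz, hyc⟩ := mem_zRootsOf.mp hy
  obtain ⟨hyC, hy2⟩ := sqrtZ_valid hyz
  obtain ⟨hu, -, -, -⟩ := invPairs_facts (classRep_mem (show 6 < 8 by norm_num))
  obtain ⟨hu', -, -, -⟩ := invPairs_facts (classRep_mem (show c' < 8 by omega))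
  have hxz : (w⁻¹ * E.ι y * w) * z = z * (w⁻¹ * E.ι y * w) := by
    have h1 : E.ι y * E.ι (classRep.getD c' cI) = E.ι (classRep.getD c' cI) * E.ι y := by
      rw [← E.map_mul hyC hu', hyc, E.map_mul hu' hyC]
    rw [← hwz] at h1
    calc w⁻¹ * E.ι y * w * z = w⁻¹ * (E.ι y * (w * z * w⁻¹)) * w := by group
      _ = w⁻¹ * (w * z * w⁻¹ * E.ι y) * w := by rw [h1]
      _ = _ := by group
  obtain ⟨x, hx, hxe⟩ := E.surj hxz
  apply (sqrt_complete hx).2.2.2
  apply E.inj (isC_mul hx hx) hu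
  rw [E.map_mul hx hx, hxe, show w⁻¹ * E.ι y * w * (w⁻¹ * E.ι y * w) = w⁻¹ * (E.ι y * E.ι y) * w by group,
    ← E.map_mul hyC hyC, hy2, E.map_cz]
  exact conj_symm hwu

theorem partner_back {c' : ℕ} {w : G} (hwu : w * E.ι (classRep.getD 5 cI) * w⁻¹ = z)
    (hwz : w * z * w⁻¹ = E.ι (classRep.getD c' cI)) (hc : c' = 1 ∨ c' = 3 ∨ c' = 5) : False := by
  have hc8 : c' < 8 := by omega
  obtain ⟨hu, -, -, -⟩ := invPairs_facts (classRep_mem (show 5 < 8 by norm_num))
  obtain ⟨hu', -, -, -⟩ := invPairs_facts (classRep_mem hc8)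
  have hle : (zRootsOf c').length ≤ sqrt5.length := by
    refine E.length_le (List.Nodup.filter _ roots_valid.2.1)
      (fun a ha => (sqrtZ_valid (mem_zRootsOf.mp ha).1).1) (w := w⁻¹) fun y hy => ?_
    obtain ⟨hyz, hyc⟩ := mem_zRootsOf.mp hy
    obtain ⟨hyC, hy2⟩ := sqrtZ_valid hyz
    have hxz : (w⁻¹ * E.ι y * w) * z = z * (w⁻¹ * E.ι y * w) := by
      have h1 : E.ι y * E.ι (classRep.getD c' cI) = E.ι (classRep.getD c' cI) * E.ι y := by
        rw [← E.map_mul hyC hu', hyc, E.map_mul hu' hyC]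
      rw [← hwz] at h1
      calc w⁻¹ * E.ι y * w * z = w⁻¹ * (E.ι y * (w * z * w⁻¹)) * w := by group
        _ = w⁻¹ * (w * z * w⁻¹ * E.ι y) * w := by rw [h1]
        _ = _ := by group
    obtain ⟨x, hx, hxe⟩ := E.surj hxz
    refine ⟨x, (sqrt_complete hx).2.2.1 ?_, by rw [hxe, inv_inv]⟩
    apply E.inj (isC_mul hx hx) hu
    rw [E.map_mul hx hx, hxe,
      show w⁻¹ * E.ι y * w * (w⁻¹ * E.ι y * w) = w⁻¹ * (E.ι y * E.ι y) * w by group,
      ← E.map_mul hyC hyC, hy2, E.map_cz]
    exact conj_symm hwu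
  have lc := root_count hc8
  have ls := root_counts.2.2.1
  rcases hc with rfl | rfl | rfl <;> simp only [List.getD_cons_succ, List.getD_cons_zero] at lc <;> omega

theorem not_five : E.pattern.testBit 5 = false := by
  rw [← Bool.not_eq_true]
  intro h
  obtain ⟨c', hc', -, w, hwu, hwz⟩ := E.partner (by norm_num) h
  obtain ⟨hu, -, -, -⟩ := invPairs_facts (classRep_mem (show 5 < 8 by norm_num))
  obtain ⟨hu', -, -, -⟩ := invPairs_facts (classRep_mem (show c' < 8 by omega))
  have back : ∀ {x}, isC x = true →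
      mmul x (classRep.getD 5 cI) = mmul (classRep.getD 5 cI) x →
      ∃ b, isC b = true ∧ E.ι b = w * E.ι x * w⁻¹ := by
    intro x hx hxu
    refine (E.surj ?_).imp fun b hb => hb
    have h1 : E.ι x * E.ι (classRep.getD 5 cI) = E.ι (classRep.getD 5 cI) * E.ι x := by
      rw [← E.map_mul hx hu, hxu, E.map_mul hu hx]
    exact conj_commute hwu h1
  have h5 : ∀ a ∈ sqrt5, isC a = true ∧ mmul a a = classRep.getD 5 cI := by
    intro a ha
    have hv := roots_valid.1
    simp only [Bool.and_eq_true, List.all_eq_true, Nat.beq_eq] at hv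
    exact hv.2 a ha
  have hle1 : sqrt5.length ≤ (zRootsOf c').length := by
    refine E.length_le roots_valid.2.2 (fun a ha => (h5 a ha).1) (w := w) fun a ha => ?_
    obtain ⟨haC, ha2⟩ := h5 a ha
    obtain ⟨b, hb, hbe⟩ := back haC (by rw [← ha2, mmul_assoc])
    refine ⟨b, mem_zRootsOf.mpr ⟨(sqrt_complete hb).1 ?_, ?_⟩, hbe⟩
    · apply E.inj (isC_mul hb hb) isC_cz
      rw [E.map_mul hb hb, E.map_cz, hbe,
        show w * E.ι a * w⁻¹ * (w * E.ι a * w⁻¹) = w * (E.ι a * E.ι a) * w⁻¹ by group,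
        ← E.map_mul haC haC, ha2]
      exact hwu
    · apply E.inj (isC_mul hb hu') (isC_mul hu' hb)
      rw [E.map_mul hb hu', E.map_mul hu' hb, hbe, ← hwz,
        show w * E.ι a * w⁻¹ * (w * z * w⁻¹) = w * (E.ι a * z) * w⁻¹ by group, E.comm haC]
      group
  have hfwd : ∀ a ∈ zRootsOf 5, ∃ b, isC b = true ∧ E.ι b = w * E.ι a * w⁻¹ ∧
      mmul b b = classRep.getD c' cI := by
    intro a ha
    obtain ⟨haz, hau⟩ := mem_zRootsOf.mp ha
    obtain ⟨haC, ha2⟩ := sqrtZ_valid haz
    obtain ⟨b, hb, hbe⟩ := back haC hau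
    refine ⟨b, hb, hbe, ?_⟩
    apply E.inj (isC_mul hb hb) hu'
    rw [E.map_mul hb hb, hbe, ← hwz,
      show w * E.ι a * w⁻¹ * (w * E.ι a * w⁻¹) = w * (E.ι a * E.ι a) * w⁻¹ by group,
      ← E.map_mul haC haC, ha2, E.map_cz]
  have hn5 : (zRootsOf 5).Nodup := List.Nodup.filter _ roots_valid.2.1
  have hC5 : ∀ a ∈ zRootsOf 5, isC a = true := fun a ha => (sqrtZ_valid (mem_zRootsOf.mp ha).1).1
  have l5 := root_count (show 5 < 8 by norm_num)
  have lc := root_count (show c' < 8 by omega)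
  have ls := root_counts.2.2.1
  simp only [List.getD_cons_succ, List.getD_cons_zero] at l5
  interval_cases c'
  · have := E.length_le hn5 hC5 (M := sqrt0) (w := w) fun a ha => by
      obtain ⟨b, hb, hbe, hb2⟩ := hfwd a ha
      exact ⟨b, (sqrt_complete hb).2.1 hb2, hbe⟩
    have := root_counts.2.1
    omega
  · exact absurd (E.partner_back hwu hwz (by norm_num)) id
  · simp only [List.getD_cons_succ, List.getD_cons_zero] at lc; omega
  · exact absurd (E.partner_back hwu hwz (by norm_num)) id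
  · simp only [List.getD_cons_succ, List.getD_cons_zero] at lc; omega
  · exact absurd (E.partner_back hwu hwz (by norm_num)) id
  · obtain ⟨a, ha⟩ : ∃ a, a ∈ zRootsOf 5 := by
      apply List.exists_mem_of_length_pos; omega
    obtain ⟨b, hb, -, hb2⟩ := hfwd a ha
    exact (sqrt_complete hb).2.2.2 hb2

theorem exists_conj_av {n : G} {t : Fin 2} (hn : n ∈ normalizer (E.A t : Set G)) {v : ℕ}
    (hv : v < 64) : ∃ w, w < 64 ∧ n * E.av t v * n⁻¹ = E.av t w := by
  obtain ⟨w, hw, he⟩ := E.mem_A.mp ((mem_normalizer_iff.mp hn _).mp (E.av_mem t hv))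
  exact ⟨w, hw, he.symm⟩

theorem wConst_pattern : wConstZ E.pattern = true := by
  classical
  simp only [wConstZ, List.all_eq_true]
  intro t _
  have hall : ∀ v, v < 64 → (!omegaOf E.pattern t v ||
      Nat.beq (wCount E.pattern t v) (wCount E.pattern t (zv t))) = true := by
    intro v hv
    cases hΩ : omegaOf E.pattern t v
    · rfl
    simp only [Bool.not_true, Bool.false_or, Nat.beq_eq]
    obtain ⟨n, hn, hnz⟩ := E.exists_normalizer_conj hv ((E.omega_iff t hv).mp hΩ)
    choose f hf hfe using fun b (hb : b < 64) => E.exists_conj_av hn hb (t := t)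
    obtain ⟨hzl, hze⟩ := E.z_mem_A t
    have conv : ∀ (p : ℕ → Bool), ((List.range 64).filter p).length =
        ((Finset.range 64).filter fun v => p v = true).card := by
      intro p
      rw [← List.toFinset_card_of_nodup (List.Nodup.filter _ List.nodup_range)]
      congr 1; ext v; simp
    unfold wCount
    rw [conv, conv]
    have hΩiff : ∀ b (hb : b < 64), omegaOf E.pattern t (f b hb) = true ↔
        omegaOf E.pattern t b = true := by
      intro b hb
      rw [E.omega_iff t (hf b hb), E.omega_iff t hb, ← hfe b hb]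
      have hc : IsConj (E.av t b) (n * E.av t b * n⁻¹) := isConj_iff.mpr ⟨n, rfl⟩
      exact ⟨fun h => h.trans hc.symm, fun h => h.trans hc⟩
    have hxor : ∀ b (hb : b < 64), v ^^^ f b hb = f (zv t ^^^ b) (xor_lt_64 hzl hb) := by
      intro b hb
      refine E.av_inj t (xor_lt_64 hv (hf b hb)) (hf _ _) ?_
      rw [← E.av_mul t hv (hf b hb), ← hfe, ← hfe, ← hnz, ← E.av_mul t hzl hb, hze]
      group
    symm
    refine Finset.card_bij (fun b hb => f b (Finset.mem_range.mp (Finset.mem_filter.mp hb).1))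
      ?_ ?_ ?_
    · intro b hb
      obtain ⟨hb, hc⟩ := Finset.mem_filter.mp hb
      rw [Finset.mem_range] at hb
      rw [Bool.and_eq_true] at hc
      refine Finset.mem_filter.mpr ⟨Finset.mem_range.mpr (hf b hb), ?_⟩
      rw [Bool.and_eq_true, hxor b hb]
      exact ⟨(hΩiff b hb).mpr hc.1, (hΩiff _ _).mpr hc.2⟩
    · intro a ha b hb h
      have ha' := Finset.mem_range.mp (Finset.mem_filter.mp ha).1
      have hb' := Finset.mem_range.mp (Finset.mem_filter.mp hb).1
      refine E.av_inj t ha' hb' ?_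
      have h1 := (hfe a ha').trans ((congrArg (E.av t) h).trans (hfe b hb').symm)
      exact mul_left_cancel (mul_right_cancel h1)
    · intro w hw
      obtain ⟨hw, hc⟩ := Finset.mem_filter.mp hw
      rw [Finset.mem_range] at hw
      rw [Bool.and_eq_true] at hc
      obtain ⟨b, hb, he⟩ := E.exists_conj_av (inv_mem hn) hw (t := t)
      have hfb : f b hb = w := E.av_inj t (hf b hb) hw (by rw [← hfe, ← he]; group)
      refine ⟨b, Finset.mem_filter.mpr ⟨Finset.mem_range.mpr hb, ?_⟩, hfb⟩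
      subst hfb
      rw [Bool.and_eq_true]
      rw [hxor b hb] at hc
      exact ⟨(hΩiff b hb).mp hc.1, (hΩiff _ _).mp hc.2⟩
  have gen : ∀ n, n ≤ 64 → allB n (fun v => !omegaOf E.pattern t v ||
      Nat.beq (wCount E.pattern t v) (wCount E.pattern t (zv t))) = true := by
    intro n
    induction n with
    | zero => intro _; rfl
    | succ n ih =>
      intro hn
      simp only [allB, force_eq, Bool.and_eq_true]
      exact ⟨hall n (by omega), ih (by omega)⟩
  exact gen 64 le_rfl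

theorem pattern_cases : E.pattern = 128 ∨ E.pattern = 130 ∨ E.pattern = 136 ∨ E.pattern = 139 ∨
    E.pattern = 143 ∨ E.pattern = 155 ∨ E.pattern = 159 := by
  have h := allB_sound pattern_ok _ E.pattern_lt
  simp only [E.pattern_seven, E.not_five, E.not_six, E.wConst_pattern, Bool.not_true,
    Bool.false_or] at h
  simpa using h

end Emb

end Cfsg.Agent.H7Held
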