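import Cfsg.Agent.H7Held.Basic

/-!
Generated: square roots of some involutions in the coded centraliser.
-/

set_option autoImplicit false

namespace Cfsg.Agent.H7Held

/-- all square roots: sqrtZ -/
def sqrtZ : List ℕ := [
  17044035, 17175107, 17568323, 17699395, 16917059, 17508931, 17052227, 17578563,
  17060419, 17257027, 17584707, 17781315, 17457731, 17001027, 17068611, 17594947,
  17059909, 17125445, 17584197, 17649733, 16863493, 17060165, 17518981, 17584581,
  17060421, 17257029, 17584709, 17781317, 17388293, 17060677, 16995205, 17585093,
  17059911, 17125447, 17584199, 17649735, 16873735, 17068359, 17590663, 17457607,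
  17044039, 17175111, 17568327, 17699399, 17382151, 17052487, 17574791, 16917447,
  17567817, 17569865, 17584201, 17586249, 17565833, 17567945, 17590665, 17584585,
  17568329, 17578569, 17584713, 17594953, 17582729, 17568457, 17574793, 17585097,
  17567819, 17569867, 17584203, 17586251, 17762443, 17699019, 17518987, 17457611,
  17044043, 17052235, 17060427, 17068619, 17255051, 17175243, 16995211, 16917451,
  17567821, 17635405, 17059917, 17127501, 17762445, 17567949, 16873741, 17060173,
  17568333, 17508941, 17060429, 17001037, 17255053, 17568461, 17382157, 17060685,
  17567823, 17635407, 17059919, 17127503, 17565839, 17699023, 16863503, 17068367,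
  17044047, 16917071, 17584719, 17457743, 17582735, 17175247, 17388303, 17052495,
  17044051, 17175123, 17568339, 17699411, 16917075, 17508947, 17052243, 17578579,
  17060435, 17257043, 17584723, 17781331, 17457747, 17001043, 17068627, 17594963,
  17059925, 17125461, 17584213, 17649749, 16863509, 17060181, 17518997, 17584597,
  17060437, 17257045, 17584725, 17781333, 17388309, 17060693, 16995221, 17585109,
  17059927, 17125463, 17584215, 17649751, 16873751, 17068375, 17590679, 17457623,
  17044055, 17175127, 17568343, 17699415, 17382167, 17052503, 17574807, 16917463,
  17567833, 17569881, 17584217, 17586265, 17565849, 17567961, 17590681, 17584601,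
  17568345, 17578585, 17584729, 17594969, 17582745, 17568473, 17574809, 17585113,
  17567835, 17569883, 17584219, 17586267, 17762459, 17699035, 17519003, 17457627,
  17044059, 17052251, 17060443, 17068635, 17255067, 17175259, 16995227, 16917467,
  17567837, 17635421, 17059933, 17127517, 17762461, 17567965, 16873757, 17060189,
  17568349, 17508957, 17060445, 17001053, 17255069, 17568477, 17382173, 17060701,
  17567839, 17635423, 17059935, 17127519, 17565855, 17699039, 16863519, 17068383,
  17044063, 16917087, 17584735, 17457759, 17582751, 17175263, 17388319, 17052511]

/-- all square roots: sqrt0 -/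
def sqrt0 : List ℕ := [
  17174849, 17174977, 17175361, 17175489, 17174853, 17174981, 17175365, 17175493,
  17174865, 17174993, 17175377, 17175505, 17174869, 17174997, 17175381, 17175509]

/-- all square roots: sqrt5 -/
def sqrt5 : List ℕ := [
  17060035, 17584323, 17060551, 17584839, 17060043, 17584843, 17584335, 17060559,
  17060051, 17584339, 17060567, 17584855, 17060059, 17584859, 17584351, 17060575]

/-- all square roots: sqrt6 -/
def sqrt6 : List ℕ := [
  ]

end Cfsg.Agent.H7Held
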