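import Cfsg.Agent.H7Held.SubChecks

/-!
The Sylow 2-subgroup `S` and its elementary subgroups `A₁`, `A₂`, inside the group.
-/

set_option autoImplicit false

namespace Cfsg.Agent.H7Held

open Subgroup

theorem isC_of_isS {a : ℕ} (h : isS a = true) : isC a = true := by
  simp only [isS, Bool.and_eq_true] at h; exact h.1.1.1

theorem isS_cI : isS cI = true := by decide +kernel

theorem isC_pat {a : ℕ} (h : isC a = true) : patOK a = true := by
  simp only [isC, Bool.and_eq_true, Nat.beq_eq] at h; rw [← h.1]; exact pat_mkC _ _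

theorem isS_mul {a b : ℕ} (ha : isS a = true) (hb : isS b = true) : isS (mmul a b) = true := by
  have hca := isC_of_isS ha; have hcb := isC_of_isS hb
  have pa := isC_pat hca; have pb := isC_pat hcb
  simp only [isS, Bool.and_eq_true, Bool.not_eq_true'] at ha hb ⊢
  simp only [patOK, Bool.and_eq_true, Bool.not_eq_true'] at pa pb
  obtain ⟨⟨⟨⟨⟨⟨⟨⟨-, a5⟩, a10⟩, a15⟩, -⟩, a21⟩, a22⟩, a23⟩, -⟩ := pa
  obtain ⟨⟨⟨⟨⟨⟨⟨⟨-, b5⟩, b10⟩, b15⟩, b20⟩, b21⟩, b22⟩, b23⟩, -⟩ := pb
  obtain ⟨⟨⟨-, a11⟩, a16⟩, a17⟩ := ha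
  obtain ⟨⟨⟨-, b11⟩, b16⟩, b17⟩ := hb
  refine ⟨⟨⟨isC_mul hca hcb, ?_⟩, ?_⟩, ?_⟩
  · have := testBit_mmul a b 2 1
    simpa [a10, a11, b11, b16, b21] using this
  · have := testBit_mmul a b 3 1
    simpa [a15, a16, a17, b11, b16, b21] using this
  · have := testBit_mmul a b 3 2
    simpa [a15, a16, a17, b17, b22] using this

/-- the elements of the Sylow 2-subgroup -/
def sElems : List ℕ := (uMids ×ˢ List.range 128).map fun p => mkC p.1 p.2

theorem mem_uMids {m : ℕ} : m ∈ uMids ↔ m < 512 ∧ midOK m = true ∧ m.testBit 3 = false ∧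
    m.testBit 6 = false ∧ m.testBit 7 = false := by
  simp [uMids, List.mem_filter, and_assoc]

theorem midOf_bits (a : ℕ) : (midOf a).testBit 3 = a.testBit 11 ∧
    (midOf a).testBit 6 = a.testBit 16 ∧ (midOf a).testBit 7 = a.testBit 17 := by
  have h7 : ∀ j, (7 : ℕ).testBit j = decide (j < 3) := fun j => by
    rw [show (7 : ℕ) = 2 ^ 3 - 1 from rfl, Nat.testBit_two_pow_sub_one]
  have r : ∀ i j, j < 5 → (rowc a i).testBit j = a.testBit (5 * i + j) :=
    fun i j hj => testBit_rowc a i hj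
  simp [midOf, Nat.testBit_or, Nat.testBit_shiftLeft, Nat.testBit_and, Nat.testBit_shiftRight, h7, r]

theorem mem_sElems {a : ℕ} : a ∈ sElems ↔ isS a = true := by
  simp only [sElems, List.mem_map, List.mem_product, List.mem_range, Prod.exists, mem_uMids]
  constructor
  · rintro ⟨m, q, ⟨hm, hq⟩, rfl⟩
    have h := List.all_eq_true.mp sPass_ok m (mem_uMids.mpr hm)
    have h2 := allB_sound h q hq
    simp only [force_eq, Bool.and_eq_true] at h2
    exact h2.1.1
  · intro h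
    have hC := isC_of_isS h
    simp only [isS, Bool.and_eq_true, Bool.not_eq_true'] at h
    simp only [isC, Bool.and_eq_true, Nat.beq_eq] at hC
    obtain ⟨e1, e2, e3⟩ := midOf_bits a
    exact ⟨midOf a, qbOf a, ⟨⟨midOf_lt a, hC.2, by rw [e1]; exact h.1.1.2, by rw [e2]; exact h.1.2,
      by rw [e3]; exact h.2⟩, qbOf_lt a⟩, hC.1⟩

theorem nodup_mk {l : List ℕ} (hl : l.Nodup) (h : ∀ m ∈ l, m < 512 ∧ midOK m = true) :
    ((l ×ˢ List.range 128).map fun p => mkC p.1 p.2).Nodup := by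
  refine List.Nodup.map_on ?_ (hl.product List.nodup_range)
  rintro ⟨m, q⟩ h1 ⟨m', q'⟩ h2 he
  simp only [List.mem_product, List.mem_range] at h1 h2
  have r1 := mkC_roundtrip (h m h1.1).2 (h m h1.1).1 h1.2
  have r2 := mkC_roundtrip (h m' h2.1).2 (h m' h2.1).1 h2.2
  simp only at he
  rw [he] at r1
  exact Prod.ext (r1.1.symm.trans r2.1) (r1.2.symm.trans r2.2)

/-- the elements of the centraliser -/
def cElems : List ℕ := (mids ×ˢ List.range 128).map fun p => mkC p.1 p.2

theorem mem_cElems {a : ℕ} : a ∈ cElems ↔ isC a = true := by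
  simp only [cElems, mids, List.mem_map, List.mem_product, List.mem_range, Prod.exists,
    List.mem_filter]
  constructor
  · rintro ⟨m, q, ⟨⟨hm, hok⟩, hq⟩, rfl⟩
    obtain ⟨e1, e2⟩ := mkC_roundtrip hok hm hq
    simp [isC, e1, e2, hok]
  · intro h
    simp only [isC, Bool.and_eq_true, Nat.beq_eq] at h
    exact ⟨_, _, ⟨⟨midOf_lt a, h.2⟩, qbOf_lt a⟩, h.1⟩

theorem sElems_nodup : sElems.Nodup :=
  nodup_mk (List.Nodup.filter _ List.nodup_range) fun _ h =>
    ⟨(mem_uMids.mp h).1, (mem_uMids.mp h).2.1⟩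

theorem cElems_nodup : cElems.Nodup :=
  nodup_mk (List.Nodup.filter _ List.nodup_range) fun m h => by
    simpa [mids, List.mem_filter] using h

theorem sElems_length : sElems.length = 1024 := by
  simp [sElems, List.length_product, uMids_length]

theorem cElems_length : cElems.length = 21504 := by
  simp [cElems, List.length_product, mids_length]

theorem aList_facts (t : Fin 2) : (aList t).length = 64 ∧ aOf t 0 = cI ∧
    (∀ a ∈ aList t, isS a = true) ∧
    ∀ v, v < 64 → (aList t).idxOf (aOf t v) = v ∧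
      ∀ w, w < 64 → mmul (aOf t v) (aOf t w) = aOf t (v ^^^ w) := by
  have h := List.all_eq_true.mp aList_ok t (by fin_cases t <;> simp)
  simp only [Bool.and_eq_true, Nat.beq_eq, List.all_eq_true] at h
  refine ⟨h.1.1.1, h.1.1.2, h.1.2, fun v hv => ?_⟩
  have h2 := allB_sound h.2 v hv
  simp only [Bool.and_eq_true, Nat.beq_eq] at h2
  refine ⟨h2.1, fun w hw => ?_⟩
  simpa using allB_sound h2.2 w hw

theorem aOf_mem (t : Fin 2) {v : ℕ} (hv : v < 64) : aOf t v ∈ aList t := by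
  have hl := (aList_facts t).1
  simp only [aOf, List.getD_eq_getElem?_getD, List.getElem?_eq_getElem (hl ▸ hv), Option.getD_some]
  exact List.getElem_mem _

theorem exists_aOf {t : Fin 2} {a : ℕ} (h : a ∈ aList t) : ∃ v, v < 64 ∧ aOf t v = a := by
  obtain ⟨k, hk, rfl⟩ := List.getElem_of_mem h
  refine ⟨k, (aList_facts t).1 ▸ hk, ?_⟩
  simp [aOf, List.getD_eq_getElem?_getD, List.getElem?_eq_getElem hk]

theorem aOf_isC (t : Fin 2) {v : ℕ} (hv : v < 64) : isC (aOf t v) = true :=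
  isC_of_isS ((aList_facts t).2.2.1 _ (aOf_mem t hv))

theorem xor_lt_64 {v w : ℕ} (hv : v < 64) (hw : w < 64) : v ^^^ w < 64 :=
  Nat.xor_lt_two_pow (n := 6) hv hw

theorem mem_aList_mul (t : Fin 2) {a b : ℕ} (ha : (aList t).elem a = true)
    (hb : (aList t).elem b = true) : (aList t).elem (mmul a b) = true := by
  simp only [List.elem_eq_contains, List.contains_iff_mem] at *
  obtain ⟨v, hv, rfl⟩ := exists_aOf ha
  obtain ⟨w, hw, rfl⟩ := exists_aOf hb
  rw [((aList_facts t).2.2.2 v hv).2 w hw]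
  exact aOf_mem t (xor_lt_64 hv hw)

namespace Emb

variable {G : Type*} [Group G] [Finite G] {z : G} (E : Emb z)
include E

/-- a finite subset closed under products is a subgroup -/
def imgSub (p : ℕ → Bool) (hp : ∀ a, p a = true → isC a = true) (h1 : p cI = true)
    (hmul : ∀ a b, p a = true → p b = true → p (mmul a b) = true) : Subgroup G where
  carrier := E.ι '' {a | p a = true}
  mul_mem' := by
    rintro _ _ ⟨a, ha, rfl⟩ ⟨b, hb, rfl⟩
    exact ⟨mmul a b, hmul a b ha hb, E.map_mul (hp a ha) (hp b hb)⟩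
  one_mem' := ⟨cI, h1, E.map_cI⟩
  inv_mem' := by
    intro g hg
    have key : ∀ n : ℕ, g ^ n ∈ E.ι '' {a | p a = true} := by
      intro n
      induction n with
      | zero => exact ⟨cI, h1, by rw [E.map_cI, pow_zero]⟩
      | succ n ih =>
        obtain ⟨a, ha, hag⟩ := ih
        obtain ⟨b, hb, rfl⟩ := hg
        exact ⟨mmul a b, hmul a b ha hb, by rw [E.map_mul (hp a ha) (hp b hb), hag, pow_succ]⟩
    have he : g⁻¹ = g ^ (orderOf g - 1) := by
      apply inv_eq_of_mul_eq_one_right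
      rw [← pow_succ', Nat.sub_add_cancel (orderOf_pos g), pow_orderOf_eq_one]
    rw [he]; exact key _

theorem card_image (L : List ℕ) (hL : ∀ a ∈ L, isC a = true) (hn : L.Nodup) (K : Subgroup G)
    (hK : ∀ g, g ∈ K ↔ ∃ a ∈ L, E.ι a = g) : Nat.card K = L.length := by
  classical
  have hset : (K : Set G) = ↑(L.toFinset.image E.ι) := by
    ext g; simp [hK]
  rw [← SetLike.coe_sort_coe, Nat.card_coe_set_eq, hset, Set.ncard_coe_finset,
    Finset.card_image_of_injOn, List.toFinset_card_of_nodup hn]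
  intro a ha b hb h
  simp only [Finset.mem_coe, List.mem_toFinset] at ha hb
  exact E.inj (hL a ha) (hL b hb) h

theorem card_centralizer : Nat.card (centralizer ({z} : Set G)) = 21504 := by
  rw [E.card_image cElems (fun a h => mem_cElems.mp h) cElems_nodup _ (fun g => ?_), cElems_length]
  rw [mem_centralizer_singleton_iff]
  constructor
  · intro h; obtain ⟨a, ha, rfl⟩ := E.surj h; exact ⟨a, mem_cElems.mpr ha, rfl⟩
  · rintro ⟨a, ha, rfl⟩; exact E.comm (mem_cElems.mp ha)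

/-- the Sylow 2-subgroup -/
def S : Subgroup G :=
  E.imgSub isS (fun _ h => isC_of_isS h) isS_cI (fun _ _ ha hb => isS_mul ha hb)

theorem mem_S {g : G} : g ∈ E.S ↔ ∃ a, isS a = true ∧ E.ι a = g := Iff.rfl

theorem card_S : Nat.card E.S = 2 ^ 10 := by
  rw [E.card_image sElems (fun a h => isC_of_isS (mem_sElems.mp h)) sElems_nodup _ (fun g => ?_),
    sElems_length]
  · norm_num
  · constructor
    · rintro ⟨a, ha, rfl⟩; exact ⟨a, mem_sElems.mpr ha, rfl⟩
    · rintro ⟨a, ha, rfl⟩; exact ⟨a, mem_sElems.mp ha, rfl⟩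

theorem S_le : E.S ≤ centralizer ({z} : Set G) := by
  rintro _ ⟨a, ha, rfl⟩; exact E.mem_centralizer (isC_of_isS ha)

/-- the elementary subgroups of order 64 -/
def A (t : Fin 2) : Subgroup G :=
  E.imgSub (fun a => (aList t).elem a)
    (fun a h => isC_of_isS ((aList_facts t).2.2.1 a (by simpa using h)))
    (by
      simp only [List.elem_eq_contains, List.contains_iff_mem]
      rw [← (aList_facts t).2.1]; exact aOf_mem t (by norm_num))
    (fun _ _ ha hb => mem_aList_mul t ha hb)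

theorem mem_A {t : Fin 2} {g : G} : g ∈ E.A t ↔ ∃ v, v < 64 ∧ E.ι (aOf t v) = g := by
  constructor
  · rintro ⟨a, ha, rfl⟩
    obtain ⟨v, hv, rfl⟩ := exists_aOf (by simpa using ha : a ∈ aList t)
    exact ⟨v, hv, rfl⟩
  · rintro ⟨v, hv, rfl⟩
    exact ⟨aOf t v, by simpa using aOf_mem t hv, rfl⟩

/-- the vector map -/
def av (t : Fin 2) (v : ℕ) : G := E.ι (aOf t v)

theorem av_mul (t : Fin 2) {v w : ℕ} (hv : v < 64) (hw : w < 64) :
    E.av t v * E.av t w = E.av t (v ^^^ w) := by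
  unfold av
  rw [← E.map_mul (aOf_isC t hv) (aOf_isC t hw), ((aList_facts t).2.2.2 v hv).2 w hw]

theorem av_inj (t : Fin 2) {v w : ℕ} (hv : v < 64) (hw : w < 64) (h : E.av t v = E.av t w) :
    v = w := by
  have h' := E.inj (aOf_isC t hv) (aOf_isC t hw) h
  rw [← ((aList_facts t).2.2.2 v hv).1, h', ((aList_facts t).2.2.2 w hw).1]

theorem av_mem (t : Fin 2) {v : ℕ} (hv : v < 64) : E.av t v ∈ E.A t := E.mem_A.mpr ⟨v, hv, rfl⟩

theorem A_le (t : Fin 2) : E.A t ≤ E.S := by
  intro g hg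
  obtain ⟨v, hv, rfl⟩ := E.mem_A.mp hg
  exact ⟨_, (aList_facts t).2.2.1 _ (aOf_mem t hv), rfl⟩

theorem card_A (t : Fin 2) : Nat.card (E.A t) = 64 := by
  have e : Fin 64 ≃ E.A t := Equiv.ofBijective (fun v => ⟨E.av t v, E.av_mem t v.isLt⟩)
    ⟨fun v w h => Fin.ext (E.av_inj t v.isLt w.isLt (congrArg Subtype.val h)), fun g => by
      obtain ⟨v, hv, hg⟩ := E.mem_A.mp g.2
      exact ⟨⟨v, hv⟩, Subtype.ext hg⟩⟩
  rw [← Nat.card_congr e, Nat.card_fin]

theorem A_comm (t : Fin 2) {g h : G} (hg : g ∈ E.A t) (hh : h ∈ E.A t) : g * h = h * g := by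
  obtain ⟨v, hv, rfl⟩ := E.mem_A.mp hg
  obtain ⟨w, hw, rfl⟩ := E.mem_A.mp hh
  rw [← av, ← av, E.av_mul t hv hw, E.av_mul t hw hv, Nat.xor_comm]

theorem A_sq (t : Fin 2) {g : G} (hg : g ∈ E.A t) : g * g = 1 := by
  obtain ⟨v, hv, rfl⟩ := E.mem_A.mp hg
  rw [← av, E.av_mul t hv hv, Nat.xor_self, av, (aList_facts t).2.1, E.map_cI]

end Emb

end Cfsg.Agent.H7Held
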