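import Cfsg.Agent.H7Held.Bridge
import Cfsg.Agent.H7Held.GenericMain
import Cfsg.Agent.H25.Held.Orbit

/-!
A subgroup generated by the centraliser and an outer element is the whole group, given a checked table.
-/

set_option autoImplicit false

namespace Cfsg.Agent.H7Held

open Subgroup

open H95.Held (Spec Outer)
open H25.Held.Orbit (gen)

/-- parameters of an external witness: side, vector, key, automorphism, linear map, word -/
structure ExtPar where
  /-- side -/
  t : Fin 2
  /-- vector -/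
  u : ℕ
  /-- key -/
  k : ℕ
  /-- automorphism -/
  p : List ℕ
  /-- map of the key -/
  h : List ℕ
  /-- word in the letters -/
  w : List ℕ
deriving Inhabited

/-- the tables of affine maps of a side -/
def sideP (S : Spec) (t : Fin 2) : ℕ → List ℕ := if t = 0 then S.pA else S.pB

/-- the letter not allowed on a side -/
def sideSkip (S : Spec) (t : Fin 2) : ℕ := if t = 0 then S.skipOne else S.skipTwo

/-- label of a vector -/
noncomputable def lbl (t : Fin 2) (v : ℕ) : ℕ := (blk t).idxOf (tr (aOf t v))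

/-- the word acts as the automorphism -/
noncomputable def wordChk (S : Spec) (e : ExtPar) : Bool :=
  (e.w.all fun l => Nat.blt l 7 && !Nat.beq l (sideSkip S e.t)) &&
  allB 64 fun v => force (H95.Held.permW (sideP S e.t) e.w 0) fun q0 =>
    Nat.beq (q0 ^^^ H95.Held.permW (sideP S e.t) e.w (lbl e.t v)) (lbl e.t (pOf e.p v))

/-- parameters pass all checks -/
noncomputable def parChk (S : Spec) (e : ExtPar) : Bool :=
  extChk e.t e.p e.h e.u e.k && wordChk S e

/-- every external entry has parameters -/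
noncomputable def covChk (D : ZTable) (par : List ExtPar) (ix : List (ℕ × ℕ)) : Bool :=
  allB D.N fun i => !Nat.beq (D.get i).kind 2 || ix.any fun q => Nat.beq q.1 i &&
    Nat.blt q.2 par.length && !(D.get i).L.elem 8 &&
    extSet (par.getD q.2 default).t (par.getD q.2 default).u (par.getD q.2 default).k (D.get i).L

/-- the two masks agree -/
noncomputable def maskChk (m P : ℕ) : Bool :=
  allB 8 fun c => force (tr (classRep.getD c cI)) fun a =>
    Nat.beq (H98.Held.mm a a) H98.Held.oneC && !Nat.beq a H98.Held.oneC &&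
      (H98.Held.inK m (H98.Held.cls a) == P.testBit c) && Nat.blt (H98.Held.cls a) 8

theorem lbl_facts (t : Fin 2) {v : ℕ} (hv : v < 64) :
    lbl t v < 64 ∧ (blk t).getD (lbl t v) 0 = tr (aOf t v) := by
  have hm := blk_mem t hv
  have hlt : lbl t v < (blk t).length := List.idxOf_lt_length_of_mem hm
  refine ⟨(block_blk t).len ▸ hlt, ?_⟩
  rw [List.getD_eq_getElem _ _ hlt]
  exact List.getElem_idxOf hlt

variable {G : Type*} [Group G] [Finite G] {B : H98.Held.Emb G}

theorem pattern_of_mask {m P : ℕ} (hP : P < 256)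
    (hm : ∀ k < 8, B.IsZ (H98.Held.rep k) ↔ H98.Held.inK m k = true) (hc : maskChk m P = true) :
    (ofEmb B).pattern = P := by
  apply Nat.eq_of_testBit_eq
  intro c
  by_cases hc8 : c < 8
  · have h := allB_sound hc c hc8
    simp only [force_eq, Bool.and_eq_true, Nat.beq_eq, Bool.not_eq_true', ← Bool.not_eq_true,
      beq_iff_eq, Nat.blt_eq] at h
    obtain ⟨⟨⟨h2, hne⟩, hin⟩, hcl⟩ := h
    obtain ⟨hC, -, -, -⟩ := invPairs_facts (classRep_mem hc8)
    rw [Bool.eq_iff_iff, ← hin, (ofEmb B).pattern_testBit, ← hm _ hcl,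
      ← B.isZ_iff (gd_tr hC) h2 hne]
    exact ⟨fun h => h.2, fun h => ⟨hc8, h⟩⟩
  · rw [Nat.testBit_lt_two_pow (lt_of_lt_of_le (ofEmb B).pattern_lt
        (Nat.pow_le_pow_right two_pos (by omega : 8 ≤ c))),
      Nat.testBit_lt_two_pow (lt_of_lt_of_le hP (Nat.pow_le_pow_right two_pos (by omega : 8 ≤ c)))]

variable {S : Spec} {g : G}

theorem conj_word (hok : S.ok = true) (O : Outer B S g) (t : Fin 2) {w : List ℕ}
    (hw : ∀ l ∈ w, l < 7 ∧ l ≠ sideSkip S t) {i : ℕ} (hi : i < 64) :
    ∃ x ∈ gen B g, (H95.Held.permW (sideP S t) w 0 ^^^ H95.Held.permW (sideP S t) w i < 64 ∧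
      x * H95.Held.lab B (blk t) i * x⁻¹ = H95.Held.lab B (blk t)
        (H95.Held.permW (sideP S t) w 0 ^^^ H95.Held.permW (sideP S t) w i)) ∧
      x = H45.evalW (S.el B g) w := by
  have hmem : H45.evalW (S.el B g) w ∈ gen B g := by
    have : ∀ (w : List ℕ), (∀ l ∈ w, l < 7) → H45.evalW (S.el B g) w ∈ gen B g := by
      intro w
      induction w with
      | nil => intro _; exact one_mem _
      | cons a w ih =>
        intro h
        exact mul_mem (H25.Held.Orbit.el_mem hok (h a List.mem_cons_self))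
          (ih fun l hl => h l (List.mem_cons_of_mem _ hl))
    exact this w fun l hl => (hw l hl).1
  refine ⟨_, hmem, ?_, rfl⟩
  fin_cases t
  · exact H25.Held.Orbit.aff_conj (H95.Held.locA B O.disjA).toLab
      ((H95.Held.locA B O.disjA).toLab.aff_word fun l hl =>
        H95.Held.affA_el hok O (hw l hl).1 (hw l hl).2) hi
  · exact H25.Held.Orbit.aff_conj (H95.Held.locB B O.disjB).toLab
      ((H95.Held.locB B O.disjB).toLab.aff_word fun l hl =>
        H95.Held.affB_el hok O (hw l hl).1 (hw l hl).2) hi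

theorem exists_par_action (hok : S.ok = true) (O : Outer B S g) {e : ExtPar}
    (hchk : parChk S e = true) :
    ∃ n, n ∈ gen B g ∧ n ∈ normalizer ((ofEmb B).A e.t : Set G) ∧
      ∀ v, v < 64 → n * (ofEmb B).av e.t v * n⁻¹ = (ofEmb B).av e.t (pOf e.p v) := by
  simp only [parChk, wordChk, Bool.and_eq_true, List.all_eq_true, Nat.blt_eq, Bool.not_eq_true',
    ← Bool.not_eq_true, Nat.beq_eq] at hchk
  obtain ⟨hext, hw, hq⟩ := hchk
  have hp : ∀ v, v < 64 → pOf e.p v < 64 := by
    intro v hv
    simp only [extChk, Bool.and_eq_true] at hext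
    have h := allB_sound hext.1.1.1.1.1.1.1.2 v hv
    simp only [Bool.and_eq_true, Nat.blt_eq] at h
    exact h.1.1.1.1.1.1
  have key : ∀ v, v < 64 → H45.evalW (S.el B g) e.w * (ofEmb B).av e.t v *
      (H45.evalW (S.el B g) e.w)⁻¹ = (ofEmb B).av e.t (pOf e.p v) := by
    intro v hv
    obtain ⟨hl, hle⟩ := lbl_facts e.t hv
    obtain ⟨x, -, ⟨-, hx⟩, rfl⟩ := conj_word hok O e.t hw hl
    have h := allB_sound hq v hv
    simp only [force_eq, Nat.beq_eq] at h
    rw [h] at hx
    simp only [H95.Held.lab, hle, (lbl_facts e.t (hp v hv)).2] at hx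
    exact hx
  obtain ⟨x, hx, -, rfl⟩ := conj_word hok O e.t hw (i := 0) (by norm_num)
  refine ⟨_, hx, ?_, key⟩
  refine mem_normalizer_fintype fun y hy => ?_
  obtain ⟨v, hv, rfl⟩ := (ofEmb B).mem_A.mp hy
  show H45.evalW (S.el B g) e.w * (ofEmb B).av e.t v * (H45.evalW (S.el B g) e.w)⁻¹ ∈ _
  rw [key v hv]
  exact (ofEmb B).av_mem e.t (hp v hv)

theorem gen_eq_top {D : ZTable} {m : ℕ} {par : List ExtPar} {ix : List (ℕ × ℕ)}
    (hok : S.ok = true) (hcover : H25.Held.Orbit.coverOK S m = true) (hmask : maskChk m D.P = true)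
    (hP : D.P < 256) (hz : D.zmOK = true) (hN : 0 < D.N)
    (hall : ∀ i < D.N, D.entryOK i = true) (hpar : ∀ e ∈ par, parChk S e = true)
    (hcov : covChk D par ix = true)
    (hm : ∀ k < 8, B.IsZ (H98.Held.rep k) ↔ H98.Held.inK m k = true) (O : Outer B S g) :
    gen B g = ⊤ := by
  have hpat := pattern_of_mask hP hm hmask
  have hC : centralizer ({B.z} : Set G) ≤ gen B g := le_sup_left
  refine (ofEmb B).eq_top_of_table hz hpat hN hall hC ?_ ?_
  · intro c hc hb
    rw [hpat] at hb
    have h := allB_sound hmask c hc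
    simp only [force_eq, Bool.and_eq_true, Nat.beq_eq, Bool.not_eq_true', ← Bool.not_eq_true,
      beq_iff_eq, Nat.blt_eq] at h
    obtain ⟨⟨⟨h2, hne⟩, hin⟩, hcl⟩ := h
    obtain ⟨hC', -, -, -⟩ := invPairs_facts (classRep_mem hc)
    obtain ⟨x, hx, hxe⟩ := H25.Held.Orbit.conj_rep_mem hok O hcover hcl (hin.trans hb)
    obtain ⟨d, hd, hde⟩ := B.conj_rep (gd_tr hC') h2 hne
    refine ⟨B.lf d * x, mul_mem (hC (B.lf_mem hd)) hx, ?_⟩
    calc B.lf d * x * B.z * (B.lf d * x)⁻¹ = B.lf d * (x * B.z * x⁻¹) * (B.lf d)⁻¹ := by group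
      _ = B.lf (tr (classRep.getD c cI)) := by rw [hxe, hde]
  · intro i hi hk
    have h := allB_sound hcov i hi
    simp only [hk, show Nat.beq 2 2 = true from rfl, Bool.not_true, Bool.false_or, List.any_eq_true,
      Bool.and_eq_true, Nat.beq_eq, Nat.blt_eq, Bool.not_eq_true', ← Bool.not_eq_true,
      List.elem_eq_contains, List.contains_iff_mem] at h
    obtain ⟨q, -, ⟨⟨⟨-, hq⟩, h8⟩, hset⟩⟩ := h
    obtain ⟨hlt, hnd, -, -⟩ := Emb.entry_facts hall hi
    have hmem : par.getD q.2 default ∈ par := by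
      rw [List.getD_eq_getElem _ _ hq]; exact List.getElem_mem _
    have hp := hpar _ hmem
    have hext : extChk (par.getD q.2 default).t (par.getD q.2 default).p (par.getD q.2 default).h
        (par.getD q.2 default).u (par.getD q.2 default).k = true := by
      simp only [parChk, Bool.and_eq_true] at hp; exact hp.1
    refine (ofEmb B).extWitness_of_action hext hset hnd hlt hC ?_ (exists_par_action hok O hp)
    rintro ⟨l, hl, he⟩
    apply h8
    rwa [← (ofEmb B).sv_inj (hlt l hl) (by norm_num) (he.trans (ofEmb B).sv_eight.symm)]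

end Cfsg.Agent.H7Held
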