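import Cfsg.Agent.H7Held.PatChecks

/-!
Checkers for the subgroups of the Sylow 2-subgroup free of conjugates of the involution,
written in keys of the Sylow 2-subgroup.
-/

set_option autoImplicit false

namespace Cfsg.Agent.H7Held

/-- the element of a key -/
def sOf (k : ℕ) : ℕ :=
  mkC (273 ||| (((k >>> 7) &&& 1) <<< 1) ||| (((k >>> 8) &&& 1) <<< 2) |||
    (((k >>> 9) &&& 1) <<< 5)) (k &&& 127)

/-- product on keys, by rows -/
def kMulCore (a b : ℕ) : ℕ :=
  a ^^^ b ^^^
    (bif a.testBit 0 then (((b >>> 7) &&& 3) <<< 1) ||| (((b >>> 4) &&& 1) <<< 3) else 0) ^^^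
    (bif a.testBit 1 then (((b >>> 9) &&& 1) <<< 2) ||| (((b >>> 5) &&& 1) <<< 3) else 0) ^^^
    (bif a.testBit 2 then ((b >>> 6) &&& 1) <<< 3 else 0) ^^^
    (bif a.testBit 7 then (((b >>> 9) &&& 1) <<< 8) ||| (((b >>> 5) &&& 1) <<< 4) else 0) ^^^
    (bif a.testBit 8 then ((b >>> 6) &&& 1) <<< 4 else 0) ^^^
    (bif a.testBit 9 then ((b >>> 6) &&& 1) <<< 5 else 0)

/-- product on keys -/
noncomputable def kMul (a b : ℕ) : ℕ := force a fun a => force b fun b => kMulCore a b

/-- commuting keys -/
noncomputable def kComm (a b : ℕ) : Bool :=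
  force a fun a => force b fun b => Nat.beq (kMul a b) (kMul b a)

/-- bit set of a list of keys -/
def maskK (l : List ℕ) : ℕ := l.foldl (fun M k => M ||| (1 <<< k)) 0

/-- no repetition -/
def ndup : List ℕ → Bool
  | [] => true
  | a :: l => !l.elem a && ndup l

/-- an entry of the table of subgroups -/
structure ZEntry where
  /-- elements -/
  L : List ℕ
  /-- bit set of the elements -/
  lm : ℕ
  /-- bit set containing the centraliser -/
  cw : ℕ
  /-- its members -/
  cl : List ℕ
  /-- a subgroup of index two -/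
  par : ℕ
  /-- an element outside it -/
  gen : ℕ
  /-- cosets, with the entry they generate or `0` -/
  cos : List (ℕ × ℕ)
  /-- sort of witness -/
  kind : ℕ
  /-- witness -/
  wa : ℕ
  /-- witness -/
  wb : ℕ
  /-- witness -/
  wc : ℕ
deriving Inhabited

/-- a table of subgroups -/
structure ZTable where
  /-- pattern -/
  P : ℕ
  /-- its keys -/
  zm : ℕ
  /-- number of entries -/
  N : ℕ
  /-- entries -/
  get : ℕ → ZEntry

namespace ZTable

variable (D : ZTable)

/-- the table of conjugates of `z` agrees with the pattern -/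
noncomputable def zmOK : Bool :=
  allB 1024 fun k => D.zm.testBit k == inPat D.P (sOf k)

/-- counting invariant -/
noncomputable def kcnt (L : List ℕ) (x w : ℕ) : ℕ :=
  (L.filter fun v => force (kMul x v) fun y => D.zm.testBit y && D.zm.testBit (kMul y w)).length

/-- a coset of involution type in the centraliser -/
noncomputable def invW (e : ZEntry) (x : ℕ) : Bool :=
  Nat.blt x 1024 && !e.lm.testBit x && e.lm.testBit (kMul x x) && e.L.all (kComm x)

/-- witness of the contradiction -/
noncomputable def witOK (e : ZEntry) : Bool :=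
  bif Nat.beq e.kind 0 then
    invW e e.wa && invW e e.wb && Nat.blt e.wc 1024 && e.lm.testBit e.wc &&
      !Nat.beq (D.kcnt e.L e.wa e.wc) (D.kcnt e.L e.wb e.wc)
  else bif Nat.beq e.kind 1 then
    invW e e.wa && invW e e.wb && invW e e.wc && !e.lm.testBit (kMul e.wc 8) &&
      force (kMul e.wa e.wb) (fun q => force (kMul q q) fun q2 => force (kMul q2 q2) fun q4 =>
        !e.lm.testBit q2 && e.lm.testBit (kMul q4 q4))
  else Nat.beq e.kind 2 && invW e e.wc && !e.lm.testBit (kMul e.wc 8)

/-- check of the elements and the bit set containing the centraliser -/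
noncomputable def origOK (i : ℕ) : Bool :=
  let e := D.get i
  e.L.all (fun k => Nat.blt k 1024) && ndup e.L && Nat.beq (maskK e.L) e.lm &&
  Nat.beq (maskK e.cl) e.cw &&
  bif Nat.beq i 0 then Nat.beq e.lm 1 && allB 1024 (fun k => e.cw.testBit k) else
    Nat.blt e.par i && Nat.blt e.gen 1024 &&
      force (maskK ((D.get e.par).L.map (kMul e.gen))) (fun M =>
        Nat.beq e.lm ((D.get e.par).lm ||| M)) &&
      (D.get e.par).cl.all fun k => e.cw.testBit k || !kComm k e.gen

/-- check of the extensions -/
noncomputable def extOK (i : ℕ) : Bool :=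
  let e := D.get i
  e.cos.all (fun p => Nat.blt p.1 1024 &&
    bif Nat.beq p.2 0 then e.L.any (fun v => D.zm.testBit (kMul p.1 v))
    else Nat.blt p.2 D.N && force (maskK (e.L.map (kMul p.1))) (fun M =>
      Nat.beq (D.get p.2).lm (e.lm ||| M))) &&
  force (e.cos.foldl (fun U p => U ||| maskK (e.L.map (kMul p.1))) e.lm) fun U =>
    e.cl.all fun k => U.testBit k || !e.lm.testBit (kMul k k)

/-- all checks of an entry -/
noncomputable def entryOK (i : ℕ) : Bool :=
  !Nat.blt i D.N || (D.origOK i && D.extOK i && (Nat.beq i 0 || D.witOK (D.get i)))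

end ZTable

set_option maxRecDepth 100000 in
theorem sOf_ok : allB 1024 (fun k => Nat.beq (sKey (sOf k)) k && isS (sOf k)) = true ∧
    (uMids.all fun m => allB 128 fun q => force (mkC m q) fun a =>
      Nat.blt (sKey a) 1024 && Nat.beq (sOf (sKey a)) a) = true ∧
    sOf 0 = cI ∧ sOf 8 = cz := by
  decide +kernel

end Cfsg.Agent.H7Held
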