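import Cfsg.Agent.H7Held.ZData139

/-!
Checks for a part of the table of pattern 139.
-/

set_option autoImplicit false
set_option maxRecDepth 100000

namespace Cfsg.Agent.H7Held

set_option maxRecDepth 100000 in
theorem zTab139_zm : zTab139.zmOK = true := by decide +kernel

set_option maxRecDepth 100000 in
theorem zTab139_chk0 : allB 64 (fun r => zTab139.entryOK (0 + r)) = true := by decide +kernel

set_option maxRecDepth 100000 in
theorem zTab139_chk1 : allB 64 (fun r => zTab139.entryOK (64 + r)) = true := by decide +kernel

set_option maxRecDepth 100000 in
theorem zTab139_chk2 : allB 64 (fun r => zTab139.entryOK (128 + r)) = true := by decide +kernel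

set_option maxRecDepth 100000 in
theorem zTab139_chk3 : allB 64 (fun r => zTab139.entryOK (192 + r)) = true := by decide +kernel

set_option maxRecDepth 100000 in
theorem zTab139_chk4 : allB 64 (fun r => zTab139.entryOK (256 + r)) = true := by decide +kernel


end Cfsg.Agent.H7Held
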