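import Cfsg.Agent.H7Held.ZCheck
import Cfsg.Agent.H7Held.Pattern

/-!
The table of subgroups of the Sylow 2-subgroup free of conjugates of the involution is complete.
-/

set_option autoImplicit false

namespace Cfsg.Agent.H7Held

open Subgroup

theorem isS_sOf {k : ℕ} (hk : k < 1024) : isS (sOf k) = true ∧ sKey (sOf k) = k := by
  have h := allB_sound sOf_ok.1 k hk
  simp only [Bool.and_eq_true, Nat.beq_eq] at h
  exact ⟨h.2, h.1⟩

theorem sKey_facts {a : ℕ} (ha : isS a = true) : sKey a < 1024 ∧ sOf (sKey a) = a := by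
  obtain ⟨m, hm, q, hq, rfl⟩ : ∃ m ∈ uMids, ∃ q < 128, mkC m q = a := by
    simpa [sElems, List.mem_map, List.mem_product, List.mem_range, and_assoc, eq_comm] using
      mem_sElems.mpr ha
  have h := allB_sound (List.all_eq_true.mp sOf_ok.2.1 m hm) q hq
  simp only [force_eq, Bool.and_eq_true, Nat.blt_eq, Nat.beq_eq] at h
  exact h

/-- the key bit sitting at a matrix position -/
def sBit (k n : ℕ) : Bool :=
  if n ∈ [0, 6, 12, 18, 24] then true else
    match ([(1, 0), (2, 1), (3, 2), (4, 3), (7, 7), (8, 8), (9, 4), (13, 9), (14, 5), (19, 6)] :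
      List (ℕ × ℕ)).lookup n with
    | some i => k.testBit i
    | none => false

set_option maxRecDepth 100000 in
theorem sBit_ok : allB 1024 (fun k => allB 25 fun n => (sOf k).testBit n == sBit k n) = true := by
  decide +kernel

theorem sKey_bit {c : ℕ} (hc : isS c = true) {n i : ℕ} (hn : n < 25)
    (h : ∀ k, sBit k n = k.testBit i) : (sKey c).testBit i = c.testBit n := by
  have hk := (sKey_facts hc).1
  have := allB_sound (allB_sound sBit_ok _ hk) n hn
  simp only [beq_iff_eq] at this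
  rw [← h, ← this, (sKey_facts hc).2]

theorem kMul_eq {a b : ℕ} (ha : a < 1024) (hb : b < 1024) :
    kMul a b = sKey (mmul (sOf a) (sOf b)) := by
  have hS := isS_mul (isS_sOf ha).1 (isS_sOf hb).1
  have hk := (sKey_facts hS).1
  simp only [kMul, force_eq]
  have h1 : ∀ j, (1 : ℕ).testBit j = decide (j = 0) := fun j => by
    rw [show (1 : ℕ) = 2 ^ 0 from rfl, Nat.testBit_two_pow]; simp [eq_comm]
  have h3 : ∀ j, (3 : ℕ).testBit j = decide (j < 2) := fun j => by
    rw [show (3 : ℕ) = 2 ^ 2 - 1 from rfl, Nat.testBit_two_pow_sub_one]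
  have bits : ∀ k, k < 1024 → ∀ n, n < 25 → (sOf k).testBit n = sBit k n := fun k hk n hn => by
    have := allB_sound (allB_sound sBit_ok _ hk) n hn
    simpa using this
  apply Nat.eq_of_testBit_eq
  intro i
  have hz : ∀ (c : Bool) (P : ℕ), (bif c then P else 0).testBit i = (c && P.testBit i) := by
    intro c P; cases c <;> simp
  by_cases hi : i < 10
  · have step : ∀ (r c : Fin 5), (∀ k, sBit k (5 * (r : ℕ) + (c : ℕ)) = k.testBit i) →
        (sKey (mmul (sOf a) (sOf b))).testBit i =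
          ((sBit a (5 * (r : ℕ) + 0) && sBit b (5 * 0 + (c : ℕ))) ^^
           (sBit a (5 * (r : ℕ) + 1) && sBit b (5 * 1 + (c : ℕ))) ^^
           (sBit a (5 * (r : ℕ) + 2) && sBit b (5 * 2 + (c : ℕ))) ^^
           (sBit a (5 * (r : ℕ) + 3) && sBit b (5 * 3 + (c : ℕ))) ^^
           (sBit a (5 * (r : ℕ) + 4) && sBit b (5 * 4 + (c : ℕ)))) := by
      intro r c hs
      rw [sKey_bit hS (show 5 * (r : ℕ) + (c : ℕ) < 25 by omega) hs, testBit_mmul,
        bits a ha _ (show 5 * (r : ℕ) + 0 < 25 by omega),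
        bits a ha _ (show 5 * (r : ℕ) + 1 < 25 by omega), bits a ha _ (show 5 * (r : ℕ) + 2 < 25 by omega),
        bits a ha _ (show 5 * (r : ℕ) + 3 < 25 by omega), bits a ha _ (show 5 * (r : ℕ) + 4 < 25 by omega),
        bits b hb _ (show 5 * 0 + (c : ℕ) < 25 by omega), bits b hb _ (show 5 * 1 + (c : ℕ) < 25 by omega),
        bits b hb _ (show 5 * 2 + (c : ℕ) < 25 by omega), bits b hb _ (show 5 * 3 + (c : ℕ) < 25 by omega),
        bits b hb _ (show 5 * 4 + (c : ℕ) < 25 by omega)]
    interval_cases i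
    · rw [step 0 1 (fun k => rfl)]; simp only [kMulCore, hz, Nat.testBit_xor, Nat.testBit_or, Nat.testBit_shiftLeft, Nat.testBit_and, Nat.testBit_shiftRight, h1, h3]; simp [sBit, List.lookup, -Nat.testBit_zero] <;> grind
    · rw [step 0 2 (fun k => rfl)]; simp only [kMulCore, hz, Nat.testBit_xor, Nat.testBit_or, Nat.testBit_shiftLeft, Nat.testBit_and, Nat.testBit_shiftRight, h1, h3]; simp [sBit, List.lookup, -Nat.testBit_zero] <;> grind
    · rw [step 0 3 (fun k => rfl)]; simp only [kMulCore, hz, Nat.testBit_xor, Nat.testBit_or, Nat.testBit_shiftLeft, Nat.testBit_and, Nat.testBit_shiftRight, h1, h3]; simp [sBit, List.lookup, -Nat.testBit_zero] <;> grind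
    · rw [step 0 4 (fun k => rfl)]; simp only [kMulCore, hz, Nat.testBit_xor, Nat.testBit_or, Nat.testBit_shiftLeft, Nat.testBit_and, Nat.testBit_shiftRight, h1, h3]; simp [sBit, List.lookup, -Nat.testBit_zero] <;> grind
    · rw [step 1 4 (fun k => rfl)]; simp only [kMulCore, hz, Nat.testBit_xor, Nat.testBit_or, Nat.testBit_shiftLeft, Nat.testBit_and, Nat.testBit_shiftRight, h1, h3]; simp [sBit, List.lookup, -Nat.testBit_zero] <;> grind
    · rw [step 2 4 (fun k => rfl)]; simp only [kMulCore, hz, Nat.testBit_xor, Nat.testBit_or, Nat.testBit_shiftLeft, Nat.testBit_and, Nat.testBit_shiftRight, h1, h3]; simp [sBit, List.lookup, -Nat.testBit_zero] <;> grind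
    · rw [step 3 4 (fun k => rfl)]; simp only [kMulCore, hz, Nat.testBit_xor, Nat.testBit_or, Nat.testBit_shiftLeft, Nat.testBit_and, Nat.testBit_shiftRight, h1, h3]; simp [sBit, List.lookup, -Nat.testBit_zero] <;> grind
    · rw [step 1 2 (fun k => rfl)]; simp only [kMulCore, hz, Nat.testBit_xor, Nat.testBit_or, Nat.testBit_shiftLeft, Nat.testBit_and, Nat.testBit_shiftRight, h1, h3]; simp [sBit, List.lookup, -Nat.testBit_zero] <;> grind
    · rw [step 1 3 (fun k => rfl)]; simp only [kMulCore, hz, Nat.testBit_xor, Nat.testBit_or, Nat.testBit_shiftLeft, Nat.testBit_and, Nat.testBit_shiftRight, h1, h3]; simp [sBit, List.lookup, -Nat.testBit_zero] <;> grind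
    · rw [step 2 3 (fun k => rfl)]; simp only [kMulCore, hz, Nat.testBit_xor, Nat.testBit_or, Nat.testBit_shiftLeft, Nat.testBit_and, Nat.testBit_shiftRight, h1, h3]; simp [sBit, List.lookup, -Nat.testBit_zero] <;> grind
  · have hlt : kMulCore a b < 2 ^ 10 := by
      have hp : ∀ (c : Bool) (P : ℕ), P < 2 ^ 10 → (bif c then P else 0) < 2 ^ 10 := by
        intro c P hP; cases c
        · simp
        · simpa using hP
      have hone : ∀ x s, s ≤ 8 → (x &&& 1) <<< s < 2 ^ 10 := by
        intro x s hs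
        rw [Nat.shiftLeft_eq]
        calc (x &&& 1) * 2 ^ s ≤ 1 * 2 ^ 8 :=
              Nat.mul_le_mul Nat.and_le_right (Nat.pow_le_pow_right two_pos hs)
          _ < 2 ^ 10 := by norm_num
      have hthree : ((b >>> 7) &&& 3) <<< 1 < 2 ^ 10 := by
        have : (b >>> 7) &&& 3 ≤ 3 := Nat.and_le_right
        rw [Nat.shiftLeft_eq]; omega
      unfold kMulCore
      refine Nat.xor_lt_two_pow (Nat.xor_lt_two_pow (Nat.xor_lt_two_pow (Nat.xor_lt_two_pow
        (Nat.xor_lt_two_pow (Nat.xor_lt_two_pow (Nat.xor_lt_two_pow (by simpa using ha)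
          (by simpa using hb)) (hp _ _ (Nat.or_lt_two_pow hthree (hone _ _ (by norm_num)))))
        (hp _ _ (Nat.or_lt_two_pow (hone _ _ (by norm_num)) (hone _ _ (by norm_num)))))
        (hp _ _ (hone _ _ (by norm_num))))
        (hp _ _ (Nat.or_lt_two_pow (hone _ _ (by norm_num)) (hone _ _ (by norm_num)))))
        (hp _ _ (hone _ _ (by norm_num)))) (hp _ _ (hone _ _ (by norm_num)))
    have hge : (2 : ℕ) ^ 10 ≤ 2 ^ i := Nat.pow_le_pow_right two_pos (by omega)
    rw [Nat.testBit_lt_two_pow (lt_of_lt_of_le hlt hge),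
      Nat.testBit_lt_two_pow (lt_of_lt_of_le (by simpa using hk) hge)]

theorem kMul_facts {a b : ℕ} (ha : a < 1024) (hb : b < 1024) :
    kMul a b < 1024 ∧ sOf (kMul a b) = mmul (sOf a) (sOf b) := by
  rw [kMul_eq ha hb]
  exact sKey_facts (isS_mul (isS_sOf ha).1 (isS_sOf hb).1)

theorem maskK_testBit (l : List ℕ) (k : ℕ) : (maskK l).testBit k = true ↔ k ∈ l := by
  have key : ∀ (l : List ℕ) (M : ℕ), (l.foldl (fun M k => M ||| (1 <<< k)) M).testBit k = true ↔
      M.testBit k = true ∨ k ∈ l := by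
    intro l
    induction l with
    | nil => intro M; simp
    | cons x l ih =>
      intro M
      rw [List.foldl_cons, ih, Nat.testBit_or, Nat.one_shiftLeft, Nat.testBit_two_pow,
        Bool.or_eq_true, decide_eq_true_eq, List.mem_cons, eq_comm (a := x)]
      tauto
  rw [maskK, key]; simp

theorem foldl_maskK {α : Type} (f : α → List ℕ) : ∀ (l : List α) (M k : ℕ),
    (l.foldl (fun U p => U ||| maskK (f p)) M).testBit k = true →
      M.testBit k = true ∨ ∃ p ∈ l, k ∈ f p
  | [], M, k, h => Or.inl h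
  | p :: l, M, k, h => by
    rcases foldl_maskK f l _ k h with h' | ⟨q, hq, hk⟩
    · rw [Nat.testBit_or, Bool.or_eq_true, maskK_testBit] at h'
      rcases h' with h' | h'
      · exact Or.inl h'
      · exact Or.inr ⟨p, List.mem_cons_self, h'⟩
    · exact Or.inr ⟨q, List.mem_cons_of_mem _ hq, hk⟩

theorem ndup_sound : ∀ {l : List ℕ}, ndup l = true → l.Nodup
  | [], _ => List.nodup_nil
  | a :: l, h => by
    simp only [ndup, Bool.and_eq_true, Bool.not_eq_true', ← Bool.not_eq_true,
      List.elem_eq_contains, List.contains_iff_mem] at h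
    exact List.nodup_cons.mpr ⟨h.1, ndup_sound h.2⟩

namespace Emb

variable {G : Type*} [Group G] {z : G} (E : Emb z)

/-- the element of a key -/
def sv (k : ℕ) : G := E.ι (sOf k)

theorem sv_mul {a b : ℕ} (ha : a < 1024) (hb : b < 1024) : E.sv a * E.sv b = E.sv (kMul a b) := by
  unfold sv
  rw [(kMul_facts ha hb).2, E.map_mul (isC_of_isS (isS_sOf ha).1) (isC_of_isS (isS_sOf hb).1)]

theorem sv_inj {a b : ℕ} (ha : a < 1024) (hb : b < 1024) (h : E.sv a = E.sv b) : a = b := by
  have := E.inj (isC_of_isS (isS_sOf ha).1) (isC_of_isS (isS_sOf hb).1) h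
  rw [← (isS_sOf ha).2, this, (isS_sOf hb).2]

theorem sv_zero : E.sv 0 = 1 := by rw [sv, sOf_ok.2.2.1, E.map_cI]

theorem sv_eight : E.sv 8 = z := by rw [sv, sOf_ok.2.2.2, E.map_cz]

theorem sv_comm {a b : ℕ} (ha : a < 1024) (hb : b < 1024) :
    kComm a b = true ↔ E.sv a * E.sv b = E.sv b * E.sv a := by
  simp only [kComm, force_eq, Nat.beq_eq]
  rw [E.sv_mul ha hb, E.sv_mul hb ha]
  exact ⟨fun h => by rw [h], fun h => E.sv_inj (kMul_facts ha hb).1 (kMul_facts hb ha).1 h⟩

variable [Finite G]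

theorem mem_S_iff {g : G} : g ∈ E.S ↔ ∃ k, k < 1024 ∧ E.sv k = g := by
  constructor
  · rintro ⟨a, ha, rfl⟩
    exact ⟨sKey a, (sKey_facts ha).1, by rw [sv, (sKey_facts ha).2]⟩
  · rintro ⟨k, hk, rfl⟩
    exact ⟨_, (isS_sOf hk).1, rfl⟩

theorem sv_mem {k : ℕ} (hk : k < 1024) : E.sv k ∈ E.S := E.mem_S_iff.mpr ⟨k, hk, rfl⟩

theorem inPat_iff' {a : ℕ} (ha : isC a = true) :
    inPat E.pattern a = true ↔ IsConj z (E.ι a) := by
  by_cases h : mmul a a = cI ∧ a ≠ cI
  · exact E.inPat_iff ha h.1 h.2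
  constructor
  · intro h'
    simp only [inPat, List.any_eq_true, List.mem_range, Bool.and_eq_true] at h'
    obtain ⟨c, hc, -, hcl⟩ := h'
    have := invPairs_facts (mem_invPairs ha hc hcl)
    exact absurd ⟨this.2.2.1, this.2.2.2⟩ h
  · intro hconj
    obtain ⟨g, hg⟩ := isConj_iff.mp hconj
    exfalso
    apply h
    constructor
    · apply E.inj (isC_mul ha ha) isC_cI
      rw [E.map_mul ha ha, E.map_cI, ← hg,
        show g * z * g⁻¹ * (g * z * g⁻¹) = g * (z * z) * g⁻¹ by group, E.z_sq]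
      group
    · intro e
      rw [e, E.map_cI] at hg
      exact E.z_ne_one (conj_eq_one_iff.mp hg)

theorem zm_iff {D : ZTable} (hz : D.zmOK = true) (hP : E.pattern = D.P) {k : ℕ} (hk : k < 1024) :
    D.zm.testBit k = true ↔ IsConj z (E.sv k) := by
  have h := allB_sound hz k hk
  simp only [beq_iff_eq] at h
  rw [h, ← hP]
  exact E.inPat_iff' (isC_of_isS (isS_sOf hk).1)

/-- the set of an entry -/
def setOf (L : List ℕ) : Set G := {g | ∃ k ∈ L, E.sv k = g}

theorem entry_facts {D : ZTable} (hall : ∀ i < D.N, D.entryOK i = true) {i : ℕ} (hi : i < D.N) :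
    (∀ k ∈ (D.get i).L, k < 1024) ∧ (D.get i).L.Nodup ∧
      (∀ k, (D.get i).lm.testBit k = true ↔ k ∈ (D.get i).L) ∧
      (i = 0 ∨ D.witOK (D.get i) = true) := by
  have h := hall i hi
  simp only [ZTable.entryOK, ZTable.origOK, show Nat.blt i D.N = true from by simp [hi],
    Bool.not_true, Bool.false_or, Bool.and_eq_true, Bool.or_eq_true, List.all_eq_true,
    Nat.blt_eq, Nat.beq_eq] at h
  refine ⟨h.1.1.1.1.1.1, ndup_sound h.1.1.1.1.1.2, fun k => ?_, h.2⟩
  rw [← h.1.1.1.1.2, maskK_testBit]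

theorem cl_iff {D : ZTable} (hall : ∀ i < D.N, D.entryOK i = true) {i : ℕ} (hi : i < D.N) (k : ℕ) :
    (D.get i).cw.testBit k = true ↔ k ∈ (D.get i).cl := by
  have h := hall i hi
  simp only [ZTable.entryOK, ZTable.origOK, show Nat.blt i D.N = true from by simp [hi],
    Bool.not_true, Bool.false_or, Bool.and_eq_true, Nat.beq_eq] at h
  rw [← h.1.1.1.2, maskK_testBit]

theorem cw_complete {D : ZTable} (hall : ∀ i < D.N, D.entryOK i = true) :
    ∀ i, i < D.N → ∀ k, k < 1024 → (∀ l ∈ (D.get i).L, E.sv k * E.sv l = E.sv l * E.sv k) →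
      (D.get i).cw.testBit k = true := by
  intro i
  induction i using Nat.strong_induction_on with
  | _ i ih =>
    intro hi k hk hcomm
    obtain ⟨hlt, -, hlm, -⟩ := entry_facts hall hi
    have h := hall i hi
    simp only [ZTable.entryOK, ZTable.origOK, show Nat.blt i D.N = true from by simp [hi],
      Bool.not_true, Bool.false_or, Bool.and_eq_true] at h
    have h1 := h.1.1.2
    by_cases h0 : i = 0
    · subst h0
      simp only [show Nat.beq 0 0 = true from rfl, cond_true, Bool.and_eq_true] at h1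
      exact allB_sound h1.2 k hk
    · rw [show Nat.beq i 0 = false from Bool.eq_false_iff.mpr fun e => h0 (Nat.eq_of_beq_eq_true e)] at h1
      simp only [cond_false, Bool.and_eq_true, force_eq, Nat.blt_eq, Nat.beq_eq] at h1
      obtain ⟨⟨⟨hp, hg⟩, hM⟩, hcw⟩ := h1
      have hpN : (D.get i).par < D.N := hp.trans hi
      obtain ⟨hplt, -, hplm, -⟩ := entry_facts hall hpN
      have hmem : ∀ l, l ∈ (D.get (D.get i).par).L ∨
          l ∈ (D.get (D.get i).par).L.map (kMul (D.get i).gen) → l ∈ (D.get i).L := by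
        intro l hl
        rw [← hlm, hM, Nat.testBit_or, Bool.or_eq_true, hplm, maskK_testBit]
        exact hl
      have hpc := ih _ hp hpN k hk fun l hl => hcomm l (hmem l (Or.inl hl))
      have := List.all_eq_true.mp hcw k ((cl_iff hall hpN k).mp hpc)
      simp only [Bool.or_eq_true, Bool.not_eq_true', ← Bool.not_eq_true] at this
      refine this.resolve_right fun hne => hne ?_
      obtain ⟨l, hl⟩ : ∃ l, l ∈ (D.get (D.get i).par).L := by
        have h' := hall _ hpN
        simp only [ZTable.entryOK, ZTable.origOK,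
          show Nat.blt (D.get i).par D.N = true from by simp [hpN], Bool.not_true, Bool.false_or,
          Bool.and_eq_true] at h'
        apply List.exists_mem_of_ne_nil
        intro hnil
        have h1' := h'.1.1.2
        by_cases hp0 : (D.get i).par = 0
        · simp only [hp0, show Nat.beq 0 0 = true from rfl, cond_true, Bool.and_eq_true,
            Nat.beq_eq] at h1'
          have := (hplm 0).mp (by rw [hp0, h1'.1]; rfl)
          rw [hnil] at this; simp at this
        · obtain ⟨-, -, -, hw⟩ := entry_facts hall hpN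
          have hw := hw.resolve_left hp0
          rw [ZTable.witOK] at hw
          have : ∀ x, ZTable.invW (D.get (D.get i).par) x = true → False := by
            intro x hx
            simp only [ZTable.invW, Bool.and_eq_true, hplm, hnil, List.not_mem_nil] at hx
            exact hx.1.2
          cases hk0 : Nat.beq (D.get (D.get i).par).kind 0 <;>
            simp only [hk0, cond_true, cond_false, Bool.and_eq_true] at hw
          · cases hk1 : Nat.beq (D.get (D.get i).par).kind 1 <;>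
              simp only [hk1, cond_true, cond_false, Bool.and_eq_true] at hw
            · exact this _ hw.1.2
            · exact this _ hw.1.1.1.1
          · exact this _ hw.1.1.1.1
      rw [E.sv_comm hk hg]
      have c1 := hcomm _ (hmem _ (Or.inl hl))
      have c2 := hcomm _ (hmem _ (Or.inr (List.mem_map_of_mem hl)))
      rw [← E.sv_mul hg (hplt l hl)] at c2
      calc E.sv k * E.sv (D.get i).gen
          = E.sv k * (E.sv (D.get i).gen * E.sv l) * (E.sv l)⁻¹ := by group
        _ = E.sv (D.get i).gen * (E.sv l * E.sv k) * (E.sv l)⁻¹ := by rw [c2]; group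
        _ = E.sv (D.get i).gen * E.sv k := by rw [← c1]; group

theorem exists_index_two {W : Subgroup G} (hp : IsPGroup 2 W) (h1 : W ≠ ⊥) :
    ∃ W0 : Subgroup G, W0 < W ∧ ∀ x ∈ W, x ∉ W0 → x * x ∈ W0 ∧
      ∀ y ∈ W, y ∈ W0 ∨ ∃ w ∈ W0, y = x * w := by
  haveI : Fact (Nat.Prime 2) := ⟨Nat.prime_two⟩
  obtain ⟨n, hn⟩ := IsPGroup.iff_card.mp hp
  obtain ⟨m, rfl⟩ : ∃ m, n = m + 1 := by
    refine Nat.exists_eq_add_one.mpr (Nat.pos_of_ne_zero fun h => h1 ?_)
    subst h
    exact W.eq_bot_of_card_eq (by simpa using hn)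
  obtain ⟨K, hK⟩ := Sylow.exists_subgroup_card_pow_prime (G := W) 2
    (n := m) (by rw [hn]; exact pow_dvd_pow 2 (by omega))
  have hidx : K.index = 2 := by
    have h := K.card_mul_index
    rw [hK, hn, pow_succ] at h
    exact mul_left_cancel₀ (by positivity) h
  refine ⟨K.map W.subtype, ?_, ?_⟩
  · refine lt_of_le_of_ne (map_subtype_le _) fun h => ?_
    have h2 := congrArg (fun H : Subgroup G => Nat.card H) h
    simp only [card_map_of_injective W.subtype_injective, hK, hn, pow_succ] at h2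
    have : 0 < 2 ^ m := by positivity
    omega
  intro x hx hxK
  have hxK' : (⟨x, hx⟩ : W) ∉ K := fun h => hxK ⟨_, h, rfl⟩
  have key := fun a b : W => mul_mem_iff_of_index_two hidx (a := a) (b := b)
  refine ⟨⟨⟨x, hx⟩ * ⟨x, hx⟩, (key _ _).mpr Iff.rfl, rfl⟩, fun y hy => ?_⟩
  by_cases hyK : (⟨y, hy⟩ : W) ∈ K
  · exact Or.inl ⟨_, hyK, rfl⟩
  · refine Or.inr ⟨x⁻¹ * y, ⟨⟨x, hx⟩⁻¹ * ⟨y, hy⟩, ?_, rfl⟩, by group⟩
    refine (key _ _).mpr ?_
    rw [inv_mem_iff]
    exact ⟨fun h => absurd h hxK', fun h => absurd h hyK⟩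

/-- the table lists every admissible subgroup -/
theorem table_complete {D : ZTable} (hz : D.zmOK = true) (hP : E.pattern = D.P) (hN : 0 < D.N)
    (hall : ∀ i < D.N, D.entryOK i = true) :
    ∀ (n : ℕ) (W : Subgroup G), Nat.card W ≤ n → W ≤ E.S →
      (∀ a ∈ W, ∀ b ∈ W, a * b = b * a) → (∀ a ∈ W, ¬ IsConj z a) →
      ∃ i, i < D.N ∧ (W : Set G) = E.setOf (D.get i).L ∧ (W ≠ ⊥ → i ≠ 0) := by
  intro n
  induction n with
  | zero => intro W h; exact absurd h (by simp [Nat.card_pos.ne'])
  | succ n ih =>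
    intro W hn hWS hab hfree
    have root : E.setOf (D.get 0).L = {1} := by
      obtain ⟨-, -, hlm, -⟩ := entry_facts hall hN
      have h := hall 0 hN
      simp only [ZTable.entryOK, ZTable.origOK, show Nat.blt 0 D.N = true from by simp [hN],
        show Nat.beq 0 0 = true from rfl, cond_true, Bool.not_true, Bool.false_or,
        Bool.and_eq_true, Nat.beq_eq] at h
      have hl : ∀ k, k ∈ (D.get 0).L ↔ k = 0 := by
        intro k
        rw [← hlm, h.1.1.2.1, show (1 : ℕ) = 2 ^ 0 from rfl, Nat.testBit_two_pow]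
        simp [eq_comm]
      ext g
      simp [setOf, hl, E.sv_zero, eq_comm]
    by_cases h1 : W = ⊥
    · subst h1
      exact ⟨0, hN, by rw [root]; simp, fun h => absurd rfl h⟩
    obtain ⟨W0, hlt, hW0⟩ := exists_index_two (E.S_isPGroup.to_le hWS) h1
    obtain ⟨x, hx, hx0⟩ := SetLike.exists_of_lt hlt
    obtain ⟨hx2, hcov⟩ := hW0 x hx hx0
    have hcard : Nat.card W0 < Nat.card W := by
      refine lt_of_le_of_ne (Subgroup.card_le_of_le hlt.le) fun h => hlt.ne ?_
      exact eq_of_le_of_card_ge hlt.le h.ge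
    obtain ⟨i, hi, hset, -⟩ := ih W0 (by omega) (hlt.le.trans hWS)
      (fun a ha b hb => hab a (hlt.le ha) b (hlt.le hb)) (fun a ha => hfree a (hlt.le ha))
    obtain ⟨k, hk, rfl⟩ := E.mem_S_iff.mp (hWS hx)
    obtain ⟨hLlt, -, hlm, -⟩ := entry_facts hall hi
    have hmem : ∀ {g : G}, g ∈ W0 ↔ ∃ l ∈ (D.get i).L, E.sv l = g := by
      intro g; rw [← SetLike.mem_coe, hset]; rfl
    have hcw := E.cw_complete hall i hi k hk fun l hl =>
      hab _ hx _ (hlt.le (hmem.mpr ⟨l, hl, rfl⟩))
    have h := hall i hi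
    simp only [ZTable.entryOK, ZTable.extOK, show Nat.blt i D.N = true from by simp [hi],
      Bool.not_true, Bool.false_or, Bool.and_eq_true, List.all_eq_true, force_eq] at h
    obtain ⟨hcos, hU⟩ := h.1.2
    have hk' := hU k ((cl_iff hall hi k).mp hcw)
    simp only [Bool.or_eq_true, Bool.not_eq_true', ← Bool.not_eq_true, hlm] at hk'
    have hU' := hk'.resolve_right fun hne => hne (by
      obtain ⟨l, hl, he⟩ := hmem.mp hx2
      rwa [← E.sv_inj (hLlt l hl) (kMul_facts hk hk).1 (he.trans (E.sv_mul hk hk))])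
    rcases foldl_maskK (fun p : ℕ × ℕ => (D.get i).L.map (kMul p.1)) _ _ _ hU' with
      hkW | ⟨⟨r, j⟩, hp, hkr⟩
    · exact absurd (hmem.mpr ⟨k, (hlm k).mp hkW, rfl⟩) hx0
    obtain ⟨l0, hl0, rfl⟩ := List.mem_map.mp hkr
    obtain ⟨hr, htag⟩ := hcos _ hp
    simp only [Nat.blt_eq] at hr htag
    simp only at hl0 hx hx0 hx2 hcov hk
    rw [← E.sv_mul hr (hLlt l0 hl0)] at hx hx0 hcov
    have hl0W : E.sv l0 ∈ W0 := hmem.mpr ⟨l0, hl0, rfl⟩
    have hrW : E.sv r ∈ W := by
      have := mul_mem hx (inv_mem (hlt.le hl0W))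
      rwa [mul_inv_cancel_right] at this
    by_cases hj : j = 0
    · subst hj
      simp only [show Nat.beq 0 0 = true from rfl, cond_true, List.any_eq_true] at htag
      obtain ⟨v, hv, hvz⟩ := htag
      rw [E.zm_iff hz hP (kMul_facts hr (hLlt v hv)).1, ← E.sv_mul hr (hLlt v hv)] at hvz
      exact absurd hvz (hfree _ (mul_mem hrW (hlt.le (hmem.mpr ⟨v, hv, rfl⟩))))
    · rw [show Nat.beq j 0 = false from Bool.eq_false_iff.mpr fun e => hj (Nat.eq_of_beq_eq_true e)] at htag
      simp only [cond_false, Bool.and_eq_true, Nat.beq_eq, force_eq, Nat.blt_eq] at htag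
      obtain ⟨hjN, hjlm⟩ := htag
      obtain ⟨-, -, hjmem, -⟩ := entry_facts hall hjN
      refine ⟨j, hjN, ?_, fun _ => hj⟩
      ext g
      simp only [SetLike.mem_coe, setOf, Set.mem_setOf_eq, ← hjmem, hjlm, Nat.testBit_or,
        Bool.or_eq_true, hlm, maskK_testBit, List.mem_map]
      constructor
      · intro hg
        rcases hcov g hg with hg0 | ⟨w, hw, rfl⟩
        · obtain ⟨l, hl, he⟩ := hmem.mp hg0
          exact ⟨l, Or.inl hl, he⟩
        · obtain ⟨l, hl, he⟩ := hmem.mp (mul_mem hl0W hw)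
          refine ⟨kMul r l, Or.inr ⟨l, hl, rfl⟩, ?_⟩
          rw [← E.sv_mul hr (hLlt l hl), he, mul_assoc]
      · rintro ⟨q, hq | ⟨l, hl, rfl⟩, rfl⟩
        · exact hlt.le (hmem.mpr ⟨q, hq, rfl⟩)
        · rw [← E.sv_mul hr (hLlt l hl)]
          exact mul_mem hrW (hlt.le (hmem.mpr ⟨l, hl, rfl⟩))

end Emb

end Cfsg.Agent.H7Held
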